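import Cfsg.Agent.Lib.Char.Formulas
import Cfsg.Agent.Lib.Char.Induced

/-!
A class product identity, and generalized characters of small norm.
-/

set_option autoImplicit false
set_option linter.unusedSectionVars false

namespace Cfsg.Lib.ZStar

open Cfsg
open scoped ComplexConjugate

universe u

variable {G : Type u} [Group G] [Fintype G]

/-- A class function vanishing on all products of two class members. -/
theorem sum_classInner_mul_mul {f : G → ℂ} {a b : G}
    (hf : ∀ x y : G, IsConj a x → IsConj b y → f (x * y) = 0) :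
    ∑ χ : IrrCharacter G,
      classInner f (χ : G → ℂ) * ((χ : G → ℂ) a * (χ : G → ℂ) b) / (χ : G → ℂ) 1 = 0 := by
  classical
  set T : G → ℂ := fun g =>
    ∑ χ : IrrCharacter G,
      (χ : G → ℂ) a * (χ : G → ℂ) b * conj ((χ : G → ℂ) g) / (χ : G → ℂ) 1 with hT
  have hzero : ∀ g : G, f g * T g = 0 := by
    intro g
    by_cases h : f g = 0
    · rw [h, zero_mul]
    · have hempty : ((Char.classFinset a ×ˢ Char.classFinset b).filter
          fun p => p.1 * p.2 = g) = ∅ := by
        rw [Finset.filter_eq_empty_iff]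
        intro p hp hpg
        rw [Finset.mem_product, Char.mem_classFinset, Char.mem_classFinset] at hp
        exact h (hpg ▸ hf _ _ hp.1 hp.2)
      have h1 := Char.card_class_product a b g
      rw [hempty, Finset.card_empty, Nat.cast_zero, eq_comm, mul_eq_zero] at h1
      rcases h1 with h1 | h1
      · exfalso
        have ha : (Char.classFinset a).card ≠ 0 :=
          Finset.card_ne_zero_of_mem (Char.mem_classFinset.2 (IsConj.refl a))
        have hb : (Char.classFinset b).card ≠ 0 :=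
          Finset.card_ne_zero_of_mem (Char.mem_classFinset.2 (IsConj.refl b))
        exact div_ne_zero (mul_ne_zero (Nat.cast_ne_zero.2 ha) (Nat.cast_ne_zero.2 hb))
          Char.card_cast_ne_zero h1
      · rw [show T g = 0 from h1, mul_zero]
  have key : ∀ χ : IrrCharacter G,
      classInner f (χ : G → ℂ) * ((χ : G → ℂ) a * (χ : G → ℂ) b) / (χ : G → ℂ) 1 =
        (Nat.card G : ℂ)⁻¹ * ∑ g : G, f g *
          ((χ : G → ℂ) a * (χ : G → ℂ) b * conj ((χ : G → ℂ) g) / (χ : G → ℂ) 1) := by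
    intro χ
    simp only [classInner, Finset.mul_sum, Finset.sum_mul, Finset.sum_div]
    refine Finset.sum_congr rfl fun g _ => ?_
    ring
  rw [Finset.sum_congr rfl fun χ _ => key χ, ← Finset.mul_sum, Finset.sum_comm]
  simp only [← Finset.mul_sum]
  rw [Finset.sum_eq_zero fun g _ => hzero g, mul_zero]

/-- Integer coordinates of a generalized character. -/
theorem exists_int_coords {F : G → ℂ} (hF : IsGeneralizedCharacter G F) :
    ∃ a : IrrCharacter G → ℤ, (∀ χ : IrrCharacter G, classInner F (χ : G → ℂ) = a χ) ∧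
      (∀ g : G, F g = ∑ χ : IrrCharacter G, (a χ : ℂ) * (χ : G → ℂ) g) ∧
      classInner F F = ∑ χ : IrrCharacter G, ((a χ ^ 2 : ℤ) : ℂ) := by
  classical
  choose a ha using fun χ : IrrCharacter G => hF.exists_int_classInner χ.2.isGeneralized
  have hexp : F = ∑ χ : IrrCharacter G, (a χ : ℂ) • (χ : G → ℂ) := by
    conv_lhs => rw [Char.eq_sum_classInner hF.isClassFunction]
    simp only [ha]
  refine ⟨a, ha, fun g => ?_, ?_⟩
  · conv_lhs => rw [hexp]
    simp
  · conv_lhs => arg 1; rw [hexp]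
    rw [Char.classInner_sum_left]
    refine Finset.sum_congr rfl fun χ _ => ?_
    rw [Char.classInner_smul_left, ← Char.classInner_conj_symm, ha]
    simp [pow_two]

/-- Two units when a sum of squares is two. -/
theorem exists_pair_of_sum_sq_two {ι : Type*} (s : Finset ι) (a : ι → ℤ)
    (h : ∑ i ∈ s, a i ^ 2 = 2) :
    ∃ i ∈ s, ∃ j ∈ s, i ≠ j ∧ (a i = 1 ∨ a i = -1) ∧ (a j = 1 ∨ a j = -1) ∧
      ∀ k ∈ s, k ≠ i → k ≠ j → a k = 0 := by
  classical
  have hle : ∀ i ∈ s, a i ^ 2 ≤ 1 := by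
    intro i hi
    have h1 : a i ^ 2 ≤ 2 := h ▸ Finset.single_le_sum (fun j _ => sq_nonneg (a j)) hi
    have h2 : -1 ≤ a i ∧ a i ≤ 1 := by constructor <;> nlinarith
    obtain ⟨h3, h4⟩ := h2
    interval_cases (a i) <;> norm_num
  have hunit : ∀ i ∈ s, a i ≠ 0 → a i = 1 ∨ a i = -1 := by
    intro i hi h0
    have h1 := hle i hi
    have h2 : -1 ≤ a i ∧ a i ≤ 1 := by constructor <;> nlinarith
    omega
  have hval : ∀ i ∈ s.filter (fun i => a i ≠ 0), a i ^ 2 = 1 := by
    intro i hi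
    rw [Finset.mem_filter] at hi
    rcases hunit i hi.1 hi.2 with h1 | h1 <;> rw [h1] <;> norm_num
  have hcard : (s.filter fun i => a i ≠ 0).card = 2 := by
    have h1 : ∑ i ∈ s.filter (fun i => a i ≠ 0), a i ^ 2 = 2 := by
      rw [Finset.sum_filter_of_ne]
      · exact h
      · intro i _ hi h0; exact hi (by rw [h0]; norm_num)
    rw [Finset.sum_congr rfl hval] at h1
    simp only [Finset.sum_const, nsmul_eq_mul, mul_one] at h1
    exact_mod_cast h1
  obtain ⟨i, j, hij, hs⟩ := Finset.card_eq_two.1 hcard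
  have hi : i ∈ s ∧ a i ≠ 0 := Finset.mem_filter.1 (hs ▸ Finset.mem_insert_self i {j})
  have hj : j ∈ s ∧ a j ≠ 0 :=
    Finset.mem_filter.1 (hs ▸ Finset.mem_insert_of_mem (Finset.mem_singleton_self j))
  refine ⟨i, hi.1, j, hj.1, hij, hunit i hi.1 hi.2, hunit j hj.1 hj.2, fun k hk hki hkj => ?_⟩
  by_contra h0
  have hmem : k ∈ s.filter fun i => a i ≠ 0 := Finset.mem_filter.2 ⟨hk, h0⟩
  rw [hs, Finset.mem_insert, Finset.mem_singleton] at hmem
  tauto

/-- Two irreducible characters beside the trivial one in a norm-three function of degree zero. -/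
theorem exists_two_of_norm_three {F : G → ℂ} (hF : IsGeneralizedCharacter G F)
    (h1 : classInner F (fun _ => 1) = 1) (h3 : classInner F F = 3) (hdeg : F 1 = 0) :
    ∃ χ₁ χ₂ : IrrCharacter G, (χ₁ : G → ℂ) ≠ (fun _ => 1) ∧ (χ₂ : G → ℂ) ≠ (fun _ => 1) ∧
      ∀ g, F g = 1 - (χ₁ : G → ℂ) g + (χ₂ : G → ℂ) g := by
  classical
  obtain ⟨a, ha, hexp, hnorm⟩ := exists_int_coords hF
  obtain ⟨t, ht⟩ : ∃ t : IrrCharacter G, (t : G → ℂ) = fun _ => 1 :=
    ⟨⟨fun _ => 1, Char.isIrrCharacter_one⟩, rfl⟩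
  have hat : a t = 1 := by
    have h2 := ha t
    rw [ht, h1] at h2
    exact_mod_cast h2.symm
  have hsum : ∑ χ ∈ Finset.univ.erase t, a χ ^ 2 = 2 := by
    have h2 : (3 : ℂ) = ((∑ χ : IrrCharacter G, a χ ^ 2 : ℤ) : ℂ) := by
      rw [← h3, hnorm]; push_cast; rfl
    have h2' : (3 : ℤ) = ∑ χ : IrrCharacter G, a χ ^ 2 := by exact_mod_cast h2
    rw [← Finset.add_sum_erase _ _ (Finset.mem_univ t), hat] at h2'
    linarith
  obtain ⟨i, hi, j, hj, hij, hai, haj, hzero⟩ := exists_pair_of_sum_sq_two _ a hsum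
  have hexp' : ∀ g, F g = 1 + (a i : ℂ) * (i : G → ℂ) g + (a j : ℂ) * (j : G → ℂ) g := by
    intro g
    rw [hexp g, ← Finset.add_sum_erase _ _ (Finset.mem_univ t), hat, ht,
      Finset.sum_eq_add i j hij (fun k hk hne => by
        rw [hzero k hk hne.1 hne.2, Int.cast_zero, zero_mul]) (fun h => absurd hi h)
        (fun h => absurd hj h)]
    push_cast; ring
  have hne : ∀ k ∈ Finset.univ.erase t, (k : G → ℂ) ≠ fun _ => 1 := fun k hk h =>
    (Finset.mem_erase.1 hk).1 (Subtype.ext (h.trans ht.symm))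
  obtain ⟨di, hdi⟩ := (⟨_, i.2.isCharacter.apply_one_eq_charDegree⟩ : ∃ d : ℕ, (i : G → ℂ) 1 = d)
  obtain ⟨dj, hdj⟩ := (⟨_, j.2.isCharacter.apply_one_eq_charDegree⟩ : ∃ d : ℕ, (j : G → ℂ) 1 = d)
  have hdi0 : di ≠ 0 := fun h => i.2.apply_one_ne_zero (by rw [hdi, h, Nat.cast_zero])
  have hdj0 : dj ≠ 0 := fun h => j.2.apply_one_ne_zero (by rw [hdj, h, Nat.cast_zero])
  have hd : (0 : ℤ) = 1 + a i * di + a j * dj := by
    have h2 := hexp' 1
    rw [hdeg, hdi, hdj] at h2
    exact_mod_cast h2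
  rcases hai with hai | hai <;> rcases haj with haj | haj
  · rw [hai, haj] at hd; omega
  · refine ⟨j, i, hne j hj, hne i hi, fun g => ?_⟩
    rw [hexp' g, hai, haj]; push_cast; ring
  · refine ⟨i, j, hne i hi, hne j hj, fun g => ?_⟩
    rw [hexp' g, hai, haj]; push_cast; ring
  · rw [hai, haj] at hd; omega

end Cfsg.Lib.ZStar
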