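import Cfsg.Agent.Lib.ZStar.Basic
import Cfsg.Agent.Lib.ZStar.ClassProduct
import Cfsg.Agent.Lib.Char.Linear
import Cfsg.Agent.Lib.Invol.SylowTools
import Cfsg.Agent.Lib.Invol.Quaternion

/-!
Generalized quaternion Sylow 2-subgroups of order at least 16 (Brauer-Suzuki).
-/

set_option autoImplicit false
set_option linter.unusedSectionVars false
set_option linter.style.haveILetI false

namespace Cfsg.Lib.ZStar

open Cfsg Subgroup
open scoped ComplexConjugate

universe u

section Induce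

variable {G : Type u} [Group G] [Fintype G]

/-- Two characters differing by one away from a section. -/
theorem exists_pair_of_section (D : Subgroup G) (y : G) (hyD : y ∉ D) (ν : D →* ℂˣ)
    (hν2 : ∃ d : D, ν d * ν d ≠ 1)
    (hy : ∀ d : D, ∃ h : y * (d : G) * y⁻¹ ∈ D, ν ⟨_, h⟩ = (ν d)⁻¹)
    (hTI : ∀ (g : G) (d : D), ν d ≠ 1 → ∀ h : g * (d : G) * g⁻¹ ∈ D, ν ⟨_, h⟩ ≠ 1 →
      g ∈ D ∨ y⁻¹ * g ∈ D)
    (h4 : ∀ d : D, ν d ≠ 1 → 4 ∣ orderOf (d : G)) :
    ∃ χ₁ χ₂ : IrrCharacter G, (χ₁ : G → ℂ) ≠ (fun _ => 1) ∧ (χ₂ : G → ℂ) ≠ (fun _ => 1) ∧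
      (χ₁ : G → ℂ) 1 = (χ₂ : G → ℂ) 1 + 1 ∧
      ∀ g : G, ¬ 4 ∣ orderOf g → (χ₁ : G → ℂ) g - (χ₂ : G → ℂ) g = 1 := by
  classical
  haveI := Fintype.ofFinite D
  set μ : D →* ℂˣ := ν⁻¹ with hμ
  have hirr1 : IsIrrCharacter D (fun _ : D => (1 : ℂ)) := Char.isIrrCharacter_one
  have hirrν : IsIrrCharacter D (fun d => (ν d : ℂ)) := Char.isIrrCharacter_linear ν
  have hirrμ : IsIrrCharacter D (fun d => (μ d : ℂ)) := Char.isIrrCharacter_linear μ
  obtain ⟨d₀, hd₀⟩ := hν2
  have hν1 : (fun d : D => (ν d : ℂ)) ≠ fun _ => 1 := fun h => hd₀ (by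
    rw [Units.val_eq_one.1 (congrFun h d₀), mul_one])
  have hμ1 : (fun d : D => (μ d : ℂ)) ≠ fun _ => 1 := fun h => hd₀ (by
    have h1 : μ d₀ = 1 := Units.val_eq_one.1 (congrFun h d₀)
    rw [hμ, MonoidHom.inv_apply, inv_eq_one] at h1
    rw [h1, mul_one])
  have hνμ : (fun d : D => (ν d : ℂ)) ≠ fun d => (μ d : ℂ) := fun h => hd₀ (by
    have h1 : ν d₀ = μ d₀ := Units.ext (congrFun h d₀)
    rw [hμ, MonoidHom.inv_apply] at h1
    rw [mul_eq_one_iff_eq_inv]; exact h1)
  set f : D → ℂ := (fun _ : D => (1 : ℂ)) - (fun d => (ν d : ℂ)) with hf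
  set f' : D → ℂ := (fun _ : D => (1 : ℂ)) - (fun d => (μ d : ℂ)) with hf'
  have hfc : IsGeneralizedCharacter D f := hirr1.isGeneralized.sub hirrν.isGeneralized
  set F : G → ℂ := indFun D f with hF
  have hFg : IsGeneralizedCharacter G F := Char.isGeneralizedCharacter_indFun D hfc
  have hf0 : ∀ d : D, f d ≠ 0 → ν d ≠ 1 := fun d hd h => hd (by
    simp [hf, h])
  have hvan : ∀ g : G, ¬ 4 ∣ orderOf g → F g = 0 := by
    intro g hg
    rw [hF]
    simp only [indFun]
    rw [Finset.sum_eq_zero fun x _ => ?_, mul_zero]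
    by_cases hx : x⁻¹ * g * x ∈ D
    · rw [Char.extendByZero_of_mem D f hx]
      by_contra hne
      refine hg ?_
      have h1 : 4 ∣ orderOf (x⁻¹ * g * x) := h4 ⟨_, hx⟩ (hf0 _ hne)
      have h2 := Invol.orderOf_conj_eq x⁻¹ g
      rw [inv_inv] at h2
      rwa [h2] at h1
    · exact Char.extendByZero_of_notMem D f hx
  have hF1 : F 1 = 0 := by rw [hF, Char.indFun_apply_one]; simp [hf]
  have h1 : classInner F (fun _ => 1) = 1 := by
    rw [hF, Char.classInner_indFun D f Char.isIrrCharacter_one.isClassFunction, hf,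
      Char.classInner_sub_left]
    show classInner (fun _ : D => (1 : ℂ)) (fun _ => 1) - classInner _ (fun _ => 1) = 1
    rw [Char.classInner_irr_self hirr1, Char.classInner_irr_ne hirrν hirr1 hν1, sub_zero]
  have hres : ∀ d : D, f d ≠ 0 → F d = f d + f' d := by
    intro d hd
    have hνd := hf0 d hd
    have hterm : ∀ x : G, extendByZero D f (x⁻¹ * d * x) =
        extendByZero D (fun _ => f d) x + extendByZero D (fun _ => f' d) (x * y) := by
      intro x
      by_cases hxD : x ∈ D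
      · have hxy : x * y ∉ D := fun h => hyD (by simpa using D.mul_mem (D.inv_mem hxD) h)
        rw [Char.extendByZero_of_mem D _ hxD, Char.extendByZero_of_notMem D _ hxy, add_zero,
          Char.extendByZero_of_mem D f (D.mul_mem (D.mul_mem (D.inv_mem hxD) d.2) hxD)]
        have h2 := hfc.isClassFunction d (⟨x, hxD⟩ : D)⁻¹
        rw [inv_inv] at h2
        exact h2
      · rw [Char.extendByZero_of_notMem D _ hxD, zero_add]
        by_cases hxy : x * y ∈ D
        · rw [Char.extendByZero_of_mem D _ hxy]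
          set c : D := (⟨x * y, hxy⟩ : D)⁻¹ * d * ⟨x * y, hxy⟩ with hc
          obtain ⟨hmem, hval⟩ := hy c
          have e : x⁻¹ * (d : G) * x = y * (c : G) * y⁻¹ := by
            simp only [hc, Subgroup.coe_mul, InvMemClass.coe_inv, mul_inv_rev]
            group
          rw [e, Char.extendByZero_of_mem D f hmem]
          have hνc : ν c = ν d := by
            rw [hc, map_mul, map_mul, map_inv, mul_comm (_)⁻¹, mul_assoc, inv_mul_cancel,
              mul_one]
          simp only [hf, hf', hμ, Pi.sub_apply, hval, hνc, MonoidHom.inv_apply]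
        · rw [Char.extendByZero_of_notMem D _ hxy]
          by_cases hm : x⁻¹ * (d : G) * x ∈ D
          · rw [Char.extendByZero_of_mem D f hm]
            by_contra hne
            have h2 := hTI x⁻¹ d hνd (by rwa [inv_inv])
            simp only [inv_inv] at h2
            rcases h2 (hf0 _ hne) with h3 | h3
            · exact hxD (inv_mem_iff.1 h3)
            · exact hxy (by simpa using D.inv_mem h3)
          · exact Char.extendByZero_of_notMem D f hm
    rw [hF]
    simp only [indFun, hterm, Finset.sum_add_distrib]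
    rw [show ∑ x : G, extendByZero D (fun _ => f' d) (x * y) =
        ∑ x : G, extendByZero D (fun _ => f' d) x from
      Equiv.sum_comp (Equiv.mulRight y) (fun x => extendByZero D (fun _ => f' d) x)]
    have hsum : ∀ c : ℂ, ∑ x : G, extendByZero D (fun _ => c) x = (Nat.card D : ℂ) * c := by
      intro c
      have h2 := Char.sum_extendByZero D (fun _ : D => c) (fun _ => (1 : ℂ))
      simp only [mul_one, Finset.sum_const, Finset.card_univ, nsmul_eq_mul,
        ← Nat.card_eq_fintype_card] at h2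
      exact h2
    rw [hsum, hsum, ← mul_add, ← mul_assoc,
      inv_mul_cancel₀ (Nat.cast_ne_zero.2 Nat.card_pos.ne'), one_mul]
  have h3 : classInner F F = 3 := by
    rw [hF, Char.classInner_indFun D f (Char.isClassFunction_indFun D _), ← hF]
    have e : classInner f (fun d : D => F d) = classInner f (f + f') := by
      simp only [classInner]
      congr 1
      refine Finset.sum_congr rfl fun d _ => ?_
      by_cases hd : f d = 0
      · rw [hd, zero_mul, zero_mul]
      · rw [hres d hd, Pi.add_apply]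
    rw [e, Char.classInner_add_right, hf, hf', Char.classInner_sub_left,
      Char.classInner_sub_right, Char.classInner_sub_right, Char.classInner_sub_left,
      Char.classInner_sub_right, Char.classInner_sub_right, Char.classInner_irr_self hirr1,
      Char.classInner_irr_self hirrν, Char.classInner_irr_ne hirr1 hirrν (Ne.symm hν1),
      Char.classInner_irr_ne hirrν hirr1 hν1, Char.classInner_irr_ne hirr1 hirrμ (Ne.symm hμ1),
      Char.classInner_irr_ne hirrν hirrμ hνμ]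
    norm_num
  obtain ⟨χ₁, χ₂, hn1, hn2, hexp⟩ := exists_two_of_norm_three hFg h1 h3 hF1
  refine ⟨χ₁, χ₂, hn1, hn2, ?_, fun g hg => ?_⟩
  · have h2 := hexp 1
    rw [hF1] at h2
    linear_combination h2
  · have h2 := hexp g
    rw [hvan g hg] at h2
    linear_combination h2

end Induce

variable {G : Type u} [Group G] [Finite G]

/-- Generators of a generalized quaternion Sylow 2-subgroup. -/
theorem exists_quaternion_generators (S : Sylow 2 G) {n : ℕ}
    (e : (S : Subgroup G) ≃* QuaternionGroup (2 ^ n)) :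
    ∃ a y : G, a ∈ (S : Subgroup G) ∧ y ∈ (S : Subgroup G) ∧ orderOf a = 2 ^ (n + 1) ∧
      y * a * y⁻¹ = a⁻¹ ∧ (∀ s ∈ (S : Subgroup G), s ∈ zpowers a ∨ y⁻¹ * s ∈ zpowers a) ∧
      Nat.card (S : Subgroup G) = 2 ^ (n + 2) ∧
      (∀ s ∈ (S : Subgroup G), orderOf s = 2 → s = a ^ (2 ^ n)) := by
  haveI : NeZero (2 ^ n) := ⟨(Nat.two_pow_pos n).ne'⟩
  set a : G := ((e.symm (QuaternionGroup.a 1) : (S : Subgroup G)) : G) with ha
  set y : G := ((e.symm (QuaternionGroup.xa 0) : (S : Subgroup G)) : G) with hy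
  have hpow : ∀ i : ZMod (2 * 2 ^ n), a ^ (i.val) =
      ((e.symm (QuaternionGroup.a i) : (S : Subgroup G)) : G) := by
    intro i
    rw [ha, ← SubmonoidClass.coe_pow, ← map_pow, QuaternionGroup.a_one_pow,
      ZMod.natCast_zmod_val]
  refine ⟨a, y, SetLike.coe_mem _, SetLike.coe_mem _, ?_, ?_, ?_, ?_, ?_⟩
  · rw [ha, Subgroup.orderOf_coe, MulEquiv.orderOf_eq, QuaternionGroup.orderOf_a_one, pow_succ,
      mul_comm]
  · rw [ha, hy, ← InvMemClass.coe_inv, ← InvMemClass.coe_inv, ← Subgroup.coe_mul,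
      ← Subgroup.coe_mul, ← map_inv, ← map_inv, ← map_mul, ← map_mul]
    congr 2
    rw [mul_inv_eq_iff_eq_mul]
    show QuaternionGroup.xa 0 * QuaternionGroup.a 1 = QuaternionGroup.a (-1) * QuaternionGroup.xa 0
    rw [QuaternionGroup.xa_mul_a, QuaternionGroup.a_mul_xa, zero_add, zero_sub, neg_neg]
  · intro s hs
    have hse : s = ((e.symm (e ⟨s, hs⟩) : (S : Subgroup G)) : G) := by
      rw [MulEquiv.symm_apply_apply]
    cases hq : e ⟨s, hs⟩ with
    | a i =>
      left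
      rw [hse, hq, ← hpow]
      exact pow_mem (mem_zpowers a) _
    | xa i =>
      right
      have h1 : (QuaternionGroup.xa i : QuaternionGroup (2 ^ n)) =
          QuaternionGroup.xa 0 * QuaternionGroup.a i := by
        rw [QuaternionGroup.xa_mul_a, zero_add]
      rw [hse, hq, h1, map_mul, Subgroup.coe_mul, ← hy, inv_mul_cancel_left, ← hpow]
      exact pow_mem (mem_zpowers a) _
  · rw [Nat.card_congr e.toEquiv, Nat.card_eq_fintype_card, QuaternionGroup.card, pow_succ,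
      pow_succ]
    ring
  · intro s hs h2
    have h1 : orderOf (e ⟨s, hs⟩) = 2 := by rw [MulEquiv.orderOf_eq, Subgroup.orderOf_mk, h2]
    have h3 := Invol.quaternion_eq_of_orderOf_two h1
    have h4 : s = ((e.symm (e ⟨s, hs⟩) : (S : Subgroup G)) : G) := by
      rw [MulEquiv.symm_apply_apply]
    rw [h4, h3, ha, ← SubmonoidClass.coe_pow, ← map_pow, QuaternionGroup.a_one_pow]

/-- A homomorphism into roots of unity of two-power order is determined on a Sylow 2-subgroup
with a complement of odd order. -/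
theorem hom_eq_one_of_complement {D : Type*} [Group D] [Finite D] (K P : Subgroup D)
    (hc : K.IsComplement' P) (hK : Odd (Nat.card K)) (ψ : D →* ℂˣ) (k : ℕ)
    (hpow : ∀ d, ψ d ^ (2 ^ k) = 1) (hP : ∀ x ∈ P, ψ x = 1) (d : D) : ψ d = 1 := by
  obtain ⟨⟨⟨c, hcK⟩, ⟨x, hx⟩⟩, rfl⟩ := hc.surjective d
  show ψ (c * x) = 1
  rw [map_mul, hP x hx, mul_one]
  have h1 : orderOf (ψ c) ∣ Nat.card K := by
    refine (orderOf_map_dvd ψ c).trans ?_
    exact Subgroup.orderOf_dvd_natCard K hcK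
  exact orderOf_eq_one_iff.1 (Nat.eq_one_of_dvd_coprimes
    (Nat.Coprime.pow_left k (Nat.coprime_two_left.2 hK))
    (orderOf_dvd_of_pow_eq_one (hpow c)) h1)

/-- The exceptional pair for a generalized quaternion Sylow 2-subgroup of order at least 16. -/
theorem exists_pair_quaternion [Fintype G] (S : Sylow 2 G) {n : ℕ}
    (e : (S : Subgroup G) ≃* QuaternionGroup (2 ^ (n + 2))) :
    ∃ χ₁ χ₂ : IrrCharacter G, (χ₁ : G → ℂ) ≠ (fun _ => 1) ∧ (χ₂ : G → ℂ) ≠ (fun _ => 1) ∧
      (χ₁ : G → ℂ) 1 = (χ₂ : G → ℂ) 1 + 1 ∧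
      ∀ g : G, ¬ 4 ∣ orderOf g → (χ₁ : G → ℂ) g - (χ₂ : G → ℂ) g = 1 := by
  classical
  haveI : Fact (Nat.Prime 2) := ⟨Nat.prime_two⟩
  obtain ⟨a, y, haS, hyS, hoa, hya, hdec, hcardS, hinv⟩ := exists_quaternion_generators S e
  set r := a ^ (2 ^ (n + 1)) with hr
  have hor : orderOf r = 4 := by
    rw [hr, orderOf_pow_of_dvd (Nat.two_pow_pos _).ne'
      (hoa ▸ pow_dvd_pow 2 (by omega)), hoa, show n + 2 + 1 = (n + 1) + 2 by omega, pow_add,
      Nat.mul_div_cancel_left _ (Nat.two_pow_pos _)]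
    norm_num
  have hyr : y * r * y⁻¹ = r⁻¹ := by rw [hr, ← conj_pow, hya, inv_pow]
  have hrne : r⁻¹ ≠ r := by
    intro h
    have h1 : r ^ 2 = 1 := by rw [pow_two]; nth_rewrite 1 [← h]; exact inv_mul_cancel r
    have h2 := Nat.le_of_dvd two_pos (orderOf_dvd_of_pow_eq_one h1)
    omega
  set D : Subgroup G := centralizer ({r} : Set G) with hD
  have hmemD : ∀ x : G, x ∈ D ↔ x * r * x⁻¹ = r := fun x => by
    rw [hD, Subgroup.mem_centralizer_singleton_iff, mul_inv_eq_iff_eq_mul]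
  have hyD : y ∉ D := fun h => hrne (hyr.symm.trans ((hmemD y).1 h))
  have haD : a ∈ D := (hmemD a).2 (by
    rw [hr, mul_inv_eq_iff_eq_mul, ← pow_succ', ← pow_succ])
  set A : Subgroup D := zpowers (⟨a, haD⟩ : D) with hA
  have hcardA : Nat.card A = 2 ^ (n + 3) := by
    rw [hA, Nat.card_zpowers, Subgroup.orderOf_mk, hoa]
  have hmax : ∀ Q : Subgroup D, IsPGroup 2 Q → A ≤ Q → Q = A := by
    intro Q hQ hle
    refine (eq_of_le_of_card_ge hle ?_).symm
    obtain ⟨h, hh⟩ := Invol.exists_conj_mem_sylow S (hQ.map D.subtype)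
    set R : Subgroup G := (Q.map D.subtype).map (MulAut.conj h).toMonoidHom with hR
    have hRS : R ≤ (S : Subgroup G) := by
      rintro _ ⟨x, hx, rfl⟩
      exact hh x hx
    have hcR : Nat.card R = Nat.card Q := by
      rw [hR, card_map_of_injective (MulAut.conj h).injective, card_map_of_injective
        D.subtype_injective]
    obtain ⟨k, hk⟩ := hQ.exists_card_eq
    have h1 : 2 ^ (n + 3) ∣ 2 ^ k := by rw [← hk, ← hcardA]; exact card_dvd_of_le hle
    have h2 : 2 ^ k ∣ 2 ^ (n + 4) := by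
      rw [← hk, ← hcR, show n + 4 = n + 2 + 2 from rfl, ← hcardS]; exact card_dvd_of_le hRS
    rw [Nat.pow_dvd_pow_iff_le_right (by norm_num)] at h1 h2
    rw [hk, hcardA]
    refine Nat.pow_le_pow_right two_pos ?_
    by_contra hlt
    have hRtop : R = (S : Subgroup G) := eq_of_le_of_card_ge hRS (by
      rw [hcR, hk, hcardS]; exact Nat.pow_le_pow_right two_pos (by omega))
    set c := h * r * h⁻¹ with hc
    have hcomm : ∀ s ∈ (S : Subgroup G), s * c * s⁻¹ = c := by
      intro s hs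
      rw [← hRtop, hR] at hs
      obtain ⟨_, ⟨x, hx, rfl⟩, rfl⟩ := hs
      show h * (x : G) * h⁻¹ * c * (h * (x : G) * h⁻¹)⁻¹ = c
      rw [hc]
      calc _ = h * ((x : G) * r * (x : G)⁻¹) * h⁻¹ := by group
        _ = _ := by rw [(hmemD _).1 x.2]
    have hcS : c ∈ (S : Subgroup G) := by
      refine hh r ⟨(⟨a, haD⟩ : D) ^ (2 ^ (n + 1)), hle (pow_mem (mem_zpowers _) _), ?_⟩
      simp [hr]
    have hoc : orderOf c = 4 := by rw [hc, Invol.orderOf_conj_eq, hor]
    have hc1 := hcomm y hyS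
    rcases hdec c hcS with hca | hca
    · obtain ⟨i, hi⟩ := mem_zpowers_iff.1 hca
      rw [← hi, ← conj_zpow, hya, inv_zpow, inv_eq_iff_mul_eq_one, hi, ← pow_two] at hc1
      have := Nat.le_of_dvd two_pos (orderOf_dvd_of_pow_eq_one hc1)
      omega
    · obtain ⟨i, hi⟩ := mem_zpowers_iff.1 hca
      have hcy : c = y * a ^ i := by rw [hi, mul_inv_cancel_left]
      have h3 := hcomm a haS
      rw [hcy, mul_inv_eq_iff_eq_mul] at h3
      have h4 : y * a * a ^ i = a * y * a ^ i := by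
        rw [mul_assoc y a, ← zpow_one_add, show (1 : ℤ) + i = i + 1 by ring, zpow_add_one,
          ← mul_assoc]
        exact h3.symm.trans (mul_assoc a y _).symm
      have h5 : a⁻¹ = a := by
        rw [← hya, mul_inv_eq_iff_eq_mul]; exact mul_right_cancel h4
      have h6 : a ^ 2 = 1 := by rw [pow_two]; nth_rewrite 1 [← h5]; exact inv_mul_cancel a
      have h7 := Nat.le_of_dvd two_pos (orderOf_dvd_of_pow_eq_one h6)
      rw [hoa] at h7
      have : 2 ^ 3 ≤ 2 ^ (n + 2 + 1) := Nat.pow_le_pow_right two_pos (by omega)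
      omega
  have hAp : IsPGroup 2 A := IsPGroup.of_card hcardA
  set P : Sylow 2 D := ⟨A, hAp, fun hQ hle => hmax _ hQ hle⟩ with hP
  haveI hPc : IsCyclic (P : Subgroup D) := inferInstanceAs (IsCyclic (zpowers (⟨a, haD⟩ : D)))
  have heven : Even (Nat.card D) := by
    refine even_iff_two_dvd.2 ((dvd_pow_self 2 (show n + 3 ≠ 0 by omega)).trans ?_)
    rw [← hcardA]; exact card_subgroup_dvd_card A
  have hmin : (Nat.card D).minFac = 2 := Nat.minFac_eq_two_iff _ |>.mpr (even_iff_two_dvd.mp heven)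
  have hnc := hPc.normalizer_le_centralizer hmin
  set T := MonoidHom.transferSylow P hnc with hT
  have hcompl : T.ker.IsComplement' (P : Subgroup D) := IsCyclic.isComplement' hmin hPc
  have hodd : Odd (P : Subgroup D).index := by
    rw [← Nat.not_even_iff_odd, even_iff_two_dvd]; exact P.not_dvd_index
  have hKodd : Odd (Nat.card T.ker) := by rw [← hcompl.index_eq_card]; exact hodd
  set α : (P : Subgroup D) := ⟨⟨a, haD⟩, mem_zpowers _⟩ with hα
  have hαgen : ∀ x : (P : Subgroup D), x ∈ zpowers α := by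
    rintro ⟨x, hx⟩
    obtain ⟨i, rfl⟩ := mem_zpowers_iff.1 hx
    exact ⟨i, Subtype.ext (by simp [hα])⟩
  set ζ : ℂˣ := ((Complex.isPrimitiveRoot_exp (2 ^ (n + 2)) (Nat.two_pow_pos _).ne').isUnit
    (Nat.two_pow_pos _).ne').unit with hζ
  have hoζ : orderOf ζ = 2 ^ (n + 2) := by
    rw [← orderOf_units, hζ, IsUnit.unit_spec]
    exact (Complex.isPrimitiveRoot_exp _ (Nat.two_pow_pos _).ne').eq_orderOf.symm
  have hoα : orderOf α = 2 ^ (n + 3) := by
    rw [← Subgroup.orderOf_coe, hα, Subgroup.orderOf_mk, hoa]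
  set φ : (P : Subgroup D) →* ℂˣ := monoidHomOfForallMemZpowers hαgen
    (g' := ζ) (by rw [hoζ, hoα]; exact pow_dvd_pow 2 (by omega)) with hφ
  set ν : D →* ℂˣ := φ.comp T with hν
  have hpowν : ∀ d, ν d ^ (2 ^ (n + 2)) = 1 := by
    intro d
    obtain ⟨i, hi⟩ := mem_zpowers_iff.1 (hαgen (T d))
    show φ (T d) ^ (2 ^ (n + 2)) = 1
    rw [← hi, map_zpow, hφ, monoidHomOfForallMemZpowers_apply_gen, ← zpow_natCast, ← zpow_mul,
      mul_comm, zpow_mul, zpow_natCast, ← hoζ, pow_orderOf_eq_one, one_zpow]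
  have hνa : ν ⟨a, haD⟩ = ζ ^ (P : Subgroup D).index := by
    show φ (T (⟨a, haD⟩ : D)) = _
    have h1 := congrFun (MonoidHom.transferSylow_domRestrict_eq_pow P hnc) α
    rw [show T (⟨a, haD⟩ : D) = α ^ (P : Subgroup D).index from h1, map_pow, hφ,
      monoidHomOfForallMemZpowers_apply_gen]
  have hoνa : orderOf (ν ⟨a, haD⟩) = 2 ^ (n + 2) := by
    rw [hνa, Nat.Coprime.orderOf_pow (by
      rw [hoζ]; exact Nat.Coprime.pow_left _ (Nat.coprime_two_left.2 hodd)), hoζ]
  have hν2 : ν ⟨a, haD⟩ * ν ⟨a, haD⟩ ≠ 1 := by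
    intro h
    rw [← pow_two] at h
    have h1 := Nat.le_of_dvd two_pos (orderOf_dvd_of_pow_eq_one h)
    rw [hoνa] at h1
    have : 2 ^ 2 ≤ 2 ^ (n + 2) := Nat.pow_le_pow_right two_pos (by omega)
    omega
  have hconj : ∀ d : D, ∀ k : ℕ, orderOf d = 2 ^ k →
      ∃ c : D, ∃ i : ℤ, c * d * c⁻¹ = (⟨a, haD⟩ : D) ^ i := by
    intro d k hk
    obtain ⟨c, hc⟩ := Invol.exists_conj_mem_sylow P
      (IsPGroup.of_card (n := k) (by rw [Nat.card_zpowers, hk]) : IsPGroup 2 (zpowers d))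
    obtain ⟨i, hi⟩ := mem_zpowers_iff.1 (hc d (mem_zpowers d))
    exact ⟨c, i, hi.symm⟩
  have hconjν : ∀ c d : D, ν (c * d * c⁻¹) = ν d := fun c d => by
    rw [map_mul, map_mul, map_inv, mul_comm, inv_mul_cancel_left]
  have hpowa : ∀ (i : ℤ) (j : ℕ), j ≤ n + 2 + 1 → (a ^ i) ^ (2 ^ j) = 1 →
      ∃ l : ℤ, i = l * 2 ^ (n + 2 + 1 - j) := by
    intro i j hj h
    rw [← zpow_natCast, ← zpow_mul, ← orderOf_dvd_iff_zpow_eq_one, hoa] at h
    obtain ⟨l, hl⟩ := h
    refine ⟨l, mul_right_cancel₀ (pow_ne_zero j (two_ne_zero (α := ℤ))) ?_⟩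
    push_cast at hl
    rw [hl, mul_assoc l, ← pow_add, Nat.sub_add_cancel hj, mul_comm]
  have h4 : ∀ d : D, ν d ≠ 1 → 4 ∣ orderOf (d : G) := by
    intro d hd
    rw [Subgroup.orderOf_coe]
    by_contra h4
    obtain ⟨k, m, hm, hkm⟩ := Nat.exists_eq_two_pow_mul_odd (orderOf_pos d).ne'
    have hk : k ≤ 1 := by
      by_contra hk
      exact h4 (hkm ▸ dvd_mul_of_dvd_left (pow_dvd_pow 2 (show 2 ≤ k by omega)) m)
    have hdm : orderOf (d ^ m) = 2 ^ k := by
      rw [orderOf_pow_of_dvd hm.pos.ne' (hkm ▸ dvd_mul_left m _), hkm, Nat.mul_div_cancel _ hm.pos]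
    obtain ⟨c, i, hi⟩ := hconj (d ^ m) k hdm
    have h1 : (a ^ i) ^ (2 ^ 1) = 1 := by
      have h2 : (c * d ^ m * c⁻¹) ^ (2 ^ 1) = 1 := by
        rw [conj_pow, orderOf_dvd_iff_pow_eq_one.1 (by rw [hdm]; exact pow_dvd_pow 2 hk), mul_one,
          mul_inv_cancel]
      rw [hi] at h2
      simpa using congrArg Subtype.val h2
    obtain ⟨l, hl⟩ := hpowa i 1 (by omega) h1
    have h3 : ν d ^ m = 1 := by
      rw [← map_pow, ← hconjν c, hi, map_zpow, hl, show n + 2 + 1 - 1 = n + 2 by omega, mul_comm,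
        zpow_mul, show ((2 : ℤ) ^ (n + 2)) = ((2 ^ (n + 2) : ℕ) : ℤ) by push_cast; rfl,
        zpow_natCast, ← hoνa, pow_orderOf_eq_one, one_zpow]
    exact hd (orderOf_eq_one_iff.1 (Nat.eq_one_of_dvd_coprimes
      (Nat.Coprime.pow_left (n + 2) (Nat.coprime_two_left.2 hm))
      (orderOf_dvd_of_pow_eq_one (hpowν d)) (orderOf_dvd_of_pow_eq_one h3)))
  have hfour : ∀ d : D, orderOf d = 4 → (d : G) = r ∨ (d : G) = r⁻¹ := by
    intro d hd
    obtain ⟨c, i, hi⟩ := hconj d 2 hd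
    have h1 : (a ^ i) ^ (2 ^ 2) = 1 := by
      have h2 : (c * d * c⁻¹) ^ (2 ^ 2) = 1 := by
        rw [conj_pow, show 2 ^ 2 = orderOf d by rw [hd]; norm_num, pow_orderOf_eq_one, mul_one,
          mul_inv_cancel]
      rw [hi] at h2
      simpa using congrArg Subtype.val h2
    obtain ⟨l, hl⟩ := hpowa i 2 (by omega) h1
    have h2 : (c : G) * (d : G) * (c : G)⁻¹ = r ^ l := by
      have h3 := congrArg Subtype.val hi
      simp only [Subgroup.coe_mul, InvMemClass.coe_inv, SubgroupClass.coe_zpow] at h3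
      rw [h3, hl, show n + 2 + 1 - 2 = n + 1 by omega, mul_comm, zpow_mul, hr]
      norm_cast
    have h4' : ∀ l : ℤ, orderOf (r ^ l) = 4 → r ^ l = r ∨ r ^ l = r⁻¹ := by
      intro l hl4
      rw [← zpow_mod_orderOf, hor] at hl4 ⊢
      obtain hh | hh | hh | hh : l % (4 : ℕ) = 0 ∨ l % (4 : ℕ) = 1 ∨ l % (4 : ℕ) = 2 ∨
          l % (4 : ℕ) = 3 := by omega
      · rw [hh, zpow_zero, orderOf_one] at hl4; omega
      · rw [hh]; exact Or.inl (zpow_one r)
      · rw [hh, show (2 : ℤ) = ((2 : ℕ) : ℤ) from rfl, zpow_natCast,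
          orderOf_pow_of_dvd two_ne_zero (by rw [hor]; norm_num), hor] at hl4
        omega
      · refine Or.inr ?_
        rw [hh, eq_inv_iff_mul_eq_one, ← zpow_add_one, show (3 : ℤ) + 1 = ((4 : ℕ) : ℤ) from rfl,
          zpow_natCast, ← hor, pow_orderOf_eq_one]
    have h5 := h4' l (by rw [← h2, Invol.orderOf_conj_eq, Subgroup.orderOf_coe, hd])
    have hcr : ∀ x : G, x = r ∨ x = r⁻¹ → (c : G)⁻¹ * x * c = x := by
      intro x hx
      have h6 := (hmemD _).1 (D.inv_mem c.2)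
      rw [inv_inv] at h6
      rcases hx with rfl | rfl
      · exact h6
      · calc (c : G)⁻¹ * r⁻¹ * c = ((c : G)⁻¹ * r * c)⁻¹ := by group
          _ = r⁻¹ := by rw [h6]
    have e : (d : G) = (c : G)⁻¹ * (r ^ l) * c := by rw [← h2]; group
    rw [e, hcr _ h5]
    exact h5
  refine exists_pair_of_section D y hyD ν ⟨_, hν2⟩ (fun d => ?_) (fun g d hd h hd' => ?_) h4
  · have hmem : ∀ x ∈ D, y * x * y⁻¹ ∈ D := by
      intro x hx
      rw [hmemD] at hx ⊢
      calc y * x * y⁻¹ * r * (y * x * y⁻¹)⁻¹ = y * (x * (y⁻¹ * r * y) * x⁻¹) * y⁻¹ := by group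
        _ = r := by
          have e : y⁻¹ * r * y = r⁻¹ := by
            have h1 := congrArg (fun w => y⁻¹ * w⁻¹ * y) hyr
            simp only [inv_inv] at h1
            rw [← h1]; group
          have hyr' : y * r⁻¹ * y⁻¹ = r := by rw [← conj_inv, hyr, inv_inv]
          rw [e, show x * r⁻¹ * x⁻¹ = (x * r * x⁻¹)⁻¹ by group, hx, hyr']
    refine ⟨hmem d d.2, eq_inv_of_mul_eq_one_left ?_⟩
    set ψ : D →* ℂˣ := MonoidHom.mk' (fun d => ν ⟨_, hmem d d.2⟩ * ν d) (fun u v => by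
      show ν ⟨y * (u * v : D) * y⁻¹, _⟩ * ν (u * v) = _
      rw [show (⟨y * (u * v : D) * y⁻¹, hmem _ (u * v).2⟩ : D) =
        ⟨_, hmem u u.2⟩ * ⟨_, hmem v v.2⟩ from Subtype.ext (by simp [mul_assoc]),
        map_mul, map_mul, mul_mul_mul_comm]) with hψ
    refine hom_eq_one_of_complement T.ker P hcompl hKodd ψ (n + 2) (fun x => ?_) (fun x hx => ?_) d
    · show (ν _ * ν x) ^ _ = 1
      rw [mul_pow, hpowν, hpowν, mul_one]
    · obtain ⟨i, rfl⟩ := mem_zpowers_iff.1 hx
      rw [map_zpow]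
      have h1 : ψ ⟨a, haD⟩ = 1 := by
        show ν ⟨y * a * y⁻¹, _⟩ * ν ⟨a, haD⟩ = 1
        rw [show (⟨y * a * y⁻¹, hmem a haD⟩ : D) = (⟨a, haD⟩ : D)⁻¹ from Subtype.ext hya, map_inv,
          inv_mul_cancel]
      rw [h1, one_zpow]
  · have h4d := h4 d hd
    have h4d' := h4 _ hd'
    obtain ⟨k, hk⟩ := h4d
    have hk0 : k ≠ 0 := by
      intro h0
      have := orderOf_pos (d : G)
      rw [h0] at hk; omega
    have hob : orderOf ((d : G) ^ k) = 4 := by
      rw [orderOf_pow_of_dvd hk0 (hk ▸ dvd_mul_left k 4), hk,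
        Nat.mul_div_cancel _ (Nat.pos_of_ne_zero hk0)]
    have hb := hfour (d ^ k) (by rw [← Subgroup.orderOf_coe, SubmonoidClass.coe_pow, hob])
    have hb' := hfour ((⟨_, h⟩ : D) ^ k) (by
      rw [← Subgroup.orderOf_coe, SubmonoidClass.coe_pow, conj_pow, Invol.orderOf_conj_eq, hob])
    simp only [SubmonoidClass.coe_pow, conj_pow] at hb hb'
    have hgr : g * r * g⁻¹ = r ∨ g * r * g⁻¹ = r⁻¹ := by
      rcases hb with hb | hb <;> rw [hb] at hb'
      · exact hb'
      · rw [← conj_inv] at hb'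
        rcases hb' with hb' | hb'
        · exact Or.inr (inv_eq_iff_eq_inv.1 hb')
        · exact Or.inl (inv_injective hb')
    rcases hgr with hgr | hgr
    · exact Or.inl ((hmemD g).2 hgr)
    · refine Or.inr ((hmemD _).2 ?_)
      calc y⁻¹ * g * r * (y⁻¹ * g)⁻¹ = y⁻¹ * (g * r * g⁻¹) * y := by group
        _ = r := by rw [hgr, ← hyr]; group

/-- An isolated involution lies in the kernels of an exceptional pair. -/
theorem ker_of_pair [Fintype G] {z : G} (hz : IsIsolatedInvolution z) {χ₁ χ₂ : IrrCharacter G}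
    (hd : (χ₁ : G → ℂ) 1 = (χ₂ : G → ℂ) 1 + 1)
    (hv : ∀ g : G, ¬ 4 ∣ orderOf g → (χ₁ : G → ℂ) g - (χ₂ : G → ℂ) g = 1) :
    (χ₁ : G → ℂ) z = (χ₁ : G → ℂ) 1 := by
  classical
  set t : IrrCharacter G := ⟨fun _ => 1, Char.isIrrCharacter_one⟩ with ht
  set f : G → ℂ := (t : G → ℂ) - (χ₁ : G → ℂ) + (χ₂ : G → ℂ) with hf
  have h4 : ∀ x y : G, IsConj z x → IsConj z y → f (x * y) = 0 := by
    intro x y hx hy
    obtain ⟨g, rfl⟩ := isConj_iff.1 hx
    obtain ⟨h, rfl⟩ := isConj_iff.1 hy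
    have hodd := Invol.isolated_odd_product (Invol.isolated_conj hz g) (h * g⁻¹)
    rw [show h * g⁻¹ * (g * z * g⁻¹) * (h * g⁻¹)⁻¹ = h * z * h⁻¹ by group] at hodd
    have h4' : ¬ 4 ∣ orderOf (g * z * g⁻¹ * (h * z * h⁻¹)) := fun h4 =>
      Nat.not_even_iff_odd.2 hodd (even_iff_two_dvd.2 ((by norm_num : (2 : ℕ) ∣ 4).trans h4))
    simp only [hf, ht, Pi.add_apply, Pi.sub_apply]
    linear_combination -(hv _ h4')
  have key := sum_classInner_mul_mul h4
  have hsingle : ∀ φ : IrrCharacter G, ∑ χ : IrrCharacter G, classInner (φ : G → ℂ) (χ : G → ℂ) *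
      ((χ : G → ℂ) z * (χ : G → ℂ) z) / (χ : G → ℂ) 1 =
      (φ : G → ℂ) z * (φ : G → ℂ) z / (φ : G → ℂ) 1 := by
    intro φ
    rw [Finset.sum_eq_single φ]
    · rw [Char.classInner_irr_self φ.2, one_mul]
    · intro χ _ hne
      rw [Char.classInner_irr_ne φ.2 χ.2 (fun h => hne (Subtype.ext h.symm)), zero_mul, zero_div]
    · exact fun h => absurd (Finset.mem_univ _) h
  simp only [hf, Char.classInner_add_left, Char.classInner_sub_left, add_mul, sub_mul, add_div,
    sub_div, Finset.sum_add_distrib, Finset.sum_sub_distrib, hsingle] at key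
  have hbc := hv z (by rw [hz.1]; norm_num)
  have hq := χ₂.2.apply_one_ne_zero
  have hp := χ₁.2.apply_one_ne_zero
  set b := (χ₁ : G → ℂ) z
  set c := (χ₂ : G → ℂ) z
  set q := (χ₂ : G → ℂ) 1
  rw [hd] at key hp ⊢
  rw [show b = c + 1 by linear_combination hbc] at key ⊢
  simp only [ht] at key
  field_simp at key
  have h0 : (q - c) ^ 2 = 0 := by linear_combination key
  rw [pow_eq_zero_iff two_ne_zero, sub_eq_zero] at h0
  rw [h0]

/-- A nontrivial irreducible character has proper kernel. -/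
theorem charKer_ne_top [Fintype G] {χ : IrrCharacter G} (hne : (χ : G → ℂ) ≠ fun _ => 1) :
    Char.charKer χ.2.isCharacter ≠ ⊤ := by
  intro h
  have hconst : (χ : G → ℂ) = (χ : G → ℂ) 1 • fun _ : G => (1 : ℂ) := by
    funext g
    simp [(Char.mem_charKer χ.2.isCharacter).1 (h ▸ mem_top g)]
  have h1 := Char.classInner_irr_ne χ.2 (Char.isIrrCharacter_one (G := G)) hne
  rw [hconst, Char.classInner_smul_left, Char.classInner_irr_self Char.isIrrCharacter_one,
    mul_one] at h1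
  exact χ.2.apply_one_ne_zero h1

/-- The isolated involution is central when the Sylow 2-subgroup is quaternion of order at least
16, in a minimal situation. -/
theorem central_of_quaternion_large (ih : ZStarBelow.{u} (Nat.card G)) (hO : oddCore G = ⊥)
    {z : G} (hz : IsIsolatedInvolution z) (S : Sylow 2 G) {n : ℕ}
    (e : (S : Subgroup G) ≃* QuaternionGroup (2 ^ (n + 2))) (g : G) : Commute z g := by
  haveI := Fintype.ofFinite G
  obtain ⟨χ₁, χ₂, h1, -, hd, hv⟩ := exists_pair_quaternion S e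
  haveI := Char.charKer_normal χ₁.2.isCharacter
  exact central_of_normal_mem ih hO hz _ (charKer_ne_top h1)
    ((Char.mem_charKer χ₁.2.isCharacter).2 (ker_of_pair hz hd hv)) g

end Cfsg.Lib.ZStar
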