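import Cfsg.Agent.Lib.ZStar.EightVals
import Cfsg.Agent.Lib.ZStar.QuaternionLarge
import Cfsg.Agent.Lib.Char.TI
import Cfsg.Agent.Lib.Fusion.Tate
import Cfsg.Agent.Lib.Block.KleinCount

/-!
Quaternion Sylow 2-subgroups of order eight (Brauer-Suzuki).
-/

set_option autoImplicit false
set_option linter.unusedSectionVars false
set_option linter.style.haveILetI false
set_option maxHeartbeats 1000000

namespace Cfsg.Lib.ZStar

open Cfsg Subgroup
open scoped ComplexConjugate

universe u

theorem quaternion_two_squares : ∀ q : QuaternionGroup 2,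
    q ^ 4 = 1 ∧ (q * q = 1 → q = 1 ∨ q = QuaternionGroup.a 2) ∧
      q * QuaternionGroup.a 2 = QuaternionGroup.a 2 * q := by decide

variable {G : Type u} [Group G] [Finite G]

/-- The centralizer of the involution satisfies the local condition. -/
theorem eightCond_centralizer {z : G} (hz : IsIsolatedInvolution z) (S : Sylow 2 G)
    (hzS : z ∈ (S : Subgroup G)) (e : (S : Subgroup G) ≃* QuaternionGroup 2) :
    ∃ hzC : z ∈ centralizer ({z} : Set G),
      EightCond (centralizer ({z} : Set G)) ⟨z, hzC⟩ ∧ Nat.card (S : Subgroup G) = 8 ∧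
        (S : Subgroup G) ≤ centralizer ({z} : Set G) ∧
        ∃ x ∈ (S : Subgroup G), ∃ y ∈ (S : Subgroup G), x * y * x⁻¹ * y⁻¹ = z := by
  haveI : Fact (Nat.Prime 2) := ⟨Nat.prime_two⟩
  set C := centralizer ({z} : Set G) with hC
  have hzC : z ∈ C := mem_centralizer_singleton_iff.2 rfl
  obtain ⟨a, y, haS, hyS, hoa, hya, -, hcard, hinv⟩ :=
    exists_quaternion_generators (n := 1) S (by simpa using e)
  have hoa4 : orderOf a = 4 := by rw [hoa]; norm_num
  have hza : z = a ^ 2 := by simpa using hinv z hzS hz.1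
  have hfact : ∀ s ∈ (S : Subgroup G), s ^ 4 = 1 ∧ Commute s z := by
    intro s hs
    obtain ⟨h1, h2, h3⟩ := quaternion_two_squares (e ⟨s, hs⟩)
    have hez : e ⟨z, hzS⟩ = QuaternionGroup.a 2 := by
      obtain ⟨-, h, -⟩ := quaternion_two_squares (e ⟨z, hzS⟩)
      refine (h ?_).resolve_left fun h1 => ?_
      · rw [← map_mul, show (⟨z, hzS⟩ : (S : Subgroup G)) * ⟨z, hzS⟩ = 1 from
          Subtype.ext (Invol.inv_mul_self hz.1), map_one]
      · rw [map_eq_one_iff e e.injective] at h1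
        exact Invol.ne_one hz.1 (congrArg Subtype.val h1)
    refine ⟨?_, ?_⟩
    · rw [← map_pow, map_eq_one_iff e e.injective] at h1
      exact congrArg Subtype.val h1
    · rw [← hez, ← map_mul, ← map_mul] at h3
      exact congrArg Subtype.val (e.injective h3)
  have hinvol : ∀ x : G, x ∈ C → orderOf x = 2 → x = z := by
    intro x hxC hx
    obtain ⟨h, hh⟩ := Invol.exists_conj_mem_sylow S
      (IsPGroup.of_card (n := 1) (by rw [Nat.card_zpowers, hx, pow_one]) :
        IsPGroup 2 (zpowers x))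
    have h1 := hinv _ (hh x (mem_zpowers x)) (by rw [Invol.orderOf_conj_eq, hx])
    have h2 : x = h⁻¹ * z * (h⁻¹)⁻¹ := by
      rw [show z = h * x * h⁻¹ by rw [hza]; simpa using h1.symm]; group
    rw [h2]
    refine hz.2 h⁻¹ ?_
    rw [← h2]
    exact (mem_centralizer_singleton_iff.1 hxC).symm
  have himg : ∀ Q : Subgroup C, IsPGroup 2 Q → ∃ h : G,
      ((Q.map C.subtype).map (MulAut.conj h).toMonoidHom) ≤ (S : Subgroup G) ∧
      Nat.card ((Q.map C.subtype).map (MulAut.conj h).toMonoidHom) = Nat.card Q := by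
    intro Q hQ
    obtain ⟨h, hh⟩ := Invol.exists_conj_mem_sylow S (hQ.map C.subtype)
    refine ⟨h, ?_, ?_⟩
    · rintro _ ⟨x, hx, rfl⟩
      exact hh x hx
    · rw [card_map_of_injective (MulAut.conj h).injective, card_map_of_injective C.subtype_injective]
  refine ⟨hzC, ⟨by rw [Subgroup.orderOf_mk, hz.1],
    fun g => Subtype.ext (mem_centralizer_singleton_iff.1 g.2).symm,
    fun x hx => Subtype.ext (hinvol x x.2 (by rw [Subgroup.orderOf_coe, hx])),
    fun Q hQ => ?_, fun Q hQ x hx => ?_, fun Q hQ h8 => ?_⟩, by rw [hcard]; norm_num,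
    fun s hs => mem_centralizer_singleton_iff.2 (hfact s hs).2.eq,
    y, hyS, a, haS, by rw [hya, hza, eq_comm, ← mul_inv_rev, ← pow_two, eq_inv_iff_mul_eq_one,
      ← pow_add, show 2 + 2 = orderOf a from hoa4.symm, pow_orderOf_eq_one]⟩
  · obtain ⟨h, hle, hc⟩ := himg Q hQ
    rw [← hc, show (8 : ℕ) = 2 ^ (1 + 2) by norm_num, ← hcard]
    exact card_dvd_of_le hle
  · obtain ⟨h, hle, -⟩ := himg Q hQ
    have h1 := (hfact _ (hle (mem_map_of_mem _ (mem_map_of_mem _ hx)))).1
    refine Subtype.ext ?_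
    simp only [SubmonoidClass.coe_pow, Subgroup.coe_one]
    have h2 : h * (x : G) ^ 4 * h⁻¹ = 1 := by rw [← conj_pow]; exact h1
    simpa using h2
  · obtain ⟨h, hle, hc⟩ := himg Q hQ
    have heq := eq_of_le_of_card_ge hle (by rw [hc, h8, hcard]; norm_num)
    rw [← heq] at hyS haS
    obtain ⟨_, ⟨p, hp, rfl⟩, hpy⟩ := hyS
    obtain ⟨_, ⟨q, hq, rfl⟩, hqa⟩ := haS
    refine ⟨p, hp, q, hq, ?_, ?_⟩
    · rw [← Subgroup.orderOf_coe, ← Invol.orderOf_conj_eq h, ← hoa4, ← hqa]
      rfl
    · refine Subtype.ext ((MulAut.conj h).injective ?_)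
      have e1 : MulAut.conj h (p : G) = y := hpy
      have e2 : MulAut.conj h (q : G) = a := hqa
      simp only [Subgroup.coe_mul, InvMemClass.coe_inv, map_mul, map_inv, e1, e2]
      exact hya

/-- The isolated involution is central when the Sylow 2-subgroup is quaternion of order eight, in a
minimal situation. -/
theorem central_of_quaternion_eight (ih : ZStarBelow.{u} (Nat.card G)) (hO : oddCore G = ⊥)
    {z : G} (hz : IsIsolatedInvolution z) (S : Sylow 2 G) (hzS : z ∈ (S : Subgroup G))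
    (e : (S : Subgroup G) ≃* QuaternionGroup 2) (g : G) : Commute z g := by
  classical
  haveI : Fact (Nat.Prime 2) := ⟨Nat.prime_two⟩
  haveI := Fintype.ofFinite G
  obtain ⟨hzC, hc, hcardS, hSC, x₀, hx₀, y₀, hy₀, hxy₀⟩ := eightCond_centralizer hz S hzS e
  set C := centralizer ({z} : Set G) with hC
  set zC : C := ⟨z, hzC⟩ with hzCdef
  haveI := hc.normal
  haveI := Fintype.ofFinite C
  haveI := Fintype.ofFinite (C ⧸ zpowers zC)
  obtain ⟨P⟩ : Nonempty (Sylow 2 (C ⧸ zpowers zC)) := inferInstance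
  -- one class of involutions modulo the centre
  set g₀ := (S : Subgroup G).subgroupOf C |>.index with hg₀
  have hcardC : Nat.card C = 8 * g₀ := by
    rw [hg₀, ← ((S : Subgroup G).subgroupOf C).card_mul_index,
      Nat.card_congr (subgroupOfEquivOfLe hSC).toEquiv, hcardS]
  have hodd : Odd g₀ := by
    rw [← Nat.not_even_iff_odd, even_iff_two_dvd]
    exact fun hd => S.not_dvd_index (hd.trans (relIndex_dvd_index_of_le hSC))
  have hcardQ : Nat.card (C ⧸ zpowers zC) = 4 * g₀ := by
    have h1 := card_eq_card_quotient_mul_card_subgroup (zpowers zC)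
    rw [Nat.card_zpowers, hc.ord, hcardC] at h1
    omega
  by_cases hN : ∃ N : Subgroup (C ⧸ zpowers zC), N.Normal ∧ Nat.card N = g₀
  · obtain ⟨N, hNn, hNc⟩ := hN
    set L := N.comap (QuotientGroup.mk' (zpowers zC)) with hL
    have hLn : L.Normal := hNn.comap _
    have hLc : Nat.card L = 2 * g₀ := by
      rw [hL, Core.card_comap_eq _ (QuotientGroup.mk'_surjective _), QuotientGroup.ker_mk',
        Nat.card_zpowers, hc.ord, hNc]
    have hLi : Nat.card (C ⧸ L) = 2 ^ 2 := by
      have h1 := card_eq_card_quotient_mul_card_subgroup L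
      rw [hcardC, hLc] at h1
      refine Nat.eq_of_mul_eq_mul_right (show 0 < 2 * g₀ from Nat.mul_pos two_pos hodd.pos) ?_
      rw [← h1]; ring
    have hab : ∀ u v : C ⧸ L, u * v = v * u :=
      IsPGroup.commutative_of_card_eq_prime_sq (p := 2) hLi
    have hcomm : ⁅C, C⁆ ≤ L.map C.subtype := by
      refine Subgroup.commutator_le.2 fun u hu v hv =>
        ⟨(⟨u, hu⟩ : C) * ⟨v, hv⟩ * ⟨u, hu⟩⁻¹ * ⟨v, hv⟩⁻¹, ?_, rfl⟩
      show _ ∈ L
      rw [← QuotientGroup.eq_one_iff]
      simp only [QuotientGroup.mk_mul, QuotientGroup.mk_inv]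
      rw [hab _ (QuotientGroup.mk (⟨v, hv⟩ : C)), mul_inv_cancel_right, mul_inv_cancel]
    have hctrl := Fusion.commutator_inf_eq_of_controls S C hSC fun x hx k hk => by
      obtain ⟨c, -, hcz, hce⟩ := Invol.isolated_fusion hz (H := ⊤) (h := k) (fun _ _ => mem_top _)
        (mem_top _) (mem_centralizer_singleton_iff.1 (hSC hx))
        (mem_centralizer_singleton_iff.1 (hSC hk)) rfl
      exact ⟨c, mem_centralizer_singleton_iff.2 hcz.eq, hce⟩
    refine central_of_normal_mem ih hO hz (commutator G) (fun htop => ?_) ?_ g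
    · rw [htop, top_inf_eq] at hctrl
      have h1 : (S : Subgroup G) ≤ L.map C.subtype :=
        hctrl.le.trans (inf_le_left.trans hcomm)
      have h2 := card_dvd_of_le h1
      rw [hcardS, card_map_of_injective C.subtype_injective, hLc] at h2
      have h4 : 4 ∣ g₀ := by
        rw [show (8 : ℕ) = 2 * 4 by norm_num] at h2
        exact Nat.dvd_of_mul_dvd_mul_left two_pos h2
      exact Nat.not_even_iff_odd.2 hodd
        (even_iff_two_dvd.2 ((by norm_num : (2 : ℕ) ∣ 4).trans h4))
    · rw [← hxy₀, ← commutatorElement_def]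
      exact commutator_mem_commutator (mem_top _) (mem_top _)
  have hP : Block.KleinCond P := Block.kleinCond_of_no_complement hodd hcardQ hN
  obtain ⟨τ, -, hτ⟩ := hP.exists_involution
  obtain ⟨M, hM⟩ := Block.exists_isPModular Nat.prime_two
  set B := (principalBlock M (C ⧸ zpowers zC)).toFinset with hB
  set t₀ := Block.trivChar (C ⧸ zpowers zC) with ht₀
  have hmem : ∀ k ∈ B.erase t₀, k ∈ principalBlock M (C ⧸ zpowers zC) ∧ k ≠ t₀ := fun k hk =>
    ⟨Set.mem_toFinset.1 (Finset.mem_of_mem_erase hk), (Finset.mem_erase.1 hk).1⟩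
  -- the singular elements of the centralizer form a trivial intersection set
  set T : Set G := {x | x ∈ C ∧ ¬ IsPRegular 2 x} with hT
  have hpow : ∀ x ∈ T, x ^ (orderOf x / 2) = z := by
    rintro x ⟨hxC, hx⟩
    have h2 : 2 ∣ orderOf x := not_not.1 hx
    have hpos := orderOf_pos x
    have h1 : orderOf (⟨x ^ (orderOf x / 2), pow_mem hxC _⟩ : C) = 2 := by
      rw [Subgroup.orderOf_mk, orderOf_pow_of_dvd (by omega) (Nat.div_dvd_of_dvd h2),
        Nat.div_div_self h2 (by omega)]
    exact congrArg Subtype.val (hc.invol _ h1)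
  have hTI : ∀ x : G, x ∉ C → ∀ t ∈ T, t ≠ 1 → x * t * x⁻¹ ∉ T := by
    intro x hx t ht _ ht'
    have h1 := hpow _ ht'
    rw [Invol.orderOf_conj_eq, conj_pow, hpow t ht] at h1
    exact hx (mem_centralizer_singleton_iff.2 (mul_inv_eq_iff_eq_mul.1 h1))
  have hsupp : ∀ f : C → ℂ, (∀ c : C, IsPRegular 2 c → f c = 0) →
      ∀ c : C, (c : G) ∉ T → f c = 0 := fun f hf c hcT =>
    hf c fun hd => hcT ⟨c.2, fun hr => hr (by rwa [Subgroup.orderOf_coe])⟩
  set fb : C → ℂ := bFun M τ with hfb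
  have hfb0 : ∀ c : C, IsPRegular 2 c → fb c = 0 := fun c hcr =>
    bFun_regular hM hP hτ (hc.mk_regular hcr)
  have hfc0 : ∀ k, ∀ c : C, IsPRegular 2 c → cFun τ k c = 0 := fun k c hcr => cFun_regular hcr k
  have hone : IsPRegular 2 (1 : C) := by simp [IsPRegular]
  have hfbg := isGeneralized_bFun (C := C) (z := zC) hM hP hτ
  have hfcg := fun k (hk : k ∈ B.erase t₀) => isGeneralized_cFun hc hM hP hτ (hmem k hk).1
  have hvanish : ∀ f : C → ℂ, (∀ c : C, IsPRegular 2 c → f c = 0) →
      ∀ x : G, IsPRegular 2 x → indFun C f x = 0 := by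
    intro f hf x hx
    simp only [indFun]
    rw [Finset.sum_eq_zero fun v _ => ?_, mul_zero]
    by_cases hv : v⁻¹ * x * v ∈ C
    · rw [Char.extendByZero_of_mem C f hv]
      refine hf _ fun hd => hx ?_
      rw [Subgroup.orderOf_mk] at hd
      have h2 := Invol.orderOf_conj_eq v⁻¹ x
      rw [inv_inv] at h2
      rwa [h2] at hd
    · exact Char.extendByZero_of_notMem C f hv
  have hinnerTI : ∀ f f' : C → ℂ, (∀ c, IsPRegular 2 c → f c = 0) →
      (∀ c, IsPRegular 2 c → f' c = 0) → IsClassFunction C f' →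
      classInner (indFun C f) (indFun C f') = classInner f f' := fun f f' hf hf' hf'c =>
    Char.classInner_indFun_TI C T hTI hf'c (hsupp f hf) (hsupp f' hf') (hf 1 hone)
  have hzT : (zC : G) ∈ T := ⟨hzC, by
    show ¬ ¬ 2 ∣ orderOf z
    rw [hz.1]; norm_num⟩
  have hatz : ∀ f : C → ℂ, (∀ c, IsPRegular 2 c → f c = 0) → IsClassFunction C f →
      indFun C f z = f zC := fun f hf hfcl =>
    Char.indFun_eq_of_TI C T hTI hfcl (hsupp f hf) zC hzT (Invol.ne_one hz.1)
  have hone1 : ∀ f : C → ℂ, classInner (indFun C f) (fun _ => 1) = classInner f (fun _ => 1) :=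
    fun f => Char.classInner_indFun C f Char.isIrrCharacter_one.isClassFunction
  -- integral coordinates
  obtain ⟨a₀, ha₀, hexp₀, hn₀⟩ := exists_int_coords (Char.isGeneralizedCharacter_indFun C hfbg)
  choose a ha hexp hn using fun k (hk : k ∈ B.erase t₀) =>
    exists_int_coords (Char.isGeneralizedCharacter_indFun C (hfcg k hk))
  set t : IrrCharacter G := ⟨fun _ => 1, Char.isIrrCharacter_one⟩ with ht
  set s := (Finset.univ : Finset (IrrCharacter G)).erase t with hs
  have hat : a₀ t = 1 := by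
    have h1 := ha₀ t
    rw [hone1, classInner_bFun_one hM hP hτ] at h1
    exact_mod_cast h1.symm
  have hakt : ∀ k (hk : k ∈ B.erase t₀), a k hk t = 1 := fun k hk => by
    have h1 := ha k hk t
    rw [hone1, classInner_cFun_one hc hM hP hτ (hmem k hk).1 (hmem k hk).2] at h1
    exact_mod_cast h1.symm
  have hcross : ∀ (F F' : G → ℂ) (A A' : IrrCharacter G → ℤ), IsGeneralizedCharacter G F →
      (∀ χ : IrrCharacter G, classInner F (χ : G → ℂ) = A χ) →
      (∀ χ : IrrCharacter G, classInner F' (χ : G → ℂ) = A' χ) →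
      A t = 1 → A' t = 1 → classInner F' F = ((1 + ∑ χ ∈ s, A' χ * A χ : ℤ) : ℂ) := by
    intro F F' A A' hF hA hA' hAt hAt'
    conv_lhs => rw [Char.eq_sum_classInner hF.isClassFunction]
    rw [Char.classInner_sum_right, ← Finset.add_sum_erase _ _ (Finset.mem_univ t)]
    simp only [Char.classInner_smul_right, hA, hA', map_intCast, hAt, hAt', Int.cast_one, mul_one,
      map_one]
    push_cast
    rw [hs]
    congr 1
    exact Finset.sum_congr rfl fun χ _ => mul_comm _ _
  have hq0 : ∑ χ ∈ s, a₀ χ ^ 2 = 3 := by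
    have h1 := hcross _ _ a₀ a₀ (Char.isGeneralizedCharacter_indFun C hfbg) ha₀ ha₀ hat hat
    rw [hinnerTI _ _ hfb0 hfb0 hfbg.isClassFunction, classInner_bFun_self hM hP hτ] at h1
    have h2 : (4 : ℤ) = 1 + ∑ χ ∈ s, a₀ χ * a₀ χ := by exact_mod_cast h1
    simp only [pow_two]; linarith
  have hqk : ∀ k (hk : k ∈ B.erase t₀), ∑ χ ∈ s, a k hk χ ^ 2 = 2 := by
    intro k hk
    have h1 := hcross _ _ (a k hk) (a k hk) (Char.isGeneralizedCharacter_indFun C (hfcg k hk))
      (ha k hk) (ha k hk) (hakt k hk) (hakt k hk)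
    rw [hinnerTI _ _ (hfc0 k) (hfc0 k) (hfcg k hk).isClassFunction,
      classInner_cFun_cFun hc hM hP hτ (hmem k hk).1 (hmem k hk).1 (hmem k hk).2 (hmem k hk).2,
      if_pos rfl] at h1
    have h2 : (3 : ℤ) = 1 + ∑ χ ∈ s, a k hk χ * a k hk χ := by exact_mod_cast h1
    simp only [pow_two]; linarith
  have hq0k : ∀ k (hk : k ∈ B.erase t₀), ∑ χ ∈ s, a₀ χ * a k hk χ = 1 := by
    intro k hk
    have h1 := hcross _ _ (a k hk) a₀ (Char.isGeneralizedCharacter_indFun C (hfcg k hk))
      (ha k hk) ha₀ (hakt k hk) hat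
    rw [hinnerTI _ _ hfb0 (hfc0 k) (hfcg k hk).isClassFunction,
      classInner_bFun_cFun hc hM hP hτ (hmem k hk).1] at h1
    have h2 : (2 : ℤ) = 1 + ∑ χ ∈ s, a₀ χ * a k hk χ := by exact_mod_cast h1
    linarith
  have hqjk : ∀ j (hj : j ∈ B.erase t₀) k (hk : k ∈ B.erase t₀), j ≠ k →
      ∑ χ ∈ s, a j hj χ * a k hk χ = 0 := by
    intro j hj k hk hne
    have h1 := hcross _ _ (a k hk) (a j hj) (Char.isGeneralizedCharacter_indFun C (hfcg k hk))
      (ha k hk) (ha j hj) (hakt k hk) (hakt j hj)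
    rw [hinnerTI _ _ (hfc0 j) (hfc0 k) (hfcg k hk).isClassFunction,
      classInner_cFun_cFun hc hM hP hτ (hmem j hj).1 (hmem k hk).1 (hmem j hj).2 (hmem k hk).2,
      if_neg hne] at h1
    have h2 : (1 : ℤ) = 1 + ∑ χ ∈ s, a j hj χ * a k hk χ := by exact_mod_cast h1
    linarith
  have ha0le : ∀ χ ∈ s, a₀ χ = 0 ∨ a₀ χ = 1 ∨ a₀ χ = -1 := by
    intro χ hχ
    have h1 : a₀ χ ^ 2 ≤ 3 := hq0 ▸ Finset.single_le_sum (fun j _ => sq_nonneg (a₀ j)) hχ
    have : -1 ≤ a₀ χ ∧ a₀ χ ≤ 1 := by constructor <;> nlinarith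
    omega
  -- each of the three functions shares one constituent with the first
  have hshape : ∀ k (hk : k ∈ B.erase t₀), ∃ u ∈ s, ∃ X ∈ s, u ≠ X ∧
      (a₀ u = 1 ∨ a₀ u = -1) ∧ a k hk u = a₀ u ∧ a₀ X = 0 ∧
      (a k hk X = 1 ∨ a k hk X = -1) ∧ ∀ χ ∈ s, χ ≠ u → χ ≠ X → a k hk χ = 0 := by
    intro k hk
    obtain ⟨i, hi, j, hj, hij, hai, haj, hz0⟩ := exists_pair_of_sum_sq_two s (a k hk) (hqk k hk)
    have h1 := hq0k k hk
    rw [Finset.sum_eq_add i j hij (fun χ hχ hne => by rw [hz0 χ hχ hne.1 hne.2, mul_zero])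
      (fun h => absurd hi h) (fun h => absurd hj h)] at h1
    rcases ha0le i hi with h0 | h0
    · refine ⟨j, hj, i, hi, hij.symm, ?_, ?_, h0, hai, fun χ hχ h h' => hz0 χ hχ h' h⟩
      · rw [h0, zero_mul, zero_add] at h1
        exact Int.eq_one_or_neg_one_of_mul_eq_one h1
      · rw [h0, zero_mul, zero_add] at h1
        rcases haj with haj | haj <;> rw [haj] at h1 ⊢ <;> linarith
    · rcases ha0le j hj with h0' | h0'
      · refine ⟨i, hi, j, hj, hij, h0, ?_, h0', haj, hz0⟩
        rw [h0', zero_mul, add_zero] at h1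
        rcases hai with hai | hai <;> rw [hai] at h1 ⊢ <;> linarith
      · exfalso
        rcases h0 with h0 | h0 <;> rcases h0' with h0' | h0' <;> rcases hai with hai | hai <;>
          rcases haj with haj | haj <;> rw [h0, h0', hai, haj] at h1 <;> norm_num at h1
  obtain ⟨k, hk⟩ : (B.erase t₀).Nonempty := by
    rw [← Finset.card_pos, Finset.card_erase_of_mem
      (Set.mem_toFinset.2 (Block.trivChar_mem_principal hM)), card_block hM hP hτ]
    norm_num
  obtain ⟨u, hus, X, hXs, huX, hu0, huk, hX0, hXk, hzero⟩ := hshape k hk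
  have htu : u ≠ t := (Finset.mem_erase.1 hus).1
  have hval : ∀ j (hj : j ∈ B.erase t₀) (u X : IrrCharacter G), u ∈ s → X ∈ s → u ≠ X →
      (∀ χ ∈ s, χ ≠ u → χ ≠ X → a j hj χ = 0) → ∀ x : G, indFun C (cFun τ j) x =
        1 + (a j hj u : ℂ) * (u : G → ℂ) x + (a j hj X : ℂ) * (X : G → ℂ) x := by
    intro j hj u X hus hXs huX hzero x
    rw [hexp j hj x, ← Finset.add_sum_erase _ _ (Finset.mem_univ t), hakt j hj, Int.cast_one,
      one_mul, Finset.sum_eq_add u X huX (fun χ hχ hne => by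
        rw [hzero χ hχ hne.1 hne.2, Int.cast_zero, zero_mul]) (fun h => absurd hus h)
        (fun h => absurd hXs h)]
    simp only [ht]; ring
  have hdeg : ∀ j (hj : j ∈ B.erase t₀), indFun C (cFun τ j) 1 = 0 := fun j hj => by
    rw [Char.indFun_apply_one, hfc0 j 1 hone, mul_zero]
  -- the other functions avoid the shared constituent
  have havoid : ∀ j (hj : j ∈ B.erase t₀), j ≠ k → a j hj u = 0 := by
    intro j hj hjk
    obtain ⟨u', hus', X', hXs', huX', hu0', huk', hX0', hXk', hzero'⟩ := hshape j hj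
    by_contra hne
    have huu : u = u' := by
      by_contra h1
      refine hne (hzero' u hus h1 fun h2 => ?_)
      rw [← h2] at hX0'; rcases hu0 with h | h <;> rw [h] at hX0' <;> norm_num at hX0'
    subst huu
    have h1 := hqjk j hj k hk hjk
    rw [Finset.sum_eq_add u X' huX' (fun χ hχ hne => by rw [hzero' χ hχ hne.1 hne.2, zero_mul])
      (fun h => absurd hus h) (fun h => absurd hXs' h), huk', huk] at h1
    have huu2 : a₀ u * a₀ u = 1 := by rcases hu0 with h | h <;> rw [h] <;> norm_num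
    have hXX : X' = X := by
      by_contra h2
      rw [hzero X' hXs' huX'.symm h2, mul_zero, huu2] at h1
      norm_num at h1
    subst hXX
    rw [huu2] at h1
    have d1 := hval j hj u X' hus hXs' huX' hzero' 1
    have d2 := hval k hk u X' hus hXs' huX' hzero 1
    rw [hdeg j hj] at d1
    rw [hdeg k hk] at d2
    rw [huk'] at d1
    rw [huk] at d2
    have hsum : a j hj X' = -a k hk X' := by
      rcases hXk with h | h <;> rw [h] at h1 ⊢ <;> linarith
    rw [hsum, Int.cast_neg] at d1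
    have hXne := X'.2.apply_one_ne_zero
    rcases hXk with h | h <;> rw [h] at d1 d2 <;> push_cast at d1 d2
    · exact hXne (by linear_combination d1 / 2 - d2 / 2)
    · exact hXne (by linear_combination d2 / 2 - d1 / 2)
  -- the value at the involution
  set e_k := (k : C ⧸ zpowers zC → ℂ) τ * (k : C ⧸ zpowers zC → ℂ) 1 with hek
  obtain ⟨he_real, he_ne⟩ : conj e_k = e_k ∧ e_k ≠ 0 := by
    have hs' := sign_sq hM hP hτ (hmem k hk).1
    refine ⟨?_, mul_ne_zero (fun h0 => ?_) k.2.apply_one_ne_zero⟩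
    · rw [hek, map_mul, hs'.2.1, k.2.isCharacter.apply_one_eq_charDegree, Complex.conj_natCast]
    · rw [h0, zero_mul] at hs'; exact zero_ne_one hs'.1
  have hucl : IsClassFunction C (fun c : C => (u : G → ℂ) c) :=
    fun c d => u.2.isClassFunction (c : G) (d : G)
  have hW : classInner (wFun M τ) (fun c : C => (u : G → ℂ) c) = (a₀ u : ℂ) * e_k := by
    rw [wFun, Char.classInner_add_left, Char.classInner_neg_left, Char.classInner_sum_left,
      ← Char.classInner_indFun C _ u.2.isClassFunction, ← hfb, ha₀ u, ← hB, ← ht₀,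
      Finset.sum_eq_single_of_mem k hk]
    · rw [Char.classInner_smul_left, ← Char.classInner_indFun C _ u.2.isClassFunction, ha k hk u,
        huk, ← hek]
      ring
    · intro j hj hne
      rw [Char.classInner_smul_left, ← Char.classInner_indFun C _ u.2.isClassFunction, ha j hj u,
        havoid j hj hne, Int.cast_zero, mul_zero]
  rw [classInner_wFun hc hM hP hτ hucl] at hW
  have hu2 : ∃ k : ℕ, orderOf z = 2 ^ k := ⟨1, by rw [hz.1, pow_one]⟩
  have hHu : ∀ h : C, Commute z (h : G) := fun h =>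
    (mem_centralizer_singleton_iff.1 h.2).symm
  have hsec := Block.blockPart_indSet hM hu2 hHu le_rfl
    (Block.isPBlock_principal (M := M) (G := G)) u hone
  rw [Block.indSet_principal hM hu2 hHu le_rfl, Subgroup.coe_one, mul_one] at hsec
  have hW' : conj (blockPart (principalBlock M C) (Block.secFn z C (u : G → ℂ)) 1) =
      (a₀ u : ℂ) * e_k := hW
  have hu_sq : (a₀ u : ℂ) * a₀ u = 1 := by rcases hu0 with h | h <;> rw [h] <;> norm_num
  rw [hsec] at hW'
  have huz : (u : G → ℂ) z = (a₀ u : ℂ) * e_k := by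
    split_ifs at hW' with hmemB
    · rw [← Complex.conj_conj ((u : G → ℂ) z), hW', map_mul, map_intCast, he_real]
    · exfalso
      rw [map_zero] at hW'
      rcases mul_eq_zero.1 hW'.symm with h | h
      · rw [h] at hu_sq; norm_num at hu_sq
      · exact he_ne h
  -- the kernel
  have hF := hval k hk u X hus hXs huX hzero
  have h1 := hF 1
  rw [hdeg k hk, huk] at h1
  have h2 := hF z
  rw [hatz _ (hfc0 k) (hfcg k hk).isClassFunction, cFun_at_z hc, ← hek, huk, huz] at h2
  have hprod : ∀ x y : G, IsConj z x → IsConj z y → indFun C (cFun τ k) (x * y) = 0 := by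
    intro x y hx hy
    refine hvanish _ (hfc0 k) _ ?_
    obtain ⟨g, rfl⟩ := isConj_iff.1 hx
    obtain ⟨h, rfl⟩ := isConj_iff.1 hy
    have hodd := Invol.isolated_odd_product (Invol.isolated_conj hz g) (h * g⁻¹)
    rw [show h * g⁻¹ * (g * z * g⁻¹) * (h * g⁻¹)⁻¹ = h * z * h⁻¹ by group] at hodd
    exact fun hd => Nat.not_even_iff_odd.2 hodd (even_iff_two_dvd.2 hd)
  have h3 := sum_classInner_mul_mul hprod
  rw [← Finset.add_sum_erase _ _ (Finset.mem_univ t)] at h3
  simp only [ha k hk] at h3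
  rw [hakt k hk, Finset.sum_eq_add u X huX (fun χ hχ hne => by
      rw [hzero χ hχ hne.1 hne.2, Int.cast_zero, zero_mul, zero_div]) (fun h => absurd hus h)
      (fun h => absurd hXs h), huk] at h3
  simp only [ht, Int.cast_one, one_mul, div_one, huz] at h3
  have hX_sq : (a k hk X : ℂ) * a k hk X = 1 := by rcases hXk with h | h <;> rw [h] <;> norm_num
  set d := (u : G → ℂ) 1 with hd
  set D := (X : G → ℂ) 1 with hD
  set XZ := (X : G → ℂ) z
  have hd0 : d ≠ 0 := u.2.apply_one_ne_zero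
  have hD0 : D ≠ 0 := X.2.apply_one_ne_zero
  have hkey : (u : G → ℂ) z = d := by
    rw [huz]
    have hXZ : (a k hk X : ℂ) * XZ = 1 + e_k := by
      linear_combination -h2 - e_k * hu_sq
    field_simp at h3
    have h0 : ((a₀ u : ℂ) * d - e_k) ^ 2 = 0 := by
      linear_combination (-(a₀ u : ℂ) * (a k hk X : ℂ)) * h3 +
        ((a₀ u : ℂ) * a₀ u + 1) * e_k ^ 2 * (a k hk X : ℂ) * D * hu_sq +
        (a₀ u : ℂ) * d * ((a k hk X : ℂ) * XZ + 1 + e_k) * hXZ -
        ((a₀ u : ℂ) * d + e_k ^ 2) * h1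
    rw [pow_eq_zero_iff two_ne_zero, sub_eq_zero] at h0
    linear_combination (-(a₀ u : ℂ)) * h0 + d * hu_sq
  haveI := Char.charKer_normal u.2.isCharacter
  exact central_of_normal_mem ih hO hz _ (charKer_ne_top fun h => htu (Subtype.ext h))
    ((Char.mem_charKer u.2.isCharacter).2 hkey) g

end Cfsg.Lib.ZStar
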