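import Cfsg.Agent.Lib.ZStar.TwoClass
import Cfsg.Agent.Lib.ZStar.EightMain
import Cfsg.Agent.Lib.ZStar.QuaternionLarge
import Cfsg.Agent.S0016

/-!
Glauberman's theorem on isolated involutions, and the theorem of Brauer and Suzuki.
-/

set_option autoImplicit false
set_option linter.style.haveILetI false

namespace Cfsg.Lib.ZStar

open Subgroup Cfsg

universe u

/-- The isolated involution is central in a minimal situation. -/
theorem central_of_isolated {G : Type u} [Group G] [Finite G]
    (ih : ZStarBelow.{u} (Nat.card G)) (hO : oddCore G = ⊥) {z : G} (hz : IsIsolatedInvolution z)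
    (g : G) : Commute z g := by
  haveI : Fact (Nat.Prime 2) := ⟨Nat.prime_two⟩
  obtain ⟨P, hP⟩ := (IsPGroup.of_card (n := 1) (by rw [Nat.card_zpowers, hz.1, pow_one]) :
    IsPGroup 2 (zpowers z)).exists_le_sylow
  have hzP : z ∈ (P : Subgroup G) := hP (mem_zpowers z)
  have hcent : ∀ x ∈ (P : Subgroup G), Commute z x := fun x hx =>
    (Invol.commute_iff_conj_eq.2 (Invol.isolated_eq_of_mem hz P.2 hzP x
      (mul_mem (mul_mem hx hzP) (inv_mem hx)))).symm
  by_cases hv : ∃ v ∈ (P : Subgroup G), orderOf v = 2 ∧ v ≠ z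
  · obtain ⟨v, hvP, hv2, hne⟩ := hv
    exact central_of_two_classes ih hO hz hv2 (hcent v hvP) hne g
  push Not at hv
  have huniq : ∀ H K : Subgroup (P : Subgroup G), Nat.card H = 2 → Nat.card K = 2 → H = K := by
    have key : ∀ H : Subgroup (P : Subgroup G), Nat.card H = 2 →
        H = zpowers ⟨z, hzP⟩ := by
      intro H hH
      obtain ⟨x, hx⟩ := exists_prime_orderOf_dvd_card' (G := H) 2 (dvd_of_eq hH.symm)
      have hxz : ((x : (P : Subgroup G)) : G) = z :=
        hv _ (x : (P : Subgroup G)).2 (by rw [Subgroup.orderOf_coe, Subgroup.orderOf_coe, hx])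
      refine (eq_of_le_of_card_ge (zpowers_le.2 ?_) ?_).symm
      · rw [show (⟨z, hzP⟩ : (P : Subgroup G)) = x from Subtype.ext hxz.symm]
        exact x.2
      · rw [hH, Nat.card_zpowers, Subgroup.orderOf_mk, hz.1]
    intro H K hH hK
    rw [key H hH, key K hK]
  have hcyc : IsCyclic (P : Subgroup G) → Commute z g := by
    intro hc
    haveI : Nontrivial G := ⟨z, 1, Invol.ne_one hz.1⟩
    have hmin : (Nat.card G).minFac = 2 := (Nat.minFac_eq_two_iff _).2 (hz.1 ▸ orderOf_dvd_natCard z)
    have hcompl := IsCyclic.isComplement' (P := P) hmin hc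
    set N := (MonoidHom.transferSylow P (hc.normalizer_le_centralizer hmin)).ker with hN
    have hodd : Odd (Nat.card N) := by
      rw [← hcompl.index_eq_card, ← Nat.not_even_iff_odd, even_iff_two_dvd]
      exact P.not_dvd_index
    have hbot : N = ⊥ := le_bot_iff.1 (hO ▸ le_oddCore (MonoidHom.normal_ker _) hodd)
    rw [hbot, isComplement'_bot_left] at hcompl
    exact hcent g (hcompl ▸ mem_top g)
  rcases Cfsg.Agent.S0016.result 2 P.2 huniq with hc | ⟨-, n, ⟨e⟩⟩
  · exact hcyc hc
  match n, e with
  | 0, e =>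
    haveI : IsCyclic (QuaternionGroup (2 ^ 0)) := QuaternionGroup.quaternionGroup_one_isCyclic
    exact hcyc (isCyclic_of_surjective e.symm e.symm.surjective)
  | 1, e => exact central_of_quaternion_eight ih hO hz P hzP e g
  | n + 2, e => exact central_of_quaternion_large ih hO hz P e g

/-- Glauberman's theorem: an isolated involution is central modulo the odd core. -/
theorem zStarHolds (G : Type u) [Group G] [Finite G] : ZStarHolds G := by
  suffices h : ∀ n, ∀ (G : Type u) [Group G] [Finite G], Nat.card G = n → ZStarHolds G from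
    h _ G rfl
  intro n
  induction n using Nat.strong_induction_on with
  | _ n IH =>
    intro G _ _ hn z hz g
    have ih : ZStarBelow.{u} (Nat.card G) := fun H _ _ hlt => IH _ (hn ▸ hlt) H rfl
    by_cases hO : oddCore G = ⊥
    · have h := central_of_isolated ih hO hz g
      rw [show z * g * z⁻¹ * g⁻¹ = 1 by rw [h.eq]; group]
      exact one_mem _
    · have hlt : Nat.card (G ⧸ oddCore G) < Nat.card G := by
        have h1 := card_eq_card_quotient_mul_card_subgroup (oddCore G)
        have h2 : 1 < Nat.card (oddCore G) := (Subgroup.one_lt_card_iff_ne_bot _).2 hO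
        have h3 : 0 < Nat.card (G ⧸ oddCore G) := Nat.card_pos
        nlinarith
      have h := ih (G ⧸ oddCore G) hlt _
        (Invol.isolated_quotient hz (oddCore G) (notMem_oddCore hz.1)).2 (QuotientGroup.mk g)
      have hbot : oddCore (G ⧸ oddCore G) = ⊥ := Core.pPrimeCore_quotient_eq_bot
      rw [hbot, mem_bot] at h
      exact (QuotientGroup.eq_one_iff _).1 h

variable {G : Type u} [Group G] [Finite G]

/-- An isolated involution is central when the odd core is trivial. -/
theorem mem_center_of_isolated (hO : oddCore G = ⊥) {z : G} (hz : IsIsolatedInvolution z) :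
    z ∈ center G :=
  mem_center_iff.2 fun g => (commute_of_oddCore_bot hO (zStarHolds G z hz g)).eq.symm

/-- If every involution of a Sylow 2-subgroup equals `z`, then `z` is isolated. -/
theorem isolated_of_unique_involution (S : Sylow 2 G) {z : G} (hz : orderOf z = 2)
    (h : ∀ x ∈ (S : Subgroup G), orderOf x = 2 → x = z) : IsIsolatedInvolution z :=
  Invol.isolated_of_sylow S hz fun g hg => h _ hg (by rw [Invol.orderOf_conj_eq, hz])

/-- The theorem of Brauer and Suzuki: a group with trivial odd core and generalized quaternion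
Sylow 2-subgroups has a centre of order two. -/
theorem card_center_of_quaternion (hO : oddCore G = ⊥) (S : Sylow 2 G) {n : ℕ}
    (e : (S : Subgroup G) ≃* QuaternionGroup (2 ^ (n + 1))) : Nat.card (center G) = 2 := by
  haveI : Fact (Nat.Prime 2) := ⟨Nat.prime_two⟩
  obtain ⟨a, y, haS, hyS, hoa, hya, hdec, -, hinv⟩ := exists_quaternion_generators S e
  set z := a ^ (2 ^ (n + 1)) with hz
  have hoz : orderOf z = 2 := by
    rw [hz, orderOf_pow_of_dvd (pow_ne_zero _ two_ne_zero) (by
      rw [hoa]; exact pow_dvd_pow 2 (by omega)), hoa, pow_succ _ (n + 1),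
      Nat.mul_div_cancel_left _ (Nat.two_pow_pos _)]
  have hzc : z ∈ center G :=
    mem_center_of_isolated hO (isolated_of_unique_involution S hoz fun x hx h => hinv x hx h)
  have hp : IsPGroup 2 (center G) := by
    intro x
    obtain ⟨k, m, hm, hkm⟩ := Nat.exists_eq_two_pow_mul_odd (orderOf_pos x).ne'
    refine ⟨k, ?_⟩
    haveI hn : (zpowers ((x : G) ^ 2 ^ k)).Normal := ⟨fun w hw g => by
      rw [mem_center_iff.1 (zpowers_le.2 (pow_mem x.2 _) hw) g, mul_inv_cancel_right]
      exact hw⟩
    have hodd : Odd (Nat.card (zpowers ((x : G) ^ 2 ^ k))) := by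
      rw [Nat.card_zpowers, ← SubmonoidClass.coe_pow, Subgroup.orderOf_coe,
        orderOf_pow_of_dvd (pow_ne_zero _ two_ne_zero) ⟨m, hkm⟩, hkm,
        Nat.mul_div_cancel_left _ (Nat.two_pow_pos _)]
      exact hm
    have h1 := le_oddCore hn hodd (mem_zpowers _)
    rw [hO, mem_bot] at h1
    exact Subtype.ext (by rw [SubmonoidClass.coe_pow, h1, Subgroup.coe_one])
  have hle : center G ≤ (S : Subgroup G) := hp.le_sylow_of_normal S
  have ha2 : a * a ≠ 1 := fun h => by
    have h1 : orderOf a ∣ 2 := orderOf_dvd_of_pow_eq_one (by rw [pow_two, h])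
    rw [hoa] at h1
    have h2 : 2 ^ 2 ∣ 2 := (pow_dvd_pow 2 (show 2 ≤ n + 1 + 1 by omega)).trans h1
    norm_num at h2
  have hsq : ∀ x ∈ center G, x = 1 ∨ x = z := by
    intro x hx
    have hxS := hle hx
    rcases hdec x hxS with h | h
    · obtain ⟨i, rfl⟩ := mem_zpowers_iff.1 h
      have h1 : y * a ^ i * y⁻¹ = a ^ i := by
        rw [mem_center_iff.1 hx y, mul_inv_cancel_right]
      rw [← conj_zpow, hya, inv_zpow, inv_eq_iff_mul_eq_one] at h1
      by_cases h2 : a ^ i = 1
      · exact Or.inl h2
      · exact Or.inr (hinv _ hxS (Invol.orderOf_eq_two_of h2 h1))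
    · exfalso
      obtain ⟨i, hi⟩ := mem_zpowers_iff.1 h
      have h1 : Commute a x := mem_center_iff.1 hx a
      have h2 : Commute a (a ^ i) := Commute.self_zpow a i
      have h3 : Commute a y := by
        rw [show y = x * (a ^ i)⁻¹ by rw [hi]; group]
        exact h1.mul_right h2.inv_right
      refine ha2 ?_
      have h4 : a⁻¹ = a := by rw [← hya, ← h3.eq, mul_inv_cancel_right]
      exact inv_eq_iff_mul_eq_one.1 h4
  have heq : center G = zpowers z := by
    refine le_antisymm (fun x hx => ?_) (zpowers_le.2 hzc)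
    rcases hsq x hx with rfl | rfl
    · exact one_mem _
    · exact mem_zpowers _
  rw [heq, Nat.card_zpowers, hoz]

end Cfsg.Lib.ZStar
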