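import Cfsg.Agent.Lib.ZStar.Main
import Cfsg.Agent.Lib.Coprime.Conjugacy

/-!
Glauberman's theorem for weakly closed 2-elements.
-/

set_option autoImplicit false
set_option linter.style.haveILetI false

namespace Cfsg.Lib.ZStar

open Subgroup Cfsg

universe u

/-- No element of the cyclic group of `x` is fused to another element of `S`. -/
def PowersClosed {G : Type u} [Group G] (S : Subgroup G) (x : G) : Prop :=
  ∀ y ∈ zpowers x, ∀ g : G, g * y * g⁻¹ ∈ S → g * y * g⁻¹ = y

/-- Closedness passes to a quotient by a normal subgroup which is odd or inside `S`. -/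
theorem powersClosed_quotient {G : Type u} [Group G] [Finite G] (S : Sylow 2 G) {x : G}
    (h : PowersClosed (S : Subgroup G) x) (hxS : x ∈ (S : Subgroup G)) (N : Subgroup G) [N.Normal] :
    PowersClosed ((S : Subgroup G).map (QuotientGroup.mk' N)) (QuotientGroup.mk' N x) := by
  haveI : Fact (Nat.Prime 2) := ⟨Nat.prime_two⟩
  intro y hy g hg
  obtain ⟨k, rfl⟩ := mem_zpowers_iff.1 hy
  obtain ⟨g, rfl⟩ := QuotientGroup.mk'_surjective N g
  rw [← map_zpow, ← map_inv, ← map_mul, ← map_mul] at hg ⊢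
  obtain ⟨s, hs, hse⟩ := hg
  set y := x ^ k with hy
  have hyk : y ∈ zpowers x := hy ▸ zpow_mem (mem_zpowers x) k
  set L := (S : Subgroup G) ⊔ N with hL
  have hyL : g * y * g⁻¹ ∈ L := by
    obtain ⟨n, hn, hne⟩ : ∃ n ∈ N, s * n = g * y * g⁻¹ :=
      ⟨s⁻¹ * (g * y * g⁻¹), QuotientGroup.eq.1 hse, by group⟩
    rw [← hne]
    exact mul_mem_sup hs hn
  have hSL : (S : Subgroup G) ≤ L := le_sup_left
  have hp : IsPGroup 2 (zpowers (⟨_, hyL⟩ : L)) := by
    intro w
    obtain ⟨i, hi⟩ := mem_zpowers_iff.1 w.2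
    obtain ⟨j, hj⟩ := S.2 ⟨y, zpow_mem hxS k⟩
    refine ⟨j, Subtype.ext (Subtype.ext ?_)⟩
    have hj' : y ^ (2 ^ j) = 1 := by simpa using congrArg Subtype.val hj
    rw [SubmonoidClass.coe_pow, SubmonoidClass.coe_pow, ← hi, SubgroupClass.coe_zpow,
      Subgroup.coe_mk, ← zpow_natCast, ← zpow_mul, mul_comm, zpow_mul, zpow_natCast, conj_pow, hj']
    simp
  obtain ⟨T, hT⟩ := hp.exists_le_sylow
  obtain ⟨l, hl⟩ := MulAction.exists_smul_eq L T (S.subtype hSL)
  have hmem : (l : G) * (g * y * g⁻¹) * (l : G)⁻¹ ∈ (S : Subgroup G) := by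
    have h1 : l * ⟨_, hyL⟩ * l⁻¹ ∈ (S.subtype hSL : Subgroup L) := by
      rw [← hl]
      exact Subgroup.mem_map_of_mem (MulAut.conj l).toMonoidHom (hT (mem_zpowers _))
    exact h1
  have h3 : (l : G) * g * y * ((l : G) * g)⁻¹ = y := h y hyk _ (by
    convert hmem using 1; group)
  obtain ⟨s', hs', n, hn, hsn⟩ : ∃ s' ∈ (S : Subgroup G), ∃ n ∈ N, s' * n = (l : G) := by
    have h1 : (l : G) ∈ (S : Subgroup G) ⊔ N := l.2
    rw [← SetLike.mem_coe, mul_normal] at h1
    exact h1
  have h4 : s' * y * s'⁻¹ = y := h y hyk s' (mul_mem (mul_mem hs' (zpow_mem hxS k)) (inv_mem hs'))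
  have e1 : QuotientGroup.mk' N n = 1 := (QuotientGroup.eq_one_iff n).2 hn
  have h5 := congrArg (QuotientGroup.mk' N) h3
  rw [← hsn] at h5
  simp only [map_mul, map_inv, e1, mul_one, mul_inv_rev, inv_one, one_mul] at h5
  have h6 := congrArg (QuotientGroup.mk' N) h4
  simp only [map_mul, map_inv] at h6 ⊢
  generalize QuotientGroup.mk' N g = a at h5 ⊢
  generalize QuotientGroup.mk' N s' = b at h5 h6
  generalize QuotientGroup.mk' N y = c at h5 h6 ⊢
  calc a * c * a⁻¹ = b⁻¹ * (b * a * c * (a⁻¹ * b⁻¹)) * b := by group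
    _ = b⁻¹ * (b * c * b⁻¹) * b := by rw [h5, h6]
    _ = c := by group

/-- The preimage of the odd core modulo a central 2-subgroup is that subgroup. -/
theorem comap_oddCore_eq {G : Type u} [Group G] [Finite G] (hO : oddCore G = ⊥) (W : Subgroup G)
    [W.Normal] (hW : W ≤ center G) (hWp : IsPGroup 2 W) :
    (oddCore (G ⧸ W)).comap (QuotientGroup.mk' W) = W := by
  haveI : Fact (Nat.Prime 2) := ⟨Nat.prime_two⟩
  set L := (oddCore (G ⧸ W)).comap (QuotientGroup.mk' W) with hL
  haveI hLn : L.Normal := Subgroup.Normal.comap inferInstance _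
  have hWL : W ≤ L := fun x hx => by
    show QuotientGroup.mk' W x ∈ oddCore (G ⧸ W)
    rw [QuotientGroup.mk'_apply, (QuotientGroup.eq_one_iff x).2 hx]
    exact one_mem _
  have hcard : Nat.card L = Nat.card W * Nat.card (oddCore (G ⧸ W)) := by
    rw [hL, Core.card_comap_eq _ (QuotientGroup.mk'_surjective W), QuotientGroup.ker_mk']
  obtain ⟨k, hk⟩ := hWp.exists_card_eq
  obtain ⟨T, hT⟩ := (hWp.comap_subtype : IsPGroup 2 (W.subgroupOf L)).exists_le_sylow
  have hTeq : (T : Subgroup L) = W.subgroupOf L := by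
    refine (eq_of_le_of_card_ge hT ?_).symm
    obtain ⟨j, hj⟩ := T.2.exists_card_eq
    show Nat.card (T : Subgroup L) ≤ Nat.card (W.subgroupOf L)
    rw [Nat.card_congr (subgroupOfEquivOfLe hWL).toEquiv]
    refine Nat.le_of_dvd Nat.card_pos ?_
    have h1 : 2 ^ j ∣ Nat.card W * Nat.card (oddCore (G ⧸ W)) :=
      hcard ▸ hj ▸ card_subgroup_dvd_card (T : Subgroup L)
    rw [hj]
    exact (Nat.Coprime.pow_left j (Nat.coprime_two_left.2 odd_card_oddCore)).dvd_of_dvd_mul_right h1
  have hnc : Subgroup.normalizer ((T : Subgroup L) : Set L) ≤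
      Subgroup.centralizer ((T : Subgroup L) : Set L) := by
    intro a _
    rw [hTeq, mem_centralizer_iff]
    intro b hb
    exact Subtype.ext (mem_center_iff.1 (hW hb) (a : G)).symm
  have hc := MonoidHom.ker_transferSylow_isComplement' T hnc
  set K := (MonoidHom.transferSylow T hnc).ker with hK
  have hKodd : Odd (Nat.card K) := by
    rw [← hc.index_eq_card, ← Nat.not_even_iff_odd, even_iff_two_dvd]
    exact T.not_dvd_index
  have hOL : oddCore L = ⊥ := by
    have h1 : ((oddCore L).map L.subtype).Normal := ConjAct.normal_of_characteristic_of_normal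
    have h2 : (oddCore L).map L.subtype ≤ oddCore G :=
      le_oddCore h1 (by rw [card_map_of_injective L.subtype_injective]; exact odd_card_oddCore)
    rwa [hO, le_bot_iff, map_eq_bot_iff_of_injective _ L.subtype_injective] at h2
  have hK1 : K = ⊥ := le_bot_iff.1 (hOL ▸ le_oddCore (MonoidHom.normal_ker _) hKodd)
  rw [hK1, isComplement'_bot_left, hTeq, subgroupOf_eq_top] at hc
  exact le_antisymm hc hWL

/-- A 2-element none of whose powers is fused to another element of a Sylow 2-subgroup containing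
it is central modulo the odd core. -/
theorem commutator_mem_oddCore_of_powersClosed {G : Type u} [Group G] [Finite G] (S : Sylow 2 G)
    {x : G} (hxS : x ∈ (S : Subgroup G)) (h : PowersClosed (S : Subgroup G) x) (g : G) :
    g * x * g⁻¹ * x⁻¹ ∈ oddCore G := by
  suffices key : ∀ n, ∀ (G : Type u) [Group G] [Finite G], Nat.card G = n → ∀ (S : Sylow 2 G)
      (x : G), x ∈ (S : Subgroup G) → PowersClosed (S : Subgroup G) x →
      ∀ g : G, g * x * g⁻¹ * x⁻¹ ∈ oddCore G from key _ G rfl S x hxS h g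
  intro n
  induction n using Nat.strong_induction_on with
  | _ n IH =>
    intro G _ _ hn S x hxS h g
    haveI : Fact (Nat.Prime 2) := ⟨Nat.prime_two⟩
    by_cases hO : oddCore G = ⊥
    · rw [hO, mem_bot, mul_inv_eq_one]
      by_cases hx1 : x = 1
      · rw [hx1]; group
      obtain ⟨j, hj⟩ := (Nat.dvd_prime_pow Nat.prime_two).1 (orderOf_dvd_of_pow_eq_one
        (show x ^ 2 ^ (S.2 ⟨x, hxS⟩).choose = 1 by
          simpa using congrArg Subtype.val (S.2 ⟨x, hxS⟩).choose_spec))
      obtain ⟨i, rfl⟩ : ∃ i, j = i + 1 := ⟨j - 1, by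
        rcases Nat.eq_zero_or_pos j with rfl | h0
        · exact absurd (orderOf_eq_one_iff.1 (hj.2.trans (pow_zero 2))) hx1
        · omega⟩
      set z := x ^ (2 ^ i) with hz
      have hoz : orderOf z = 2 := by
        rw [hz, orderOf_pow_of_dvd (pow_ne_zero _ two_ne_zero) (by
          rw [hj.2]; exact pow_dvd_pow 2 (by omega)), hj.2, pow_succ,
          Nat.mul_div_cancel_left _ (Nat.two_pow_pos _)]
      have hzc : z ∈ center G := mem_center_of_isolated hO
        (Invol.isolated_of_sylow S hoz fun k hk => h z (pow_mem (mem_zpowers x) _) k hk)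
      set W := zpowers z with hW
      haveI hWn : W.Normal := ⟨fun w hw k => by
        rw [mem_center_iff.1 (zpowers_le.2 hzc hw) k, mul_inv_cancel_right]; exact hw⟩
      have hlt : Nat.card (G ⧸ W) < Nat.card G := by
        have h1 := card_eq_card_quotient_mul_card_subgroup W
        rw [Nat.card_zpowers, hoz] at h1
        have : 0 < Nat.card (G ⧸ W) := Nat.card_pos
        omega
      have h1 := IH _ (hn ▸ hlt) (G ⧸ W) rfl
        (S.mapSurjective (QuotientGroup.mk'_surjective W)) (QuotientGroup.mk' W x)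
        (mem_map_of_mem _ hxS) (powersClosed_quotient S h hxS W) (QuotientGroup.mk' W g)
      rw [← map_inv, ← map_inv, ← map_mul, ← map_mul, ← map_mul, ← mem_comap,
        comap_oddCore_eq hO W (zpowers_le.2 hzc)
          (IsPGroup.of_card (n := 1) (by rw [Nat.card_zpowers, hoz, pow_one]))] at h1
      refine h x (mem_zpowers x) g ?_
      rw [show g * x * g⁻¹ = g * x * g⁻¹ * x⁻¹ * x by group]
      refine mul_mem ?_ hxS
      exact zpowers_le.2 (pow_mem hxS _) h1
    · have hlt : Nat.card (G ⧸ oddCore G) < Nat.card G := by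
        have h1 := card_eq_card_quotient_mul_card_subgroup (oddCore G)
        have h2 : 1 < Nat.card (oddCore G) := (Subgroup.one_lt_card_iff_ne_bot _).2 hO
        have h3 : 0 < Nat.card (G ⧸ oddCore G) := Nat.card_pos
        nlinarith
      have h1 := IH _ (hn ▸ hlt) (G ⧸ oddCore G) rfl
        (S.mapSurjective (QuotientGroup.mk'_surjective _)) (QuotientGroup.mk' (oddCore G) x)
        (mem_map_of_mem _ hxS) (powersClosed_quotient S h hxS _) (QuotientGroup.mk' _ g)
      have hbot : oddCore (G ⧸ oddCore G) = ⊥ := Core.pPrimeCore_quotient_eq_bot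
      rw [hbot, mem_bot, ← map_inv, ← map_inv, ← map_mul, ← map_mul, ← map_mul] at h1
      exact (QuotientGroup.eq_one_iff _).1 h1

variable {G : Type u} [Group G] [Finite G]

/-- A subgroup of `S` central modulo the odd core is centralised, up to an element of the
centraliser of any subgroup it centralises, by every element carrying that subgroup into `S`. -/
theorem exists_conj_fixing {S : Sylow 2 G} {Q P : Subgroup G} (hQS : Q ≤ S)
    (hQ : ∀ q ∈ Q, ∀ g : G, g * q * g⁻¹ * q⁻¹ ∈ oddCore G) (hPS : P ≤ S) (g : G)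
    (hgP : ∀ x ∈ P, g * x * g⁻¹ ∈ (S : Subgroup G)) :
    ∃ g' : G, (∀ x ∈ P, g' * x * g'⁻¹ = g * x * g⁻¹) ∧ ∀ q ∈ Q, g' * q * g'⁻¹ = q := by
  haveI : Fact (Nat.Prime 2) := ⟨Nat.prime_two⟩
  have hdisj : ∀ a ∈ (S : Subgroup G), a ∈ oddCore G → a = 1 := by
    intro a ha haO
    obtain ⟨k, hk⟩ := S.2 ⟨a, ha⟩
    have h1 : orderOf a ∣ 2 ^ k := orderOf_dvd_of_pow_eq_one (by simpa using congrArg Subtype.val hk)
    exact orderOf_eq_one_iff.1 (Nat.eq_one_of_dvd_coprimes
      (Nat.Coprime.pow_left k (Nat.coprime_two_left.2 (odd_orderOf_oddCore haO))) h1 dvd_rfl)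
  have hQc : ∀ q ∈ Q, ∀ s ∈ (S : Subgroup G), s * q * s⁻¹ = q := fun q hq s hs =>
    mul_inv_eq_one.1 (hdisj _ (mul_mem (mul_mem (mul_mem hs (hQS hq)) (inv_mem hs))
      (inv_mem (hQS hq))) (hQ q hq s))
  set N := oddCore G ⊓ centralizer (P : Set G) with hN
  set B := Q.map (MulAut.conj g⁻¹).toMonoidHom with hB
  have hQP : Q ≤ centralizer (P : Set G) := fun q hq =>
    mem_centralizer_iff.2 fun x hx => by
      have := hQc q hq x (hPS hx)
      rw [mul_inv_eq_iff_eq_mul] at this
      exact this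
  have hQN : Q ≤ Subgroup.normalizer (N : Set G) := by
    refine le_trans (le_inf (normalizer_eq_top (H := oddCore G) ▸ le_top)
      (hQP.trans Subgroup.le_normalizer)) ?_
    exact Subgroup.inf_normalizer_le_normalizer_inf
  have hBle : B ≤ N ⊔ Q := by
    rintro _ ⟨q, hq, rfl⟩
    rw [MulEquiv.coe_toMonoidHom, MulAut.conj_apply, inv_inv,
      show g⁻¹ * q * g = (g⁻¹ * q * g * q⁻¹) * q by group]
    refine mul_mem_sup (mem_inf.2 ⟨?_, ?_⟩) hq
    · simpa using hQ q hq g⁻¹
    · refine mul_mem ?_ (inv_mem (hQP hq))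
      rw [mem_centralizer_iff]
      intro x hx
      have h2 := hQc q hq _ (hgP x hx)
      rw [mul_inv_eq_iff_eq_mul] at h2
      calc x * (g⁻¹ * q * g) = g⁻¹ * ((g * x * g⁻¹) * q) * g := by group
        _ = g⁻¹ * (q * (g * x * g⁻¹)) * g := by rw [h2]
        _ = g⁻¹ * q * g * x := by group
  have hQp : IsPGroup 2 Q := S.2.to_le hQS
  obtain ⟨k, hk⟩ := hQp.exists_card_eq
  have hcop : (Nat.card Q).Coprime (Nat.card N) := by
    rw [hk]
    exact Nat.Coprime.pow_left k (Nat.coprime_two_left.2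
      (odd_card_oddCore.of_dvd_nat (card_dvd_of_le inf_le_left)))
  haveI := hQp.isNilpotent
  obtain ⟨n, hn, hBn⟩ := Coprime.exists_conj_of_coprime N Q B hQN hcop (Or.inl inferInstance) hBle
    (card_map_of_injective (MulAut.conj g⁻¹).injective)
  refine ⟨g * n, fun x hx => ?_, fun q hq => ?_⟩
  · have h1 := mem_centralizer_iff.1 hn.2 x hx
    calc g * n * x * (g * n)⁻¹ = g * (n * x * n⁻¹) * g⁻¹ := by group
      _ = g * x * g⁻¹ := by rw [← h1, mul_inv_cancel_right]
  · have h1 : (MulAut.conj n).toMonoidHom q ∈ B := hBn ▸ mem_map_of_mem _ hq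
    obtain ⟨q', hq', hq'e⟩ := h1
    rw [MulEquiv.coe_toMonoidHom, MulEquiv.coe_toMonoidHom, MulAut.conj_apply, MulAut.conj_apply,
      inv_inv] at hq'e
    have h2 : g * n * q * (g * n)⁻¹ = q' := by
      calc g * n * q * (g * n)⁻¹ = g * (n * q * n⁻¹) * g⁻¹ := by group
        _ = q' := by rw [← hq'e]; group
    rw [h2]
    refine mul_inv_eq_one.1 (hdisj _ (mul_mem (hQS hq') (inv_mem (hQS hq))) ?_)
    rw [← h2]
    exact hQ q hq (g * n)

end Cfsg.Lib.ZStar
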