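import Cfsg.Agent.Lib.Core.Cores
import Cfsg.Agent.Lib.Invol.Isolated
import Cfsg.Agent.Lib.Invol.Cyclic
import Cfsg.Prelude.Def_CaseTheorems

/-!
Reductions for Glauberman's theorem on isolated involutions.
-/

set_option autoImplicit false
set_option linter.unusedSectionVars false
set_option linter.style.haveILetI false

namespace Cfsg.Lib.ZStar

open Subgroup Cfsg Cfsg.Lib.Invol

universe u

/-- Every isolated involution is central modulo the odd core. -/
def ZStarHolds (G : Type u) [Group G] : Prop :=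
  ∀ z : G, IsIsolatedInvolution z → ∀ g : G, z * g * z⁻¹ * g⁻¹ ∈ oddCore G

/-- The inductive hypothesis: the theorem holds for all groups of order below `n`. -/
def ZStarBelow (n : ℕ) : Prop :=
  ∀ (H : Type u) [Group H] [Finite H], Nat.card H < n → ZStarHolds H

variable {G : Type u} [Group G] [Finite G]

theorem odd_card_oddCore : Odd (Nat.card (oddCore G)) :=
  Nat.coprime_two_right.1 (Core.pPrimeCore_coprime 2 G)

theorem le_oddCore {N : Subgroup G} (hN : N.Normal) (h : Odd (Nat.card N)) : N ≤ oddCore G :=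
  Core.le_pPrimeCore' hN (Nat.coprime_two_right.2 h)

theorem odd_orderOf_oddCore {g : G} (hg : g ∈ oddCore G) : Odd (orderOf g) :=
  odd_card_oddCore.of_dvd_nat (Subgroup.orderOf_dvd_natCard _ hg)

theorem notMem_oddCore {z : G} (hz : orderOf z = 2) : z ∉ oddCore G := fun h => by
  have h1 := odd_orderOf_oddCore h
  rw [hz] at h1
  exact absurd h1 (by decide)

theorem commute_of_oddCore_bot (hO : oddCore G = ⊥) {z g : G}
    (h : z * g * z⁻¹ * g⁻¹ ∈ oddCore G) : Commute z g := by
  rw [hO, mem_bot, mul_inv_eq_one, mul_inv_eq_iff_eq_mul] at h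
  exact h

omit [Finite G] in
theorem isolated_subgroup {z : G} (hz : IsIsolatedInvolution z) (H : Subgroup G) (hzH : z ∈ H) :
    IsIsolatedInvolution (⟨z, hzH⟩ : H) := by
  refine ⟨by rw [Subgroup.orderOf_mk, hz.1], fun g hg => Subtype.ext ?_⟩
  exact hz.2 (g : G) (congrArg Subtype.val hg)

omit [Finite G] in
theorem commute_of_commute_conjugates {z : G} (hz : IsIsolatedInvolution z)
    (h : ∀ g : G, Commute z (g * z * g⁻¹)) (g : G) : Commute z g :=
  (Invol.commute_iff_conj_eq.mpr (hz.2 g (h g))).symm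

/-- An isolated involution in a proper normal subgroup is central. -/
theorem central_of_normal_mem (ih : ZStarBelow.{u} (Nat.card G)) (hO : oddCore G = ⊥) {z : G}
    (hz : IsIsolatedInvolution z) (N : Subgroup G) [hN : N.Normal] (hne : N ≠ ⊤) (hzN : z ∈ N)
    (g : G) : Commute z g := by
  have hlt : Nat.card N < Nat.card G :=
    lt_of_le_of_ne (card_le_card_group N) fun h => hne (eq_top_of_card_eq N h)
  have hON : oddCore N = ⊥ := by
    have h1 : ((oddCore N).map N.subtype).Normal := ConjAct.normal_of_characteristic_of_normal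
    have h2 : (oddCore N).map N.subtype ≤ oddCore G :=
      le_oddCore h1 (by rw [card_map_of_injective N.subtype_injective]; exact odd_card_oddCore)
    rwa [hO, le_bot_iff, map_eq_bot_iff_of_injective _ N.subtype_injective] at h2
  refine commute_of_commute_conjugates hz (fun k => ?_) g
  exact congrArg Subtype.val
    (commute_of_oddCore_bot hON (ih N hlt ⟨z, hzN⟩ (isolated_subgroup hz N hzN)
      ⟨k * z * k⁻¹, hN.conj_mem z hzN k⟩))

/-- An isolated involution is central when there is another central involution. -/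
theorem central_of_central_involution (ih : ZStarBelow.{u} (Nat.card G)) (hO : oddCore G = ⊥)
    {z w : G} (hz : IsIsolatedInvolution z) (hw : orderOf w = 2) (hwc : ∀ g : G, Commute w g)
    (hne : z ≠ w) (g : G) : Commute z g := by
  set W := zpowers w with hW
  have hWc : W ≤ center G := zpowers_le.2 (mem_center_iff.2 fun k => (hwc k).eq.symm)
  haveI hWn : W.Normal := ⟨fun x hx k => by
    rwa [mem_center_iff.1 (hWc hx) k, mul_inv_cancel_right]⟩
  have hW2 : Nat.card W = 2 := by rw [hW, Nat.card_zpowers, hw]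
  have hmemW : ∀ x ∈ W, x = 1 ∨ x = w := by
    intro x hx
    rw [hW, mem_zpowers_iff] at hx
    obtain ⟨k, rfl⟩ := hx
    rw [← zpow_mod_orderOf, hw]
    rcases Int.emod_two_eq k with h | h <;> rw [Nat.cast_ofNat, h] <;> simp
  have hzW : z ∉ W := fun h => (hmemW z h).elim (Invol.ne_one hz.1) hne
  have hlt : Nat.card (G ⧸ W) < Nat.card G := by
    have h1 := card_eq_card_quotient_mul_card_subgroup W
    rw [hW2] at h1
    have : 0 < Nat.card (G ⧸ W) := Nat.card_pos
    omega
  have hbar := ih (G ⧸ W) hlt _ (Invol.isolated_quotient hz W hzW).2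
  set L := (oddCore (G ⧸ W)).comap (QuotientGroup.mk' W) with hL
  haveI hLn : L.Normal := Subgroup.Normal.comap inferInstance _
  have hLcard : Nat.card L = 2 * Nat.card (oddCore (G ⧸ W)) := by
    rw [hL, Core.card_comap_eq _ (QuotientGroup.mk'_surjective W), QuotientGroup.ker_mk', hW2]
  have hsq : ∀ x ∈ L, x * x = 1 := by
    obtain ⟨T⟩ : Nonempty (Sylow 2 L) := inferInstance
    haveI : Fact (Nat.Prime 2) := ⟨Nat.prime_two⟩
    obtain ⟨k, hk⟩ := T.2.exists_card_eq
    have hdvd : 2 ^ k ∣ 2 * Nat.card (oddCore (G ⧸ W)) :=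
      hk ▸ hLcard ▸ card_subgroup_dvd_card (T : Subgroup L)
    have hk1 : k ≤ 1 := by
      by_contra hk2
      have h4 : 2 * 2 ∣ 2 * Nat.card (oddCore (G ⧸ W)) :=
        (pow_dvd_pow 2 (show 2 ≤ k by omega)).trans hdvd
      exact Nat.not_even_iff_odd.2 odd_card_oddCore
        (even_iff_two_dvd.2 (Nat.dvd_of_mul_dvd_mul_left two_pos h4))
    have hTc : IsCyclic (T : Subgroup L) := by
      rcases Nat.le_one_iff_eq_zero_or_eq_one.1 hk1 with rfl | rfl
      · haveI := (Nat.card_eq_one_iff_unique.1 (hk.trans (pow_zero 2))).1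
        exact isCyclic_of_subsingleton
      · exact isCyclic_of_prime_card (hk.trans (pow_one 2))
    obtain ⟨H, hH⟩ := Invol.exists_index_two_of_isCyclic
      (by rw [hLcard]; exact even_two_mul _) T hTc
    set K : Subgroup G := normalClosure ((fun x : G => x * x) '' (L : Set G)) with hK
    haveI hKn : K.Normal := normalClosure_normal
    have hKH : K ≤ H.map L.subtype := by
      rw [hK, Subgroup.normalClosure, closure_le]
      intro y hy
      obtain ⟨_, ⟨x, hx, rfl⟩, hxy⟩ := Group.mem_conjugatesOfSet_iff.1 hy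
      obtain ⟨k, rfl⟩ := isConj_iff.1 hxy
      refine ⟨(⟨k * x * k⁻¹, hLn.conj_mem x hx k⟩ : L) * ⟨k * x * k⁻¹, hLn.conj_mem x hx k⟩, ?_, ?_⟩
      · rw [← pow_two]
        exact sq_mem_of_index_two hH _
      · show k * x * k⁻¹ * (k * x * k⁻¹) = k * (x * x) * k⁻¹
        group
    have hKodd : Odd (Nat.card K) := by
      refine Odd.of_dvd_nat ?_ (card_dvd_of_le hKH)
      rw [card_map_of_injective L.subtype_injective]
      have h1 := H.card_mul_index
      rw [hH, hLcard, mul_comm] at h1
      rw [Nat.eq_of_mul_eq_mul_left two_pos h1]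
      exact odd_card_oddCore
    intro x hx
    have h1 : x * x ∈ oddCore G := le_oddCore hKn hKodd (subset_normalClosure ⟨x, hx, rfl⟩)
    rwa [hO, mem_bot] at h1
  have hLW : L = W := by
    have hWL : W ≤ L := fun x hx => by
      show (QuotientGroup.mk' W x) ∈ oddCore (G ⧸ W)
      rw [QuotientGroup.mk'_apply, (QuotientGroup.eq_one_iff x).2 hx]
      exact one_mem _
    refine (eq_of_le_of_card_ge hWL ?_).symm
    haveI : Fact (Nat.Prime 2) := ⟨Nat.prime_two⟩
    have hp : IsPGroup 2 L := fun x => ⟨1, Subtype.ext (by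
      rw [pow_one, SubmonoidClass.coe_pow, pow_two, Subgroup.coe_one]; exact hsq x x.2)⟩
    obtain ⟨k, hk⟩ := hp.exists_card_eq
    have h1 : Nat.card (oddCore (G ⧸ W)) ∣ 2 ^ k := by rw [← hk, hLcard]; exact dvd_mul_left _ _
    have h2 : Nat.card (oddCore (G ⧸ W)) = 1 := Nat.eq_one_of_dvd_coprimes
      (Nat.Coprime.pow_left k (Nat.coprime_two_left.2 odd_card_oddCore)) h1 dvd_rfl
    rw [hLcard, h2, hW2]
  refine commute_of_commute_conjugates hz (fun k => ?_) g
  have h1 : z * k * z⁻¹ * k⁻¹ ∈ W := by rw [← hLW]; exact hbar (QuotientGroup.mk k)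
  obtain ⟨e, he, hek⟩ : ∃ e ∈ W, k * z * k⁻¹ = e * z := by
    refine ⟨(z * k * z⁻¹ * k⁻¹)⁻¹, W.inv_mem h1, ?_⟩
    group
  rw [hek]
  exact (show Commute z e from mem_center_iff.1 (hWc he) z).mul_right (Commute.refl z)

end Cfsg.Lib.ZStar
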