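import Cfsg.Agent.Lib.ZStar.TwoClass
import Cfsg.Prelude.Def_Transfer

/-!
Weakly closed central subgroups of a Sylow 2-subgroup and products of involutions in the principal
block: the fusion facts and the non-simplicity argument.
-/

set_option autoImplicit false
set_option linter.style.haveILetI false

namespace Cfsg.Lib.ZStar.CentralClosed

open Cfsg Subgroup
open scoped ComplexConjugate

universe u

variable {G : Type u} [Group G] [Finite G] {T : Sylow 2 G} {W : Subgroup G}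

/-- A weakly closed central subgroup of a Sylow subgroup: its normalizer controls fusion. -/
theorem exists_normalizer_conj (hWZ : W ≤ (T : Subgroup G) ⊓ centralizer ((T : Subgroup G) : Set G))
    (hwc : IsWeaklyClosed W (T : Subgroup G)) {y y' g : G} (hy : y ∈ (T : Subgroup G))
    (hy' : y' ∈ (T : Subgroup G)) (hg : g * y * g⁻¹ = y') :
    ∃ q ∈ normalizer (W : Set G), q * y * q⁻¹ = y' := by
  haveI : Fact (Nat.Prime 2) := ⟨Nat.prime_two⟩
  set C : Subgroup G := centralizer ({y'} : Set G) with hC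
  have hWp : IsPGroup 2 W := T.isPGroup'.to_le (hWZ.trans inf_le_left)
  have hWC : W ≤ C := fun w hw => mem_centralizer_singleton_iff.2
    (mem_centralizer_iff.1 (hWZ hw).2 y' hy').symm
  set W' := W.map (MulAut.conj g).toMonoidHom with hW'
  have hW'C : W' ≤ C := by
    rintro _ ⟨w, hw, rfl⟩
    refine mem_centralizer_singleton_iff.2 ?_
    show g * w * g⁻¹ * y' = y' * (g * w * g⁻¹)
    have h : y * w = w * y := mem_centralizer_iff.1 (hWZ hw).2 y hy
    calc g * w * g⁻¹ * y' = g * (w * y) * g⁻¹ := by rw [← hg]; group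
      _ = g * (y * w) * g⁻¹ := by rw [h]
      _ = y' * (g * w * g⁻¹) := by rw [← hg]; group
  obtain ⟨S₁, hS₁⟩ := (hWp.comap_subtype (K := C)).exists_le_sylow
  obtain ⟨S₂, hS₂⟩ := ((hWp.map _).comap_subtype (K := C) : IsPGroup 2 (W'.comap C.subtype)).exists_le_sylow
  obtain ⟨c, hc⟩ := MulAction.exists_smul_eq C S₂ S₁
  obtain ⟨R, hR⟩ := (S₁.isPGroup'.map C.subtype).exists_le_sylow
  obtain ⟨h, hh⟩ := MulAction.exists_smul_eq G R T
  have hmem : ∀ x, x ∈ (R : Subgroup G) → h * x * h⁻¹ ∈ (T : Subgroup G) := by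
    intro x hx
    rw [← hh]
    exact ⟨x, hx, rfl⟩
  have hWR : W ≤ (R : Subgroup G) := fun w hw => hR ⟨⟨w, hWC hw⟩, hS₁ hw, rfl⟩
  have hW'R : ∀ w ∈ W, (c : G) * g * w * ((c : G) * g)⁻¹ ∈ (R : Subgroup G) := by
    intro w hw
    have h1 : g * w * g⁻¹ ∈ W' := ⟨w, hw, rfl⟩
    have h2 : c * ⟨g * w * g⁻¹, hW'C h1⟩ * c⁻¹ ∈ (S₁ : Subgroup C) := by
      rw [← hc]
      exact ⟨_, hS₂ h1, rfl⟩
    have h3 := hR ⟨_, h2, rfl⟩
    rw [show (c : G) * g * w * ((c : G) * g)⁻¹ = c * (g * w * g⁻¹) * (c : G)⁻¹ by group]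
    exact h3
  have e1 : W.map (MulAut.conj h).toMonoidHom = W := hwc.2 h (by
    rintro _ ⟨w, hw, rfl⟩
    exact hmem w (hWR hw))
  have e2 : W.map (MulAut.conj (h * ((c : G) * g))).toMonoidHom = W := hwc.2 _ (by
    rintro _ ⟨w, hw, rfl⟩
    show h * ((c : G) * g) * w * (h * ((c : G) * g))⁻¹ ∈ (T : Subgroup G)
    rw [show h * ((c : G) * g) * w * (h * ((c : G) * g))⁻¹ =
      h * ((c : G) * g * w * ((c : G) * g)⁻¹) * h⁻¹ by group]
    exact hmem _ (hW'R w hw))
  have n1 : h ∈ normalizer (W : Set G) := Subgroup.mem_normalizer_iff_map_conj_eq.2 e1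
  have n2 : h * ((c : G) * g) ∈ normalizer (W : Set G) := Subgroup.mem_normalizer_iff_map_conj_eq.2 e2
  refine ⟨(c : G) * g, by simpa using mul_mem (inv_mem n1) n2, ?_⟩
  calc (c : G) * g * y * ((c : G) * g)⁻¹ = (c : G) * (g * y * g⁻¹) * (c : G)⁻¹ := by group
    _ = (c : G) * y' * (c : G)⁻¹ := by rw [hg]
    _ = y' := by rw [mem_centralizer_singleton_iff.1 c.2, mul_inv_cancel_right]

/-- A weakly closed central subgroup of a Sylow subgroup is strongly closed. -/
theorem mem_of_conj_mem (hWZ : W ≤ (T : Subgroup G) ⊓ centralizer ((T : Subgroup G) : Set G))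
    (hwc : IsWeaklyClosed W (T : Subgroup G)) {w g : G} (hw : w ∈ W)
    (h : g * w * g⁻¹ ∈ (T : Subgroup G)) : g * w * g⁻¹ ∈ W := by
  obtain ⟨q, hq, e⟩ := exists_normalizer_conj hWZ hwc (hWZ hw).1 h rfl
  exact e ▸ (mem_normalizer_iff.1 hq w).1 hw

/-- An odd order element of `O_{2',2}` lies in the odd core. -/
theorem mem_oddCore_of_odd {C : Type*} [Group C] [Finite C] {x : C}
    (hx : x ∈ pPrimePCore 2 C) (hodd : Odd (orderOf x)) : x ∈ pPrimeCore 2 C := by
  haveI : Fact (Nat.Prime 2) := ⟨Nat.prime_two⟩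
  rw [pPrimePCore, mem_comap] at hx
  obtain ⟨k, hk⟩ := Core.pCore_isPGroup 2 (C ⧸ pPrimeCore 2 C) ⟨_, hx⟩
  have hk' : (QuotientGroup.mk' (pPrimeCore 2 C) x) ^ 2 ^ k = 1 := congrArg Subtype.val hk
  have h1 : orderOf (QuotientGroup.mk' (pPrimeCore 2 C) x) ∣ 1 := by
    have e1 := orderOf_map_dvd (QuotientGroup.mk' (pPrimeCore 2 C)) x
    have e2 := orderOf_dvd_of_pow_eq_one hk'
    have hco : (2 ^ k).Coprime (orderOf x) := Nat.Coprime.pow_left _ hodd.coprime_two_left
    exact (Nat.dvd_gcd e2 e1).trans (dvd_of_eq hco)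
  rw [Nat.dvd_one, orderOf_eq_one_iff] at h1
  exact (QuotientGroup.eq_one_iff x).1 h1

variable {t : G}

/-- The involutions of `T` which are `N(W)`-conjugate into the coset `W t`. -/
def CosetInvol (T : Sylow 2 G) (W : Subgroup G) (t y : G) : Prop :=
  y ∈ (T : Subgroup G) ∧
    ∃ p ∈ normalizer (W : Set G), ∃ w ∈ W, orderOf (w * t) = 2 ∧ y = p * (w * t) * p⁻¹

variable (hWZ : W ≤ (T : Subgroup G) ⊓ centralizer ((T : Subgroup G) : Set G))
    (hwc : IsWeaklyClosed W (T : Subgroup G)) (htW : t ∉ W)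
    (hcos : ∀ w ∈ W, orderOf (w * t) = 2 →
      W.subgroupOf (centralizer ({w * t} : Set G)) ≤ pPrimePCore 2 ↥(centralizer ({w * t} : Set G)))

include hWZ hwc htW hcos in
/-- Products of an involution of `W` with conjugates of coset involutions, in the principal block. -/
theorem exists_coset_value {M : Ideal AlgInt} (hM : IsPModular 2 M) {a : G} (haW : a ∈ W)
    (ha : orderOf a = 2) {y : G} (hy : CosetInvol T W t y) (g : G) :
    ∃ z, CosetInvol T W t z ∧ ∀ χ : IrrCharacter G, χ ∈ principalBlock M G →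
      (χ : G → ℂ) (a * (g * y * g⁻¹)) = (χ : G → ℂ) z := by
  haveI : Fact (Nat.Prime 2) := ⟨Nat.prime_two⟩
  obtain ⟨hyT, p, hp, w₀, hw₀, hw₀t, hye⟩ := hy
  set b := g * y * g⁻¹ with hbdef
  have hy2 : orderOf y = 2 := by rw [hye, Invol.orderOf_conj_eq, hw₀t]
  have hb : orderOf b = 2 := by rw [hbdef, Invol.orderOf_conj_eq, hy2]
  set r := a * b with hr
  have heven : Even (orderOf r) := by
    rw [← Nat.not_odd_iff_even]
    intro hodd
    obtain ⟨d, hd⟩ := isConj_iff.1 (Invol.isConj_of_odd ha hb hodd)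
    have h1 : g⁻¹ * d * a * (g⁻¹ * d)⁻¹ = y := by
      calc g⁻¹ * d * a * (g⁻¹ * d)⁻¹ = g⁻¹ * (d * a * d⁻¹) * g := by group
        _ = y := by rw [hd, hbdef]; group
    have h2 : y ∈ W := h1 ▸ mem_of_conj_mem hWZ hwc haW (h1.symm ▸ hyT)
    rw [hye] at h2
    exact htW ((W.mul_mem_cancel_left hw₀).1 ((mem_normalizer_iff.1 hp _).2 h2))
  obtain ⟨hw, hwa, -⟩ := Invol.central_involution ha hb heven
  set m := orderOf r / 2 with hm
  set w := r ^ m with hw_def
  have h2m : orderOf r = 2 * m := by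
    obtain ⟨j, hj⟩ := heven
    omega
  have hinv : a * r * a⁻¹ = r⁻¹ := Invol.conj_mul_left ha hb
  have haa := Invol.inv_mul_self ha
  have hai : a⁻¹ = a := Invol.inv_eq_self ha
  -- `a` is central in every Sylow subgroup containing it
  have hcent : ∀ (R : Subgroup G), IsPGroup 2 R → a ∈ R →
      ∃ h : G, h * a * h⁻¹ ∈ W ∧ ∀ x ∈ R, h * x * h⁻¹ ∈ (T : Subgroup G) ∧ Commute a x := by
    intro R hR haR
    obtain ⟨R', hR'⟩ := hR.exists_le_sylow
    obtain ⟨h, hh⟩ := MulAction.exists_smul_eq G R' T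
    have hmem : ∀ x ∈ R, h * x * h⁻¹ ∈ (T : Subgroup G) := by
      intro x hx
      rw [← hh]
      exact ⟨x, hR' hx, rfl⟩
    refine ⟨h, mem_of_conj_mem hWZ hwc haW (hmem a haR), fun x hx => ⟨hmem x hx, ?_⟩⟩
    have h1 := mem_centralizer_iff.1 (hWZ (mem_of_conj_mem hWZ hwc haW (hmem a haR))).2 _ (hmem x hx)
    refine (mul_left_cancel (a := h) (mul_right_cancel (b := h⁻¹) ?_) : a * x = x * a)
    calc h * (a * x) * h⁻¹ = h * a * h⁻¹ * (h * x * h⁻¹) := by group
      _ = h * x * h⁻¹ * (h * a * h⁻¹) := h1.symm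
      _ = h * (x * a) * h⁻¹ := by group
  have hmodd : Odd m := by
    rw [← Nat.not_even_iff_odd]
    rintro ⟨j, hj⟩
    set q := r ^ j with hq
    have hq4 : orderOf q = 4 := by
      have hr0 : 0 < orderOf r := orderOf_pos r
      rw [hq, orderOf_pow_of_dvd (by omega) ⟨4, by omega⟩, h2m, hj]
      rw [show 2 * (j + j) = 4 * j by ring, Nat.mul_div_cancel _ (by omega)]
    have hqinv : a * q * a⁻¹ = q⁻¹ := by rw [hq, ← conj_pow, hinv, inv_pow]
    have hp1 : IsPGroup 2 (zpowers q) :=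
      IsPGroup.of_card (n := 2) (by rw [Nat.card_zpowers, hq4]; norm_num)
    have hp2 : IsPGroup 2 (zpowers a) :=
      IsPGroup.of_card (n := 1) (by rw [Nat.card_zpowers, ha, pow_one])
    have hnorm : zpowers a ≤ normalizer (zpowers q : Set G) := by
      rw [zpowers_le, Subgroup.mem_normalizer_iff_map_conj_eq, MonoidHom.map_zpowers]
      show zpowers (a * q * a⁻¹) = zpowers q
      rw [hqinv, zpowers_inv]
    obtain ⟨h, -, hh⟩ := hcent _ (IsPGroup.to_sup_of_normal_right' hp2 hp1 hnorm)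
      (mem_sup_left (mem_zpowers a))
    have hc := (hh q (mem_sup_right (mem_zpowers q))).2
    rw [hc.eq, mul_inv_cancel_right] at hqinv
    have h4 : orderOf q ∣ 2 := orderOf_dvd_of_pow_eq_one (by
      rw [pow_two]; exact mul_eq_one_iff_eq_inv.2 hqinv)
    rw [hq4] at h4
    norm_num at h4
  set x := r ^ (m + 1) with hx
  have hrx : r = w * x := by
    rw [hw_def, hx, ← pow_add, show m + (m + 1) = orderOf r + 1 by omega, pow_succ,
      pow_orderOf_eq_one, one_mul]
  have hxodd : Odd (orderOf x) := by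
    refine hmodd.of_dvd_nat (orderOf_dvd_of_pow_eq_one ?_)
    obtain ⟨j, hj⟩ := hmodd
    rw [hx, ← pow_mul, show (m + 1) * m = orderOf r * (j + 1) by rw [h2m, hj]; ring, pow_mul,
      pow_orderOf_eq_one, one_pow]
  have hxinv : a * x * a⁻¹ = x⁻¹ := by rw [hx, ← conj_pow, hinv, inv_pow]
  -- `a w` is conjugate to `b`
  have hconj : IsConj b (a * w) := by
    refine IsConj.symm ?_
    obtain ⟨j, hj⟩ := hxodd
    have hwx : Commute w x := (Commute.refl r).pow_pow m (m + 1)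
    have hxaw : a * w * x * (a * w)⁻¹ = x⁻¹ := by
      rw [show a * w * x * (a * w)⁻¹ = a * (w * x * w⁻¹) * a⁻¹ by group, hwx.eq,
        mul_inv_cancel_right, hxinv]
    refine isConj_iff.2 ⟨x ^ (j : ℤ), ?_⟩
    have haw : a * w * (a * w) = 1 := by
      rw [mul_assoc, ← mul_assoc w, hwa.eq, mul_assoc a w, Invol.inv_mul_self hw, mul_one, haa]
    have hbeq : b = a * w * x := by
      rw [mul_assoc, ← hrx, hr, ← mul_assoc, haa, one_mul]
    rw [hbeq, Invol.zpow_mul_of_inverts haw hxaw, mul_assoc, ← zpow_neg, ← zpow_add]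
    congr 1
    conv_rhs => rw [← zpow_one x]
    rw [zpow_eq_zpow_iff_modEq, hj, Int.modEq_iff_dvd]
    exact ⟨1, by push_cast; ring⟩
  -- move the four group into `T`
  have hpw : IsPGroup 2 ↥(zpowers w ⊔ zpowers a) := by
    refine IsPGroup.to_sup_of_normal_right'
      (IsPGroup.of_card (n := 1) (by rw [Nat.card_zpowers, hw, pow_one]))
      (IsPGroup.of_card (n := 1) (by rw [Nat.card_zpowers, ha, pow_one])) ?_
    rw [zpowers_le, Subgroup.mem_normalizer_iff_map_conj_eq, MonoidHom.map_zpowers]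
    show zpowers (w * a * w⁻¹) = zpowers a
    rw [hwa.eq, mul_inv_cancel_right]
  obtain ⟨h, haW', hh⟩ := hcent _ hpw (mem_sup_right (mem_zpowers a))
  obtain ⟨hwT, -⟩ := hh w (mem_sup_left (mem_zpowers w))
  obtain ⟨hawT, -⟩ := hh (a * w) (mul_mem (mem_sup_right (mem_zpowers a)) (mem_sup_left (mem_zpowers w)))
  obtain ⟨d, hd⟩ := isConj_iff.1 hconj
  obtain ⟨q, hq, hqe⟩ := exists_normalizer_conj hWZ hwc hyT hawT (g := h * d * g) (by
    calc h * d * g * y * (h * d * g)⁻¹ = h * (d * b * d⁻¹) * h⁻¹ := by rw [hbdef]; group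
      _ = h * (a * w) * h⁻¹ := by rw [hd])
  set n := q * p with hn_def
  have hnW : n ∈ normalizer (W : Set G) := mul_mem hq hp
  set w₁ := n⁻¹ * (h * a * h⁻¹) * n with hw₁def
  have hw₁ : w₁ ∈ W := by
    refine (mem_normalizer_iff.1 hnW _).2 ?_
    rw [hw₁def, show n * (n⁻¹ * (h * a * h⁻¹) * n) * n⁻¹ = h * a * h⁻¹ by group]
    exact haW'
  have hz : h * w * h⁻¹ = n * (w₁ * w₀ * t) * n⁻¹ := by
    calc h * w * h⁻¹ = h * a * h⁻¹ * (h * (a * w) * h⁻¹) := by
          rw [show h * a * h⁻¹ * (h * (a * w) * h⁻¹) = h * (a * a * w) * h⁻¹ by group, haa, one_mul]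
      _ = h * a * h⁻¹ * (n * (w₀ * t) * n⁻¹) := by
          rw [← hqe, hye, hn_def]; group
      _ = n * (w₁ * w₀ * t) * n⁻¹ := by rw [hw₁def]; group
  have hord : orderOf (w₁ * w₀ * t) = 2 := by
    rw [← Invol.orderOf_conj_eq n (w₁ * w₀ * t), ← hz, Invol.orderOf_conj_eq, hw]
  refine ⟨h * w * h⁻¹, ⟨hwT, n, hnW, w₁ * w₀, mul_mem hw₁ hw₀, hord, hz⟩, fun χ hχ => ?_⟩
  -- move to the centralizer of the coset involution
  set c := n⁻¹ * h with hc
  set u := w₁ * w₀ * t with hu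
  have hwu : c * w * c⁻¹ = u := by
    calc c * w * c⁻¹ = n⁻¹ * (h * w * h⁻¹) * n := by rw [hc]; group
      _ = u := by rw [hz]; group
  have hau : c * a * c⁻¹ = w₁ := by rw [hc, hw₁def]; group
  set C : Subgroup G := centralizer ({u} : Set G) with hC
  have haC : c * a * c⁻¹ ∈ C := mem_centralizer_singleton_iff.2 (by
    rw [← hwu]
    calc c * a * c⁻¹ * (c * w * c⁻¹) = c * (a * w) * c⁻¹ := by group
      _ = c * (w * a) * c⁻¹ := by rw [hwa.eq]
      _ = c * w * c⁻¹ * (c * a * c⁻¹) := by group)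
  have hxC : c * x * c⁻¹ ∈ C := mem_centralizer_singleton_iff.2 (by
    rw [← hwu]
    have hxw : x * w = w * x := ((Commute.refl r).pow_pow (m + 1) m).eq
    calc c * x * c⁻¹ * (c * w * c⁻¹) = c * (x * w) * c⁻¹ := by group
      _ = c * (w * x) * c⁻¹ := by rw [hxw]
      _ = c * w * c⁻¹ * (c * x * c⁻¹) := by group)
  set xC : C := ⟨c * x * c⁻¹, hxC⟩ with hxC'
  have hxodd' : Odd (orderOf xC) := by
    rw [← Subgroup.orderOf_coe, hxC', Invol.orderOf_conj_eq]; exact hxodd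
  have hxO : xC ∈ pPrimeCore 2 C := by
    refine mem_oddCore_of_odd ?_ hxodd'
    haveI : (pPrimePCore 2 C).Normal := by unfold pPrimePCore; infer_instance
    have haO : (⟨c * a * c⁻¹, haC⟩ : C) ∈ pPrimePCore 2 C :=
      hcos _ (mul_mem hw₁ hw₀) hord (show c * a * c⁻¹ ∈ W by rw [hau]; exact hw₁)
    have h2 : xC⁻¹ * xC⁻¹ ∈ pPrimePCore 2 C := by
      have h3 := mul_mem haO ((inferInstance : (pPrimePCore 2 C).Normal).conj_mem _ (inv_mem haO) xC)
      convert h3 using 1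
      refine Subtype.ext ?_
      simp only [hxC', Subgroup.coe_mul, InvMemClass.coe_inv]
      rw [show c * a * c⁻¹ * (c * x * c⁻¹ * (c * a * c⁻¹)⁻¹ * (c * x * c⁻¹)⁻¹) =
        c * (a * x * a⁻¹ * x⁻¹) * c⁻¹ by group, hxinv]
      group
    obtain ⟨k, hk⟩ := hxodd'
    have h4 := pow_mem (inv_mem h2) (k + 1)
    rwa [mul_inv_rev, inv_inv, ← pow_two, ← pow_mul, show 2 * (k + 1) = orderOf xC + 1 by omega,
      pow_succ, pow_orderOf_eq_one, one_mul] at h4
  have hr' : (χ : G → ℂ) r = (χ : G → ℂ) (u * (c * x * c⁻¹)) := by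
    rw [← hwu, show c * w * c⁻¹ * (c * x * c⁻¹) = c * (w * x) * c⁻¹ by group, ← hrx,
      χ.2.isCharacter.conj_invariant]
  rw [hr', Cfsg.Agent.S0942.result 2 M hM u ⟨1, by rw [hord, pow_one]⟩ (c * x * c⁻¹) ⟨xC, hxO, rfl⟩ χ hχ, hz,
    χ.2.isCharacter.conj_invariant]

include hWZ hwc htW hcos in
/-- The group has a proper nontrivial normal subgroup. -/
theorem not_isSimpleGroup (hW1 : W ≠ ⊥) (ht : orderOf t = 2) (htT : t ∈ (T : Subgroup G)) :
    ¬ IsSimpleGroup G := by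
  classical
  intro hS
  haveI : Fact (Nat.Prime 2) := ⟨Nat.prime_two⟩
  haveI : Fintype G := Fintype.ofFinite G
  haveI : Nontrivial W := (Subgroup.nontrivial_iff_ne_bot W).2 hW1
  obtain ⟨k, hk, hcard⟩ := (T.isPGroup'.to_le (hWZ.trans inf_le_left)).nontrivial_iff_card.1
    (inferInstance : Nontrivial W)
  obtain ⟨⟨a, haW⟩, ha⟩ := exists_prime_orderOf_dvd_card' (G := W) 2
    (hcard ▸ dvd_pow_self 2 (by omega) : 2 ∣ Nat.card W)
  rw [Subgroup.orderOf_mk] at ha
  obtain ⟨M, hM⟩ := Block.exists_isPModular Nat.prime_two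
  set B := principalBlock M G with hB
  have hB' : IsPBlock M B := Block.isPBlock_principal
  set lam : IrrCharacter G → ℂ := fun χ => (χ : G → ℂ) a / (χ : G → ℂ) 1 with hlam
  have horth : ∀ z : G, orderOf z = 2 →
      ∑ χ ∈ B.toFinset, (χ : G → ℂ) 1 * (χ : G → ℂ) z = 0 := by
    intro z hz
    have h : ∑ χ ∈ B.toFinset, (χ : G → ℂ) 1 * conj ((χ : G → ℂ) z) = 0 := by
      rw [← finsum_mem_eq_toFinset_sum]
      refine Block.sum_block_mul_conj_eq_zero hM (Block.vInt_indVec hM hB')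
        (Block.not_isConj_pPt_of_dvd ?_ ?_)
      · rw [orderOf_one]; norm_num
      · rw [hz]
    have h' := congrArg (starRingEnd ℂ) h
    rw [map_sum, map_zero] at h'
    rw [← h']
    refine Finset.sum_congr rfl fun χ _ => ?_
    rw [map_mul, Complex.conj_conj, Block.conj_apply_one]
  have key : ∀ s : Finset ℂ, ∀ z, CosetInvol T W t z →
      ∑ χ ∈ B.toFinset, (χ : G → ℂ) 1 * (∏ μ ∈ s, (lam χ - μ)) * (χ : G → ℂ) z = 0 := by
    intro s
    induction s using Finset.induction_on with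
    | empty =>
      rintro z ⟨-, p, -, w, -, hw, hz⟩
      simpa using horth z (by rw [hz, Invol.orderOf_conj_eq, hw])
    | insert μ s hμ ih =>
      intro z hz
      choose f hf hfχ using fun g : G => exists_coset_value hWZ hwc htW hcos hM haW ha hz g
      have hmul : ∀ χ ∈ B.toFinset, lam χ * (χ : G → ℂ) z =
          (Nat.card G : ℂ)⁻¹ * ∑ g : G, (χ : G → ℂ) (f g) := by
        intro χ hχ
        rw [Set.mem_toFinset] at hχ
        have h := Char.sum_char_mul_conj χ.2 a z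
        rw [Finset.sum_congr rfl fun g _ => hfχ g χ hχ] at h
        have hc : (Nat.card G : ℂ) ≠ 0 := Char.card_cast_ne_zero
        rw [h, hlam]
        field_simp
      calc ∑ χ ∈ B.toFinset, (χ : G → ℂ) 1 * (∏ μ' ∈ insert μ s, (lam χ - μ')) * (χ : G → ℂ) z
          = ∑ χ ∈ B.toFinset, ((Nat.card G : ℂ)⁻¹ * ∑ g : G,
              (χ : G → ℂ) 1 * (∏ μ' ∈ s, (lam χ - μ')) * (χ : G → ℂ) (f g) -
              μ * ((χ : G → ℂ) 1 * (∏ μ' ∈ s, (lam χ - μ')) * (χ : G → ℂ) z)) := by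
            refine Finset.sum_congr rfl fun χ hχ => ?_
            rw [Finset.prod_insert hμ, ← Finset.mul_sum, ← mul_assoc ((Nat.card G : ℂ)⁻¹),
              mul_comm ((Nat.card G : ℂ)⁻¹), mul_assoc _ ((Nat.card G : ℂ)⁻¹), ← hmul χ hχ]
            ring
        _ = 0 := by
            rw [Finset.sum_sub_distrib, ← Finset.mul_sum, ← Finset.mul_sum, Finset.sum_comm,
              ih z hz, Finset.sum_eq_zero fun g _ => ih (f g) (hf g)]
            ring
  -- characters with `lam = 1` are constant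
  have hone : ∀ χ : IrrCharacter G, lam χ = 1 → ∀ g : G, (χ : G → ℂ) g = (χ : G → ℂ) 1 := by
    intro χ h g
    have h' : (χ : G → ℂ) a = (χ : G → ℂ) 1 := (div_eq_one_iff_eq χ.2.apply_one_ne_zero).1 h
    have hmem : a ∈ Char.charKer χ.2.isCharacter := (Char.mem_charKer _).2 h'
    rcases hS.eq_bot_or_eq_top_of_normal _ (Char.charKer_normal χ.2.isCharacter) with e | e
    · rw [e, mem_bot] at hmem
      exact absurd hmem (Invol.ne_one ha)
    · exact (Char.mem_charKer _).1 (e ▸ mem_top g)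
  set s : Finset ℂ := (B.toFinset.image lam).erase 1 with hs
  have htK : CosetInvol T W t t :=
    ⟨htT, 1, one_mem _, 1, one_mem _, by rw [one_mul, ht], by simp⟩
  have h := key s t htK
  set c : ℂ := ∏ μ ∈ s, (1 - μ) with hc
  have hterm : ∀ χ ∈ B.toFinset, (χ : G → ℂ) 1 * (∏ μ ∈ s, (lam χ - μ)) * (χ : G → ℂ) t =
      c * ((if lam χ = 1 then ‖(χ : G → ℂ) 1‖ ^ 2 else 0 : ℝ) : ℂ) := by
    intro χ hχ
    by_cases h1 : lam χ = 1
    · rw [if_pos h1, h1, hone χ h1 t, ← hc]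
      push_cast
      rw [← Complex.mul_conj', Block.conj_apply_one]
      ring
    · rw [if_neg h1, Finset.prod_eq_zero (Finset.mem_erase.2 ⟨h1, Finset.mem_image_of_mem _ hχ⟩) (sub_self _)]
      simp
  have hc0 : c ≠ 0 := Finset.prod_ne_zero_iff.2 fun μ hμ =>
    sub_ne_zero.2 (Finset.ne_of_mem_erase hμ).symm
  rw [Finset.sum_congr rfl hterm, ← Finset.mul_sum, mul_eq_zero, or_iff_right hc0,
    ← Complex.ofReal_sum, Complex.ofReal_eq_zero] at h
  have htriv := (Finset.sum_eq_zero_iff_of_nonneg fun χ _ => by split_ifs <;> positivity).1 h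
    (Block.trivChar G) (Set.mem_toFinset.2 (Block.trivChar_mem_principal hM))
  simp [hlam, Block.trivChar_coe] at htriv

end Cfsg.Lib.ZStar.CentralClosed
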