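import Cfsg.Agent.Lib.Block.KleinStructure
import Cfsg.Agent.Lib.Block.CentralDefect
import Cfsg.Agent.Lib.Block.ThirdMain
import Cfsg.Agent.Lib.Char.Triple

/-!
A group with a central involution, quaternion Sylow 2-subgroups of order eight and one class of
involutions modulo the centre: elements and averages.
-/

set_option autoImplicit false
set_option linter.unusedSectionVars false
set_option linter.style.haveILetI false

namespace Cfsg.Lib.ZStar

open Cfsg Subgroup
open scoped ComplexConjugate

universe u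

/-- The local configuration: `z` is the only involution, the 2-subgroups are quaternion of order
eight or less, and `C/⟨z⟩` has one class of involutions and a four-group Sylow subgroup. -/
structure EightCond (C : Type u) [Group C] (z : C) : Prop where
  ord : orderOf z = 2
  central : ∀ g : C, Commute z g
  invol : ∀ x : C, orderOf x = 2 → x = z
  card_dvd : ∀ Q : Subgroup C, IsPGroup 2 Q → Nat.card Q ∣ 8
  pow_four : ∀ Q : Subgroup C, IsPGroup 2 Q → ∀ x ∈ Q, x ^ 4 = 1
  pair : ∀ Q : Subgroup C, IsPGroup 2 Q → Nat.card Q = 8 →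
    ∃ x ∈ Q, ∃ y ∈ Q, orderOf y = 4 ∧ x * y * x⁻¹ = y⁻¹

variable {C : Type u} [Group C] {z : C}

theorem EightCond.normal (h : EightCond C z) : (zpowers z).Normal :=
  ⟨fun x hx g => by
    obtain ⟨i, rfl⟩ := mem_zpowers_iff.1 hx
    rw [((h.central g).zpow_left i).symm.eq, mul_inv_cancel_right]
    exact zpow_mem_zpowers z i⟩

theorem EightCond.mul_self (h : EightCond C z) : z * z = 1 := by
  rw [← pow_two, ← h.ord, pow_orderOf_eq_one]

theorem EightCond.mem_zpowers_cases (h : EightCond C z) {x : C} (hx : x ∈ zpowers z) :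
    x = 1 ∨ x = z := by
  obtain ⟨k, rfl⟩ := mem_zpowers_iff.1 hx
  rw [← zpow_mod_orderOf, h.ord]
  rcases Int.emod_two_eq k with e | e <;> rw [Nat.cast_ofNat, e] <;> simp

theorem EightCond.not_regular_mul [Finite C] (h : EightCond C z) {g : C} (hg : IsPRegular 2 g) :
    ¬ IsPRegular 2 (z * g) := by
  intro hc
  apply hc
  have hcop : (orderOf z).Coprime (orderOf g) := by
    rw [h.ord]; exact (Nat.prime_two.coprime_iff_not_dvd).2 hg
  rw [(h.central g).orderOf_mul_eq_mul_orderOf_of_coprime hcop, h.ord]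
  exact dvd_mul_right 2 _

section Quot

variable [Fintype C] [(zpowers z).Normal] [Fintype (C ⧸ zpowers z)]

local notation "Cb" => C ⧸ zpowers z

theorem EightCond.mk_regular (_h : EightCond C z) {g : C} (hg : IsPRegular 2 g) :
    IsPRegular 2 ((g : Cb)) := fun hd =>
  hg (hd.trans (orderOf_map_dvd (QuotientGroup.mk' (zpowers z)) g))

theorem EightCond.mk_mul (_h : EightCond C z) (g : C) : ((z * g : C) : Cb) = (g : Cb) := by
  rw [QuotientGroup.mk_mul, (QuotientGroup.eq_one_iff z).2 (mem_zpowers z), one_mul]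

theorem EightCond.regular_cases (h : EightCond C z) {g : C} (hg : IsPRegular 2 (g : Cb)) :
    IsPRegular 2 g ∨ IsPRegular 2 (z * g) := by
  set m := orderOf (g : Cb) with hm
  have hodd : Odd m := Nat.not_even_iff_odd.1 fun he => hg (even_iff_two_dvd.1 he)
  have hmem : g ^ m ∈ zpowers z := by
    rw [← QuotientGroup.eq_one_iff, QuotientGroup.mk_pow, hm, pow_orderOf_eq_one]
  have key : ∀ x : C, x ^ m = 1 → IsPRegular 2 x := fun x hx hd =>
    Nat.not_even_iff_odd.2 hodd (even_iff_two_dvd.2 (hd.trans (orderOf_dvd_of_pow_eq_one hx)))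
  rcases h.mem_zpowers_cases hmem with e | e
  · exact Or.inl (key g e)
  · refine Or.inr (key _ ?_)
    obtain ⟨j, hj⟩ := hodd
    rw [(h.central g).mul_pow, e, hj, pow_succ, pow_mul, pow_two, h.mul_self, one_pow, one_mul,
      h.mul_self]

theorem EightCond.regular_mk_iff (h : EightCond C z) (g : C) :
    IsPRegular 2 (g : Cb) ↔ IsPRegular 2 g ∨ IsPRegular 2 (z * g) :=
  ⟨h.regular_cases, fun h' => h'.elim h.mk_regular fun h' => h.mk_mul g ▸ h.mk_regular h'⟩

theorem EightCond.card_quot (h : EightCond C z) : (Nat.card C : ℂ) = 2 * (Nat.card Cb : ℂ) := by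
  rw [card_eq_card_quotient_mul_card_subgroup (zpowers z), Nat.card_zpowers, h.ord]
  push_cast; ring

/-- The regular elements of the quotient have one regular preimage. -/
theorem EightCond.sum_regular (h : EightCond C z) (f : Cb → ℂ) :
    ∑ g : C, pRegularPart 2 (fun g : C => f (g : Cb)) g = ∑ x : Cb, pRegularPart 2 f x := by
  classical
  simp only [pRegularPart]
  rw [← Finset.sum_filter, ← Finset.sum_filter]
  refine Finset.sum_bij (fun g _ => (g : Cb))
    (fun g hg => Finset.mem_filter.2 ⟨Finset.mem_univ _, h.mk_regular (Finset.mem_filter.1 hg).2⟩)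
    ?_ ?_ (fun _ _ => rfl)
  · intro a ha b hb e
    have hab : a⁻¹ * b ∈ zpowers z := QuotientGroup.eq.1 e
    rcases h.mem_zpowers_cases hab with e' | e'
    · exact (inv_mul_eq_one.1 e')
    · exfalso
      rw [inv_mul_eq_iff_eq_mul, ← (h.central a).eq] at e'
      exact h.not_regular_mul (Finset.mem_filter.1 ha).2 (e' ▸ (Finset.mem_filter.1 hb).2)
  · intro x hx
    obtain ⟨g, rfl⟩ := QuotientGroup.mk_surjective x
    rcases h.regular_cases (Finset.mem_filter.1 hx).2 with hr | hr
    · exact ⟨g, Finset.mem_filter.2 ⟨Finset.mem_univ _, hr⟩, rfl⟩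
    · exact ⟨z * g, Finset.mem_filter.2 ⟨Finset.mem_univ _, hr⟩, h.mk_mul g⟩

/-- A character of the quotient lies in the principal block exactly when its inflation does. -/
theorem EightCond.inflate_principal_iff (h : EightCond C z) {M : Ideal AlgInt}
    (hM : IsPModular 2 M) (ψ : IrrCharacter Cb) :
    (⟨fun g : C => (ψ : Cb → ℂ) (g : Cb),
      ψ.2.comp_surjective (QuotientGroup.mk' (zpowers z)) (QuotientGroup.mk'_surjective _)⟩ :
        IrrCharacter C) ∈ principalBlock M C ↔ ψ ∈ principalBlock M Cb := by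
  haveI : Fact (Nat.Prime 2) := ⟨Nat.prime_two⟩
  rw [← Block.regVal_one_iff hM, ← Block.regVal_one_iff hM]
  have e : ∀ (K : Type u) [Group K] [Fintype K] (χ : IrrCharacter K),
      Block.regVal 2 χ (fun _ => 1) = (∑ g, pRegularPart 2 (χ : K → ℂ) g) / (χ : K → ℂ) 1 := by
    intro K _ _ χ
    simp only [Block.regVal, Block.regInner, classInner, map_one, mul_one]
    rw [← mul_assoc, mul_inv_cancel₀ Char.card_cast_ne_zero, one_mul]
  rw [e, e]
  refine not_congr (iff_of_eq (congrArg _ ?_))
  rw [h.sum_regular (ψ : Cb → ℂ)]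
  rfl

end Quot

variable [Fintype C]

/-- An average is local when each class contributes a local amount. -/
theorem avg_mem_locRing {q : ℕ} {M : Ideal AlgInt} (hM : IsPModular q M) {f : C → ℂ}
    (hf : IsClassFunction C f)
    (h : ∀ g : C, f g / (Nat.card (centralizer ({g} : Set C)) : ℂ) ∈ Block.locRing hM) :
    (Nat.card C : ℂ)⁻¹ * ∑ g, f g ∈ Block.locRing hM := by
  classical
  haveI : Finite (ConjClasses C) := Quotient.finite _
  haveI := Fintype.ofFinite (ConjClasses C)
  rw [← Finset.sum_fiberwise_of_maps_to (g := ConjClasses.mk) (t := Finset.univ)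
    (fun _ _ => Finset.mem_univ _), Finset.mul_sum]
  refine sum_mem fun K _ => ?_
  obtain ⟨g, rfl⟩ := ConjClasses.exists_rep K
  have e : (Finset.univ.filter fun x : C => ConjClasses.mk x = ConjClasses.mk g) =
      Char.classFinset g := by
    ext x
    rw [Finset.mem_filter, Char.mem_classFinset, ConjClasses.mk_eq_mk_iff_isConj]
    exact ⟨fun h' => h'.2.symm, fun h' => ⟨Finset.mem_univ _, h'.symm⟩⟩
  rw [e, Char.sum_classFinset hf, Char.card_classFinset,
    ← (centralizer ({g} : Set C)).card_mul_index, Nat.cast_mul]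
  have h1 : (Nat.card (centralizer ({g} : Set C)) : ℂ) ≠ 0 :=
    Nat.cast_ne_zero.2 Nat.card_pos.ne'
  have h2 : ((centralizer ({g} : Set C)).index : ℂ) ≠ 0 :=
    Nat.cast_ne_zero.2 Subgroup.index_ne_zero_of_finite
  have e2 : ((Nat.card (centralizer ({g} : Set C)) : ℂ) * (centralizer ({g} : Set C)).index)⁻¹ *
      (((centralizer ({g} : Set C)).index : ℂ) * f g) =
      f g / (Nat.card (centralizer ({g} : Set C)) : ℂ) := by
    field_simp
  rw [e2]
  exact h g

/-- A faithful character has even value at an element centralizing a quaternion group. -/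
theorem isIntegral_half_of_pair {x y s : C} (hy : orderOf y = 4)
    (hxy : x * y * x⁻¹ = y⁻¹) (hxs : Commute x s) (hys : Commute y s) {η : IrrCharacter C}
    (hneg : ∀ g : C, (η : C → ℂ) (y ^ 2 * g) = -(η : C → ℂ) g) :
    IsIntegral ℤ ((η : C → ℂ) s / 2) := by
  haveI := Fintype.ofFinite (zpowers s)
  haveI := Fintype.ofFinite (zpowers y)
  let φ : zpowers s × zpowers y →* C :=
    MonoidHom.noncommCoprod (zpowers s).subtype (zpowers y).subtype fun a b => by
      obtain ⟨i, hi⟩ := mem_zpowers_iff.1 a.2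
      obtain ⟨j, hj⟩ := mem_zpowers_iff.1 b.2
      simp only [Subgroup.coe_subtype, ← hi, ← hj]
      exact (hys.symm.zpow_left i).zpow_right j
  have hI : orderOf (Units.mk0 Complex.I Complex.I_ne_zero) ∣ orderOf y := by
    rw [hy]
    exact orderOf_dvd_of_pow_eq_one (Units.ext (by simp [Units.val_pow_eq_pow_val]))
  let lam : zpowers y →* ℂˣ := monoidHomOfForallMemZpowers
    (g := (⟨y, mem_zpowers y⟩ : zpowers y)) (fun b => by
      obtain ⟨j, hj⟩ := mem_zpowers_iff.1 b.2
      exact ⟨j, Subtype.ext hj⟩) (g' := Units.mk0 Complex.I Complex.I_ne_zero)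
    (by rw [Subgroup.orderOf_mk]; exact hI)
  have hξ : IsCharacter (zpowers s × zpowers y)
      ((fun t => (η : C → ℂ) (φ t)) * fun t => (lam (MonoidHom.snd (zpowers s) (zpowers y) t) : ℂ)) :=
    (η.2.isCharacter.comp φ).mul ((Char.isIrrCharacter_linear lam).isCharacter.comp
      (MonoidHom.snd (zpowers s) (zpowers y)))
  have h := Block.isIntegral_avg_prod hξ ⟨s, mem_zpowers s⟩
  rw [Nat.card_zpowers, hy] at h
  have hfin : IsOfFinOrder y := isOfFinOrder_of_finite y
  rw [← Fintype.sum_equiv ((finCongr hy.symm).trans (finEquivZPowers hfin))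
    (fun i : Fin 4 => (η : C → ℂ) (s * y ^ (i : ℕ)) * Complex.I ^ (i : ℕ)) _ (fun i => ?_),
    Fin.sum_univ_four] at h
  · have e3 : (η : C → ℂ) (s * y ^ 3) = (η : C → ℂ) (s * y) := by
      have h3 : y ^ 3 = y⁻¹ := by
        rw [eq_inv_iff_mul_eq_one, ← pow_succ, show 3 + 1 = orderOf y by rw [hy],
          pow_orderOf_eq_one]
      rw [h3, ← hxy, show s * (x * y * x⁻¹) = x * (s * y) * x⁻¹ by
        rw [← mul_assoc, ← mul_assoc, ← hxs.eq, mul_assoc x s y]]
      exact η.2.isClassFunction _ _
    have e2 : (η : C → ℂ) (s * y ^ 2) = -(η : C → ℂ) s := by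
      rw [← (hys.pow_left 2).eq, hneg]
    simp only [Fin.val_zero, Fin.val_one, Fin.val_two, pow_zero, pow_one, mul_one,
      show ((3 : Fin 4) : ℕ) = 3 from rfl, e2, e3, Complex.I_sq, Complex.I_pow_three] at h
    convert h using 1
    push_cast
    ring
  · show _ = (η : C → ℂ) (φ (⟨s, _⟩, _)) * (lam _ : ℂ)
    have he : (((finCongr hy.symm).trans (finEquivZPowers hfin)) i : zpowers y) =
        (⟨y, mem_zpowers y⟩ : zpowers y) ^ (i : ℕ) := Subtype.ext (by
      simp [finEquivZPowers_apply, Fin.val_cast])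
    rw [he]
    show _ = (η : C → ℂ) (s * _) * (lam ((⟨y, mem_zpowers y⟩ : zpowers y) ^ (i : ℕ)) : ℂ)
    rw [map_pow lam, monoidHomOfForallMemZpowers_apply_gen]
    simp

end Cfsg.Lib.ZStar
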