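import Cfsg.Agent.Lib.ZStar.EightVals
import Cfsg.Agent.Lib.Block.KleinCount
import Cfsg.Agent.Lib.Block.SectionCount
import Cfsg.Agent.Lib.ZStar.Fusion

/-!
The rank of the principal block in the local configuration.
-/

set_option autoImplicit false
set_option linter.unusedSectionVars false
set_option linter.style.haveILetI false
set_option maxHeartbeats 800000

namespace Cfsg.Lib.ZStar

open Cfsg Subgroup
open scoped ComplexConjugate

universe u

/-- The local configuration is invariant under isomorphism. -/
theorem EightCond.of_equiv {C D : Type u} [Group C] [Group D] {z : C} (h : EightCond C z)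
    (e : C ≃* D) : EightCond D (e z) := by
  have key : ∀ Q : Subgroup D, IsPGroup 2 Q →
      IsPGroup 2 (Q.comap e.toMonoidHom) ∧ Nat.card (Q.comap e.toMonoidHom) = Nat.card Q :=
    fun Q hQ => ⟨hQ.comap_of_injective e.toMonoidHom e.injective, by
      rw [← card_map_of_injective (K := Q.comap e.toMonoidHom) (f := e.toMonoidHom) e.injective,
        map_comap_eq_self_of_surjective e.surjective]⟩
  refine ⟨by rw [MulEquiv.orderOf_eq, h.ord], fun g => ?_, fun x hx => ?_, fun Q hQ => ?_,
    fun Q hQ x hx => ?_, fun Q hQ h8 => ?_⟩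
  · have := (h.central (e.symm g)).map e.toMonoidHom
    simpa using this
  · rw [← h.invol (e.symm x) (by rw [MulEquiv.orderOf_eq, hx]), MulEquiv.apply_symm_apply]
  · exact (key Q hQ).2 ▸ h.card_dvd _ (key Q hQ).1
  · have := h.pow_four _ (key Q hQ).1 (e.symm x) (by simpa using hx)
    simpa using congrArg e this
  · obtain ⟨x, hx, y, hy, hoy, hxy⟩ := h.pair _ (key Q hQ).1 ((key Q hQ).2.trans h8)
    refine ⟨e x, hx, e y, hy, by rw [MulEquiv.orderOf_eq, hoy], ?_⟩
    simpa using congrArg e hxy

variable {C : Type u} [Group C] [Fintype C] {z : C} {M : Ideal AlgInt}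

/-- In the local configuration without a normal 2-complement the quotient by the centre has one
class of involutions. -/
theorem EightCond.kleinCond (h : EightCond C z) [(zpowers z).Normal]
    [Fintype (C ⧸ zpowers z)] {g₀ : ℕ} (hodd : Odd g₀) (hcard : Nat.card C = 8 * g₀) (hne : g₀ ≠ 1)
    (hO : oddCore C = ⊥) (P : Sylow 2 (C ⧸ zpowers z)) : Block.KleinCond P := by
  haveI : Fact (Nat.Prime 2) := ⟨Nat.prime_two⟩
  have hcardQ : Nat.card (C ⧸ zpowers z) = 4 * g₀ := by
    have h1 := card_eq_card_quotient_mul_card_subgroup (zpowers z)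
    rw [Nat.card_zpowers, h.ord, hcard] at h1
    omega
  refine Block.kleinCond_of_no_complement hodd hcardQ ?_
  rintro ⟨N, hN, hNc⟩
  have h1 : N.comap (QuotientGroup.mk' (zpowers z)) ≤ zpowers z :=
    (comap_mono (le_oddCore hN (hNc ▸ hodd))).trans_eq (comap_oddCore_eq hO (zpowers z)
      (zpowers_le.2 (mem_center_iff.2 fun g => (h.central g).eq.symm))
      (IsPGroup.of_card (n := 1) (by rw [Nat.card_zpowers, h.ord, pow_one])))
  have h2 := Nat.le_of_dvd Nat.card_pos (card_dvd_of_le h1)
  rw [Core.card_comap_eq _ (QuotientGroup.mk'_surjective _), QuotientGroup.ker_mk',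
    Nat.card_zpowers, h.ord, hNc] at h2
  have := hodd.pos
  omega

variable [(zpowers z).Normal] [Fintype (C ⧸ zpowers z)]

local notation "Cb" => C ⧸ zpowers z

/-- Inflation of the part on regular elements. -/
noncomputable def liftReg : (Cb → ℂ) →ₗ[ℂ] (C → ℂ) where
  toFun f := pRegularPart 2 fun g => f (g : Cb)
  map_add' f f' := funext fun g => by
    by_cases hg : IsPRegular 2 g
    · simp [Block.pRegularPart_of_reg hg]
    · simp [Block.pRegularPart_of_sing hg]
  map_smul' c f := funext fun g => by
    by_cases hg : IsPRegular 2 g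
    · simp [Block.pRegularPart_of_reg hg]
    · simp [Block.pRegularPart_of_sing hg]

open Classical in
/-- The sum of a function over the fibres. -/
noncomputable def fibreSum : (C → ℂ) →ₗ[ℂ] (Cb → ℂ) where
  toFun f x := ∑ g ∈ Finset.univ.filter (fun g : C => (g : Cb) = x), f g
  map_add' f f' := funext fun x => by simp [Finset.sum_add_distrib]
  map_smul' c f := funext fun x => by simp [Finset.mul_sum]

theorem fibreSum_liftReg (h : EightCond C z) (f : Cb → ℂ) :
    fibreSum (z := z) (liftReg (z := z) f) = pRegularPart 2 f := by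
  classical
  funext x
  obtain ⟨g, rfl⟩ := QuotientGroup.mk_surjective x
  show ∑ k ∈ Finset.univ.filter (fun k : C => (k : Cb) = g),
    pRegularPart 2 (fun k : C => f (k : Cb)) k = _
  by_cases hg : IsPRegular 2 (g : Cb)
  · obtain ⟨k, hk, hkg⟩ : ∃ k : C, IsPRegular 2 k ∧ (k : Cb) = (g : Cb) := by
      rcases h.regular_cases hg with hr | hr
      · exact ⟨g, hr, rfl⟩
      · exact ⟨z * g, hr, h.mk_mul g⟩
    rw [Finset.sum_eq_single k, Block.pRegularPart_of_reg hk, Block.pRegularPart_of_reg hg, hkg]
    · intro l hl hne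
      refine Block.pRegularPart_of_sing fun hr => hne ?_
      have hab : k⁻¹ * l ∈ zpowers z :=
        QuotientGroup.eq.1 (hkg.trans (Finset.mem_filter.1 hl).2.symm)
      rcases h.mem_zpowers_cases hab with e' | e'
      · exact (inv_mul_eq_one.1 e').symm
      · rw [inv_mul_eq_iff_eq_mul, ← (h.central k).eq] at e'
        exact absurd (e' ▸ hr) (h.not_regular_mul hk)
    · exact fun h' => (h' (Finset.mem_filter.2 ⟨Finset.mem_univ _, hkg⟩)).elim
  · rw [Block.pRegularPart_of_sing hg]
    refine Finset.sum_eq_zero fun k hk => Block.pRegularPart_of_sing fun hr => hg ?_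
    rw [← (Finset.mem_filter.1 hk).2]
    exact h.mk_regular hr

theorem liftReg_fibreSum (h : EightCond C z) (f : C → ℂ) :
    liftReg (z := z) (fibreSum (z := z) (pRegularPart 2 f)) = pRegularPart 2 f := by
  classical
  funext g
  show pRegularPart 2 (fun g : C => ∑ k ∈ Finset.univ.filter (fun k : C => (k : Cb) = (g : Cb)),
    pRegularPart 2 f k) g = _
  by_cases hg : IsPRegular 2 g
  · rw [Block.pRegularPart_of_reg hg, Finset.sum_eq_single g]
    · intro l hl hne
      refine Block.pRegularPart_of_sing fun hr => hne ?_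
      have hab : g⁻¹ * l ∈ zpowers z :=
        QuotientGroup.eq.1 (Finset.mem_filter.1 hl).2.symm
      rcases h.mem_zpowers_cases hab with e' | e'
      · exact (inv_mul_eq_one.1 e').symm
      · rw [inv_mul_eq_iff_eq_mul, ← (h.central g).eq] at e'
        exact absurd (e' ▸ hr) (h.not_regular_mul hg)
    · exact fun h' => (h' (Finset.mem_filter.2 ⟨Finset.mem_univ _, rfl⟩)).elim
  · rw [Block.pRegularPart_of_sing hg, Block.pRegularPart_of_sing hg]

theorem pRegularPart_twice {K : Type u} [Group K] [Fintype K] (f : K → ℂ) :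
    pRegularPart 2 (pRegularPart 2 f) = pRegularPart 2 f := funext fun g => by
  by_cases hg : IsPRegular 2 g
  · simp [Block.pRegularPart_of_reg hg]
  · simp [Block.pRegularPart_of_sing hg]

open Classical in
/-- The regular part of a member of the principal block is inflated from the quotient's block. -/
theorem regPart_mem_span (h : EightCond C z) (hM : IsPModular 2 M) {η : IrrCharacter C}
    (hη : η ∈ principalBlock M C) :
    pRegularPart 2 (η : C → ℂ) ∈ Submodule.map liftReg (Submodule.span ℂ
      ((fun ψ : IrrCharacter Cb => pRegularPart 2 (ψ : Cb → ℂ)) '' principalBlock M Cb)) := by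
  haveI : Fact (Nat.Prime 2) := ⟨Nat.prime_two⟩
  have hB := Block.vInt_indVec hM (Block.isPBlock_principal (M := M) (G := C))
  set f : Cb → ℂ := fibreSum (pRegularPart 2 (η : C → ℂ)) with hf
  have hfc : IsClassFunction Cb f := by
    intro x y
    obtain ⟨k, rfl⟩ := QuotientGroup.mk_surjective y
    show ∑ g ∈ _, _ = ∑ g ∈ _, _
    refine (Finset.sum_equiv (MulAut.conj k).toEquiv (fun g => ?_) fun g _ => ?_).symm
    · simp only [Finset.mem_filter, Finset.mem_univ, true_and]
      show _ ↔ ((k * g * k⁻¹ : C) : Cb) = _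
      rw [QuotientGroup.mk_mul, QuotientGroup.mk_mul, QuotientGroup.mk_inv, mul_left_inj,
        mul_right_inj]
    · exact (Block.isClassFunction_pRegularPart η.2.isClassFunction g k).symm
  have hzero : ∀ ψ : IrrCharacter Cb, ψ ∉ principalBlock M Cb →
      classInner f (ψ : Cb → ℂ) = 0 := by
    intro ψ hψ
    have e : ∑ x : Cb, f x * conj ((ψ : Cb → ℂ) x) =
        ∑ g : C, pRegularPart 2 (η : C → ℂ) g * conj ((ψ : Cb → ℂ) (g : Cb)) := by
      rw [← Finset.sum_fiberwise_of_maps_to (g := fun g : C => (g : Cb)) (t := Finset.univ)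
        (fun _ _ => Finset.mem_univ _)]
      refine Finset.sum_congr rfl fun x _ => ?_
      show (∑ g ∈ _, _) * _ = _
      rw [Finset.sum_mul]
      exact Finset.sum_congr rfl fun g hg => by rw [(Finset.mem_filter.1 hg).2]
    have h0 : Block.regInner 2 (η : C → ℂ) (inflate ψ : C → ℂ) = 0 :=
      Block.regInner_eq_zero hM hB hη (ψ := inflate ψ)
        (fun h' => hψ ((h.inflate_principal_iff hM ψ).1 h'))
    simp only [Block.regInner, classInner, inflate, mul_eq_zero, inv_eq_zero] at h0
    rw [classInner, e, h0.resolve_left Char.card_cast_ne_zero, mul_zero]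
  refine ⟨pRegularPart 2 f, ?_, ?_⟩
  · have hexp : pRegularPart 2 f = ∑ ψ ∈ (principalBlock M Cb).toFinset,
        classInner f (ψ : Cb → ℂ) • pRegularPart 2 (ψ : Cb → ℂ) := by
      funext x
      have he := congrFun (Char.eq_sum_classInner hfc) x
      simp only [Finset.sum_apply, Pi.smul_apply, smul_eq_mul] at he ⊢
      by_cases hx : IsPRegular 2 x
      · simp only [Block.pRegularPart_of_reg hx]
        rw [he]
        exact Finset.sum_subset_zero_on_sdiff (Finset.subset_univ _) (fun ψ hψ => by
          rw [hzero ψ fun h' => (Finset.mem_sdiff.1 hψ).2 (Set.mem_toFinset.2 h'), zero_mul])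
          (fun ψ _ => rfl) |>.symm
      · simp [Block.pRegularPart_of_sing hx]
    rw [hexp]
    exact sum_mem fun ψ hψ => Submodule.smul_mem _ _
      (Submodule.subset_span ⟨ψ, Set.mem_toFinset.1 hψ, rfl⟩)
  · rw [← liftReg_fibreSum h (η : C → ℂ), ← hf]
    funext g
    show pRegularPart 2 (fun g : C => pRegularPart 2 f (g : Cb)) g =
      pRegularPart 2 (fun g : C => f (g : Cb)) g
    by_cases hg : IsPRegular 2 g
    · rw [Block.pRegularPart_of_reg hg, Block.pRegularPart_of_reg hg,
        Block.pRegularPart_of_reg (h.mk_regular hg)]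
    · rw [Block.pRegularPart_of_sing hg, Block.pRegularPart_of_sing hg]

/-- The rank of the principal block is three. -/
theorem blockRank_principal (h : EightCond C z) (hM : IsPModular 2 M) {P : Sylow 2 Cb}
    (hP : Block.KleinCond P) : blockRank 2 (principalBlock M C) = 3 := by
  classical
  haveI : Fact (Nat.Prime 2) := ⟨Nat.prime_two⟩
  obtain ⟨τ, -, hτ⟩ := hP.exists_involution
  set W := Submodule.span ℂ
    ((fun ψ : IrrCharacter Cb => pRegularPart 2 (ψ : Cb → ℂ)) '' principalBlock M Cb) with hW
  have hW3 : Module.finrank ℂ W = 3 := Block.klein_rank hM hP hτ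
  have heq : Submodule.span ℂ ((fun χ : IrrCharacter C => pRegularPart 2 (χ : C → ℂ)) ''
      principalBlock M C) = W.map liftReg := by
    refine le_antisymm (Submodule.span_le.2 ?_) ?_
    · rintro _ ⟨η, hη, rfl⟩
      exact regPart_mem_span h hM hη
    · rw [Submodule.map_le_iff_le_comap, hW, Submodule.span_le]
      rintro _ ⟨ψ, hψ, rfl⟩
      refine Submodule.subset_span ⟨inflate ψ, (h.inflate_principal_iff hM ψ).2 hψ, ?_⟩
      funext g
      show pRegularPart 2 (fun g : C => (ψ : Cb → ℂ) (g : Cb)) g =
        pRegularPart 2 (fun g : C => pRegularPart 2 (ψ : Cb → ℂ) (g : Cb)) g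
      by_cases hg : IsPRegular 2 g
      · rw [Block.pRegularPart_of_reg hg, Block.pRegularPart_of_reg hg,
          Block.pRegularPart_of_reg (h.mk_regular hg)]
      · rw [Block.pRegularPart_of_sing hg, Block.pRegularPart_of_sing hg]
  have hback : (W.map liftReg).map (fibreSum (C := C) (z := z)) = W := by
    refine le_antisymm ?_ ?_
    · rw [← Submodule.map_comp, Submodule.map_le_iff_le_comap, hW, Submodule.span_le]
      rintro _ ⟨ψ, hψ, rfl⟩
      rw [SetLike.mem_coe, Submodule.mem_comap, LinearMap.comp_apply, fibreSum_liftReg h,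
        pRegularPart_twice]
      exact Submodule.subset_span ⟨ψ, hψ, rfl⟩
    · rw [hW, Submodule.span_le]
      rintro _ ⟨ψ, hψ, rfl⟩
      refine ⟨_, Submodule.mem_map_of_mem (Submodule.subset_span ⟨ψ, hψ, rfl⟩), ?_⟩
      rw [fibreSum_liftReg h, pRegularPart_twice]
  show Module.finrank ℂ _ = 3
  rw [heq]
  refine le_antisymm (hW3 ▸ Submodule.finrank_map_le _ _) ?_
  rw [← hW3]
  conv_lhs => rw [← hback]
  exact Submodule.finrank_map_le _ _

end Cfsg.Lib.ZStar
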