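import Cfsg.Agent.Lib.ZStar.EightBasic

/-!
Generalized characters supported on the singular elements of the local configuration.
-/

set_option autoImplicit false
set_option linter.unusedSectionVars false
set_option linter.style.haveILetI false
set_option maxHeartbeats 1000000

namespace Cfsg.Lib.ZStar

open Cfsg Subgroup
open scoped ComplexConjugate

universe u

variable {C : Type u} [Group C] {z : C} [Fintype C] [(zpowers z).Normal]
  [Fintype (C ⧸ zpowers z)]

local notation "Cb" => C ⧸ zpowers z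

/-- A character multiplied by its sign on an involution, inflated. -/
def signFn (τ : Cb) (ψ : IrrCharacter Cb) : C → ℂ :=
  fun g => (ψ : Cb → ℂ) τ * (ψ : Cb → ℂ) (g : Cb)

/-- The inflated character. -/
def inflate (ψ : IrrCharacter Cb) : IrrCharacter C :=
  ⟨fun g : C => (ψ : Cb → ℂ) (g : Cb),
    ψ.2.comp_surjective (QuotientGroup.mk' (zpowers z)) (QuotientGroup.mk'_surjective _)⟩

open Classical in
/-- The function of the quotient made odd under multiplication by `z`, on the elements whose image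
is regular. -/
noncomputable def oddFn (f : Cb → ℂ) : C → ℂ := fun g =>
  if IsPRegular 2 g then f (g : Cb) else if IsPRegular 2 (z * g) then -f (g : Cb) else 0

theorem classInner_comp_mulLeft (f f' : C → ℂ) (a : C) :
    classInner (fun g => f (a * g)) (fun g => f' (a * g)) = classInner f f' := by
  simp only [classInner]
  congr 1
  exact Equiv.sum_comp (Equiv.mulLeft a) (fun g => f g * conj (f' g))

theorem oddFn_mul (h : EightCond C z) (f : Cb → ℂ) (g : C) :
    oddFn f (z * g) = -oddFn f g := by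
  have e : z * (z * g) = g := by rw [← mul_assoc, h.mul_self, one_mul]
  have h' : IsPRegular 2 (z * (z * g)) ↔ IsPRegular 2 g := by rw [e]
  simp only [oddFn, h.mk_mul]
  by_cases h1 : IsPRegular 2 g
  · rw [if_pos h1, if_neg (h.not_regular_mul h1), if_pos (h'.2 h1)]
  · by_cases h2 : IsPRegular 2 (z * g)
    · rw [if_neg h1, if_pos h2, if_pos h2, neg_neg]
    · rw [if_neg h1, if_neg h2, if_neg h2, if_neg (fun h3 => h1 (h'.1 h3)), neg_zero]

theorem classInner_oddFn_comp (h : EightCond C z) (f f' : Cb → ℂ) :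
    classInner (oddFn f) (fun g : C => f' (g : Cb)) = 0 := by
  have h1 := classInner_comp_mulLeft (oddFn f) (fun g : C => f' (g : Cb)) z
  simp only [h.mk_mul] at h1
  rw [show (fun g => oddFn f (z * g)) = -oddFn f from funext fun g => oddFn_mul h f g,
    Char.classInner_neg_left] at h1
  linear_combination -h1 / 2

theorem classInner_oddFn_oddFn (h : EightCond C z) (f f' : Cb → ℂ) :
    classInner (oddFn f) (oddFn f') = classInner (pRegularPart 2 f) f' := by
  rw [← Char.classInner_comp_surjective (QuotientGroup.mk' (zpowers z))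
    (QuotientGroup.mk'_surjective _) (pRegularPart 2 f) f']
  simp only [classInner]
  congr 1
  refine Finset.sum_congr rfl fun g _ => ?_
  simp only [oddFn]
  by_cases h1 : IsPRegular 2 g
  · rw [if_pos h1, if_pos h1, Block.pRegularPart_of_reg (g := QuotientGroup.mk' (zpowers z) g)
      (h.mk_regular h1)]
    rfl
  · rw [if_neg h1, if_neg h1]
    by_cases h2 : IsPRegular 2 (z * g)
    · rw [if_pos h2, if_pos h2, map_neg, neg_mul_neg,
        Block.pRegularPart_of_reg (g := QuotientGroup.mk' (zpowers z) g)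
          ((h.regular_mk_iff g).2 (Or.inr h2))]
      rfl
    · rw [if_neg h2, if_neg h2, Block.pRegularPart_of_sing (g := QuotientGroup.mk' (zpowers z) g)
        (fun h' => ((h.regular_mk_iff g).1 h').elim h1 h2)]
      simp

theorem oddFn_eq (h : EightCond C z) (f : Cb → ℂ) :
    oddFn f = (pRegularPart 2 fun g : C => f (g : Cb)) -
      (fun g => pRegularPart 2 (fun g : C => f (g : Cb)) (z * g)) := by
  funext g
  simp only [oddFn, pRegularPart, Pi.sub_apply, h.mk_mul]
  by_cases h1 : IsPRegular 2 g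
  · simp [h1, h.not_regular_mul h1]
  · by_cases h2 : IsPRegular 2 (z * g) <;> simp [h1, h2]

variable {P : Sylow 2 (C ⧸ zpowers z)} {τ : C ⧸ zpowers z} {M : Ideal AlgInt}

theorem sign_sq (hM : IsPModular 2 M) (hP : Block.KleinCond P) (hτ : orderOf τ = 2)
    {k : IrrCharacter Cb} (hk : k ∈ principalBlock M Cb) :
    (k : Cb → ℂ) τ * (k : Cb → ℂ) τ = 1 ∧ conj ((k : Cb → ℂ) τ) = (k : Cb → ℂ) τ ∧
      IsIntegral ℤ ((k : Cb → ℂ) τ) := by
  rcases (Block.klein_signs hM hP hτ).1 k hk with e | e <;> rw [e] <;>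
    refine ⟨by norm_num, by simp, ?_⟩
  · exact isIntegral_one
  · exact isIntegral_one.neg

/-- At an element centralizing an element of order four the sum of two signed characters is even. -/
theorem isIntegral_half_sum (h : EightCond C z) (hM : IsPModular 2 M) (hP : Block.KleinCond P)
    (hτ : orderOf τ = 2) {k : IrrCharacter Cb} (hk : k ∈ principalBlock M Cb) {y s : C}
    (hy : orderOf y = 4) (hys : Commute y s) (hs : IsPRegular 2 s) :
    IsIntegral ℤ ((1 + (k : Cb → ℂ) τ * (k : Cb → ℂ) (s : Cb)) / 2) := by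
  classical
  obtain ⟨hc, -, hci⟩ := sign_sq hM hP hτ hk
  set yb : Cb := (y : Cb) with hyb
  set sb : Cb := (s : Cb) with hsb
  have hyb2 : orderOf yb = 2 := by
    refine orderOf_eq_prime ?_ fun e => ?_
    · rw [hyb, ← QuotientGroup.mk_pow, QuotientGroup.eq_one_iff]
      have : orderOf (y ^ 2) = 2 := by rw [orderOf_pow_of_dvd two_ne_zero (hy ▸ by norm_num), hy]
      rw [h.invol _ this]
      exact mem_zpowers z
    · rcases h.mem_zpowers_cases ((QuotientGroup.eq_one_iff y).1 e) with e' | e'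
      · rw [e', orderOf_one] at hy; omega
      · rw [e', h.ord] at hy; omega
  set Y := zpowers yb with hY
  haveI := Fintype.ofFinite Y
  have hYc : Nat.card Y = 2 := by rw [hY, Nat.card_zpowers, hyb2]
  have hyself : yb * yb = 1 := by rw [← pow_two, ← hyb2, pow_orderOf_eq_one]
  have hYcases : ∀ t : Y, t = 1 ∨ t = ⟨yb, mem_zpowers yb⟩ := by
    rintro ⟨t, ht⟩
    obtain ⟨i, rfl⟩ := mem_zpowers_iff.1 ht
    rcases Int.emod_two_eq i with e | e
    · exact Or.inl (Subtype.ext (show yb ^ i = 1 by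
        rw [← zpow_mod_orderOf, hyb2, Nat.cast_ofNat]; simp [e]))
    · exact Or.inr (Subtype.ext (show yb ^ i = yb by
        rw [← zpow_mod_orderOf, hyb2, Nat.cast_ofNat]; simp [e]))
  have hcomm : Commute yb sb := hys.map (QuotientGroup.mk' (zpowers z))
  have hsy : ∀ t ∈ Y, Commute sb t := by
    intro t ht
    obtain ⟨i, rfl⟩ := mem_zpowers_iff.1 ht
    exact hcomm.symm.zpow_right i
  have h1 := Block.isIntegral_avg_section sb Y hsy k.2.isCharacter
  have huniv : (Finset.univ : Finset Y) = {1, ⟨yb, mem_zpowers yb⟩} := by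
    ext t
    simp only [Finset.mem_univ, Finset.mem_insert, Finset.mem_singleton, true_iff]
    exact hYcases t
  have hne : (1 : Y) ≠ ⟨yb, mem_zpowers yb⟩ := fun e => by
    have e' := congrArg Subtype.val e
    rw [Subgroup.coe_one] at e'
    rw [← show (1 : Cb) = yb from e', orderOf_one] at hyb2
    omega
  rw [huniv, Finset.sum_pair hne, hYc, Subgroup.coe_one, mul_one] at h1
  have hsing : ¬ IsPRegular 2 (sb * yb) := by
    intro hr
    have h2 : orderOf ((sb * yb) ^ orderOf sb) ∣ orderOf (sb * yb) := orderOf_pow_dvd _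
    rw [hcomm.symm.mul_pow, pow_orderOf_eq_one, one_mul] at h2
    obtain ⟨j, hj⟩ : Odd (orderOf sb) :=
      Nat.not_even_iff_odd.1 fun he => h.mk_regular hs (even_iff_two_dvd.1 he)
    rw [hj, pow_succ, pow_mul, pow_two, hyself, one_pow, one_mul, hyb2] at h2
    exact hr h2
  rw [Block.klein_apply_singular hM hP hτ hk hsing] at h1
  have e : ((1 : ℂ) + (k : Cb → ℂ) τ * (k : Cb → ℂ) sb) / 2 =
      (k : Cb → ℂ) τ * ((2 : ℂ)⁻¹ * ((k : Cb → ℂ) sb + (k : Cb → ℂ) τ)) := by
    linear_combination (-(1 / 2) : ℂ) * hc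
  rw [e]
  exact hci.mul (by exact_mod_cast h1)

theorem isClassFunction_oddFn (h : EightCond C z) {f : Cb → ℂ} (hf : IsClassFunction Cb f) :
    IsClassFunction C (oddFn f) := by
  intro g k
  have e : z * (k * g * k⁻¹) = k * (z * g) * k⁻¹ := by
    rw [← mul_assoc, ← mul_assoc, ← mul_assoc, (h.central k).eq]
  simp only [oddFn, QuotientGroup.mk_mul, QuotientGroup.mk_inv, hf _ _]
  have i1 : IsPRegular 2 (k * g * k⁻¹) ↔ IsPRegular 2 g := Block.isPRegular_conj_iff g k
  have i2 : IsPRegular 2 (z * (k * g * k⁻¹)) ↔ IsPRegular 2 (z * g) := by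
    rw [e]; exact Block.isPRegular_conj_iff _ k
  by_cases h1 : IsPRegular 2 g
  · rw [if_pos h1, if_pos (i1.2 h1)]
  · by_cases h2 : IsPRegular 2 (z * g)
    · rw [if_neg h1, if_pos h2, if_neg (fun h' => h1 (i1.1 h')), if_pos (i2.2 h2)]
    · rw [if_neg h1, if_neg h2, if_neg (fun h' => h1 (i1.1 h')), if_neg (fun h' => h2 (i2.1 h'))]

/-- The odd function of a sum of two signed characters is a generalized character. -/
theorem isGeneralizedCharacter_oddFn (h : EightCond C z) (hM : IsPModular 2 M)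
    (hP : Block.KleinCond P) (hτ : orderOf τ = 2) {k : IrrCharacter Cb}
    (hk : k ∈ principalBlock M Cb) :
    IsGeneralizedCharacter C (oddFn fun x => 1 + (k : Cb → ℂ) τ * (k : Cb → ℂ) x) := by
  classical
  haveI : Fact (Nat.Prime 2) := ⟨Nat.prime_two⟩
  set c := (k : Cb → ℂ) τ with hc
  set f : Cb → ℂ := fun x => 1 + c * (k : Cb → ℂ) x with hf
  have hfc : IsClassFunction Cb f := fun x y => by simp only [hf, k.2.isClassFunction x y]
  rw [Char.isGeneralizedCharacter_iff]
  refine ⟨isClassFunction_oddFn h hfc, fun ξ hξ => ?_⟩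
  set η : IrrCharacter C := ⟨ξ, hξ⟩ with hη
  obtain ⟨κ, hκ, hκg⟩ := Block.exists_central_scalar η
    (mem_center_iff.2 fun g => (h.central g).eq.symm)
  rw [h.ord] at hκ
  have hκ2 : κ = 1 ∨ κ = -1 := sq_eq_one_iff.1 hκ
  set A : C → ℂ := pRegularPart 2 fun g : C => f (g : Cb) with hA
  have hr : classInner (oddFn f) ξ = (1 - κ) * classInner A ξ := by
    rw [oddFn_eq h, Char.classInner_sub_left]
    have e1 : ξ = fun g => (κ • ξ) (z * g) := funext fun g => by
      show ξ g = κ * (η : C → ℂ) (z * g)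
      rw [hκg, ← mul_assoc, ← pow_two, hκ, one_mul, hη]
    have e2 : classInner (fun g => A (z * g)) ξ = κ * classInner A ξ := by
      conv_lhs => rw [e1]
      rw [classInner_comp_mulLeft A (κ • ξ) z, Char.classInner_smul_right]
      rcases hκ2 with e | e <;> simp [e]
    rw [← hA, e2]; ring
  have hA2 : classInner A ξ = Block.regInner 2 ((Block.trivChar C : IrrCharacter C) : C → ℂ) ξ +
      c * Block.regInner 2 (inflate k : C → ℂ) ξ := by
    rw [Block.regInner, Block.regInner, ← Char.classInner_smul_left, ← Char.classInner_add_left]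
    congr 1
    funext g
    by_cases hg : IsPRegular 2 g
    · simp only [hA, Pi.add_apply, Pi.smul_apply, smul_eq_mul, Block.pRegularPart_of_reg hg]
      rfl
    · simp only [hA, Pi.add_apply, Pi.smul_apply, smul_eq_mul, Block.pRegularPart_of_sing hg]
      simp
  rcases hκ2 with rfl | rfl
  · exact ⟨0, by rw [hr]; simp⟩
  obtain ⟨q₁, hq₁⟩ := Block.exists_rat_regInner (p := 2) (Block.trivChar C) η
  obtain ⟨q₂, hq₂⟩ := Block.exists_rat_regInner (p := 2) (inflate k) η
  obtain ⟨cq, hcq⟩ : ∃ cq : ℚ, c = cq := by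
    rcases (Block.klein_signs hM hP hτ).1 k hk with e | e
    · exact ⟨1, by rw [hc, e]; norm_num⟩
    · exact ⟨-1, by rw [hc, e]; norm_num⟩
  have hrat : classInner (oddFn f) ξ = ((2 * (q₁ + cq * q₂) : ℚ) : ℂ) := by
    rw [hr, hA2]
    rw [show Block.regInner 2 ((Block.trivChar C : IrrCharacter C) : C → ℂ) ξ = (q₁ : ℂ) from hq₁,
      show Block.regInner 2 (inflate k : C → ℂ) ξ = (q₂ : ℂ) from hq₂, hcq]
    push_cast; ring
  obtain ⟨hcc, -, hci⟩ := sign_sq hM hP hτ hk
  suffices hloc : ∀ l : ℕ, l.Prime → ∃ (N : Ideal AlgInt) (hN : IsPModular l N),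
      ((2 * (q₁ + cq * q₂) : ℚ) : ℂ) ∈ Block.locRing hN by
    obtain ⟨m, hm⟩ := Block.exists_int_of_local hloc
    exact ⟨m, by rw [hrat, hm, Rat.cast_intCast]⟩
  intro l hl
  obtain ⟨N, hN⟩ := Block.exists_isPModular hl
  refine ⟨N, hN, ?_⟩
  by_cases hl2 : l = 2
  swap
  · rw [← hrat, hr, hA2]
    exact mul_mem (sub_mem (one_mem _) (neg_mem (one_mem _)))
      (add_mem (Block.regInner_mem_of_ne hN hl2 (Block.trivChar C) η)
        (mul_mem (Block.isIntegral_mem_locRing hN hci)
          (Block.regInner_mem_of_ne hN hl2 (inflate k) η)))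
  subst hl2
  rw [← hrat, hr]
  have havg : (1 - (-1 : ℂ)) * classInner A ξ =
      (Nat.card C : ℂ)⁻¹ * ∑ g, 2 * (A g * conj (ξ g)) := by
    simp only [classInner, ← Finset.mul_sum]; ring
  rw [havg]
  have hAc : IsClassFunction C A := Block.isClassFunction_pRegularPart fun a b => by
    simp only [QuotientGroup.mk_mul, QuotientGroup.mk_inv]; exact hfc _ _
  refine avg_mem_locRing hN (fun a b => by simp only [hAc a b, hξ.isClassFunction a b]) fun s => ?_
  by_cases hs : IsPRegular 2 s
  swap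
  · simp [hA, Block.pRegularPart_of_sing hs]
  rw [hA, Block.pRegularPart_of_reg hs]
  set Ce := centralizer ({s} : Set C) with hCe
  obtain ⟨Q⟩ : Nonempty (Sylow 2 Ce) := inferInstance
  set Q' : Subgroup C := (Q : Subgroup Ce).map Ce.subtype with hQ'
  have hQ'p : IsPGroup 2 Q' := Q.2.map _
  have hQ'c : Nat.card Q' = Nat.card (Q : Subgroup Ce) :=
    card_map_of_injective Ce.subtype_injective
  have hQ's : ∀ x ∈ Q', Commute x s := by
    rintro _ ⟨x, -, rfl⟩
    exact mem_centralizer_singleton_iff.1 x.2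
  have hcard : (Nat.card Ce : ℂ) = (Nat.card Q' : ℂ) * ((Q : Subgroup Ce).index : ℂ) := by
    rw [hQ'c, ← (Q : Subgroup Ce).card_mul_index, Nat.cast_mul]
  obtain ⟨j, hj⟩ := hQ'p.exists_card_eq
  have hj3 : j ≤ 3 := (Nat.pow_dvd_pow_iff_le_right one_lt_two).1
    (hj ▸ h.card_dvd Q' hQ'p : 2 ^ j ∣ 2 ^ 3)
  have hj1 : 1 ≤ j := by
    by_contra h0
    have hzCe : z ∈ Ce := mem_centralizer_singleton_iff.2 (h.central s).eq
    have h2 : 2 ∣ Nat.card Ce := h.ord ▸ Subgroup.orderOf_dvd_natCard Ce hzCe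
    rw [← (Q : Subgroup Ce).card_mul_index, ← hQ'c, hj, show j = 0 by omega, pow_zero,
      one_mul] at h2
    exact Q.not_dvd_index h2
  have hfour : 2 ≤ j → ∃ y ∈ Q', orderOf y = 4 := by
    intro h2
    by_contra hno
    push Not at hno
    haveI := Fintype.ofFinite Q'
    have hle : Nat.card Q' ≤ 2 := by
      have hsub : ∀ x : Q', (x : C) = 1 ∨ (x : C) = z := by
        intro x
        by_cases h1 : (x : C) ^ 2 = 1
        · by_cases h0 : (x : C) = 1
          · exact Or.inl h0
          · exact Or.inr (h.invol _ (orderOf_eq_prime h1 h0))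
        · exact absurd (orderOf_eq_prime_pow (p := 2) (n := 1) (by simpa using h1)
            (by simpa using h.pow_four Q' hQ'p x x.2)) (hno x x.2)
      have : Nat.card Q' ≤ Nat.card ↥({1, z} : Finset C) := Nat.card_le_card_of_injective
        (fun x : Q' => (⟨(x : C), by simpa using hsub x⟩ : ↥({1, z} : Finset C)))
        (fun a b e => Subtype.ext (Subtype.mk.inj e))
      exact this.trans (by rw [Nat.card_eq_finsetCard]; exact Finset.card_le_two)
    rw [hj] at hle
    have : 2 ^ 2 ≤ 2 ^ j := Nat.pow_le_pow_right two_pos h2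
    omega
  have hξint : IsIntegral ℤ (conj (ξ s)) := by
    rw [← hξ.isCharacter.apply_inv]; exact hξ.isCharacter.isIntegral _
  have hfint : IsIntegral ℤ (f (s : Cb)) :=
    isIntegral_one.add (hci.mul (k.2.isCharacter.isIntegral _))
  rw [hcard, ← div_div, div_eq_mul_inv _ ((Q : Subgroup Ce).index : ℂ)]
  refine mul_mem (Block.isIntegral_mem_locRing hN ?_)
    (Block.inv_natCast_mem_locRing hN Q.not_dvd_index)
  rw [hj]
  obtain rfl | rfl | rfl : j = 1 ∨ j = 2 ∨ j = 3 := by omega
  · rw [show 2 * (f (s : Cb) * conj (ξ s)) / ((2 ^ 1 : ℕ) : ℂ) = f (s : Cb) * conj (ξ s) by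
      push_cast; ring]
    exact hfint.mul hξint
  · obtain ⟨y, hy, hy4⟩ := hfour le_rfl
    rw [show 2 * (f (s : Cb) * conj (ξ s)) / ((2 ^ 2 : ℕ) : ℂ) =
        ((1 + c * (k : Cb → ℂ) (s : Cb)) / 2) * conj (ξ s) by
      simp only [hf]; push_cast; ring]
    exact (isIntegral_half_sum h hM hP hτ hk hy4 (hQ's y hy) hs).mul hξint
  · obtain ⟨x, hx, y, hy, hy4, hxy⟩ := h.pair Q' hQ'p (by rw [hj]; norm_num)
    have hy2 : y ^ 2 = z := h.invol _ (by
      rw [orderOf_pow_of_dvd two_ne_zero (hy4 ▸ by norm_num), hy4])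
    have hhalf : IsIntegral ℤ ((η : C → ℂ) s⁻¹ / 2) :=
      isIntegral_half_of_pair hy4 hxy (hQ's x hx).inv_right (hQ's y hy).inv_right fun g => by
        rw [hy2, hκg, neg_one_mul]
    rw [show 2 * (f (s : Cb) * conj (ξ s)) / ((2 ^ 3 : ℕ) : ℂ) =
        ((1 + c * (k : Cb → ℂ) (s : Cb)) / 2) * ((η : C → ℂ) s⁻¹ / 2) by
      simp only [hf, hη, hξ.isCharacter.apply_inv]; push_cast; ring]
    exact (isIntegral_half_sum h hM hP hτ hk hy4 (hQ's y hy) hs).mul hhalf

end Cfsg.Lib.ZStar
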