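import Cfsg.Agent.Lib.ZStar.EightFun

/-!
Values and inner products of the functions of the local configuration.
-/

set_option autoImplicit false
set_option linter.unusedSectionVars false
set_option linter.style.haveILetI false
set_option maxHeartbeats 1000000

namespace Cfsg.Lib.ZStar

open Cfsg Subgroup
open scoped ComplexConjugate

universe u

variable {C : Type u} [Group C] {z : C} [Fintype C] [(zpowers z).Normal]
  [Fintype (C ⧸ zpowers z)]

local notation "Cb" => C ⧸ zpowers z

open Classical in
/-- The signed sum of the block of the quotient, inflated. -/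
noncomputable def bFun (M : Ideal AlgInt) (τ : Cb) : C → ℂ :=
  ∑ ψ ∈ (principalBlock M Cb).toFinset, signFn τ ψ

/-- The norm three function of a nontrivial member of the block. -/
noncomputable def cFun (τ : Cb) (k : IrrCharacter Cb) : C → ℂ :=
  (fun g : C => 1 + (k : Cb → ℂ) τ * (k : Cb → ℂ) (g : Cb)) -
    oddFn fun x : Cb => 1 + (k : Cb → ℂ) τ * (k : Cb → ℂ) x

open Classical in
/-- The function recording the values at `z` of the principal block. -/
noncomputable def wFun (M : Ideal AlgInt) (τ : Cb) : C → ℂ :=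
  -bFun M τ + ∑ k ∈ (principalBlock M Cb).toFinset.erase (Block.trivChar Cb),
    (1 + (k : Cb → ℂ) τ * (k : Cb → ℂ) 1) • cFun τ k

open Classical in
/-- The regular kernel of the block of the quotient at the identity. -/
noncomputable def kFun (M : Ideal AlgInt) : Cb → ℂ :=
  fun x => ∑ ψ ∈ (principalBlock M Cb).toFinset, (ψ : Cb → ℂ) 1 * (ψ : Cb → ℂ) x

variable {P : Sylow 2 (C ⧸ zpowers z)} {τ : C ⧸ zpowers z} {M : Ideal AlgInt}
  (h : EightCond C z) (hM : IsPModular 2 M) (hP : Block.KleinCond P) (hτ : orderOf τ = 2)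

include hM hP hτ in
open Classical in
theorem card_block : (principalBlock M Cb).toFinset.card = 4 := by
  rw [← (Block.klein_signs hM hP hτ).2, Nat.card_coe_set_eq, Set.ncard_eq_toFinset_card']

include hM hP hτ in
open Classical in
theorem classInner_regPart_signed {a b : IrrCharacter Cb} (ha : a ∈ principalBlock M Cb)
    (hb : b ∈ principalBlock M Cb) :
    classInner (pRegularPart 2 (a : Cb → ℂ)) (b : Cb → ℂ) =
      (if a = b then 1 else 0) - (a : Cb → ℂ) τ * (b : Cb → ℂ) τ / 4 := by
  have hfull : classInner (a : Cb → ℂ) (b : Cb → ℂ) = if a = b then 1 else 0 := by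
    split_ifs with hab
    · rw [hab]; exact Char.classInner_irr_self b.2
    · exact Char.classInner_irr_ne a.2 b.2 fun e => hab (Subtype.ext e)
  have hcount : 4 * ((Finset.univ.filter fun g : Cb => ¬ IsPRegular 2 g).card : ℂ) =
      (Nat.card Cb : ℂ) := by
    have h := Block.klein_sum_singular hM hP hτ (Block.trivChar Cb)
    rw [if_pos (Block.trivChar_mem_principal hM)] at h
    simp only [Block.trivChar_coe, Finset.sum_const, nsmul_eq_mul, mul_one] at h
    exact h
  rw [← hfull]
  simp only [classInner]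
  rw [← Finset.sum_filter_add_sum_filter_not Finset.univ (fun g : Cb => IsPRegular 2 g)
    (fun g => (a : Cb → ℂ) g * conj ((b : Cb → ℂ) g))]
  rw [← Finset.sum_filter_add_sum_filter_not Finset.univ (fun g : Cb => IsPRegular 2 g)
    (fun g => pRegularPart 2 (a : Cb → ℂ) g * conj ((b : Cb → ℂ) g))]
  rw [Finset.sum_eq_zero (s := Finset.univ.filter fun g : Cb => ¬ IsPRegular 2 g)
    (f := fun g => pRegularPart 2 (a : Cb → ℂ) g * conj ((b : Cb → ℂ) g)), add_zero]
  swap
  · intro g hg
    rw [Block.pRegularPart_of_sing (Finset.mem_filter.1 hg).2, zero_mul]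
  have hsing : ∑ g ∈ Finset.univ.filter (fun g : Cb => ¬ IsPRegular 2 g),
      (a : Cb → ℂ) g * conj ((b : Cb → ℂ) g) =
      ((Finset.univ.filter fun g : Cb => ¬ IsPRegular 2 g).card : ℂ) *
        ((a : Cb → ℂ) τ * (b : Cb → ℂ) τ) := by
    rw [Finset.sum_congr rfl (g := fun _ => (a : Cb → ℂ) τ * (b : Cb → ℂ) τ) fun g hg => by
      rw [Block.klein_apply_singular hM hP hτ ha (Finset.mem_filter.1 hg).2,
        Block.klein_apply_singular hM hP hτ hb (Finset.mem_filter.1 hg).2,
        (sign_sq hM hP hτ hb).2.1], Finset.sum_const, nsmul_eq_mul]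
  rw [hsing, Finset.sum_congr rfl (g := fun g => (a : Cb → ℂ) g * conj ((b : Cb → ℂ) g))
    fun g hg => by rw [Block.pRegularPart_of_reg (Finset.mem_filter.1 hg).2]]
  have hG : (Nat.card Cb : ℂ) ≠ 0 := Char.card_cast_ne_zero
  field_simp
  linear_combination (-((a : Cb → ℂ) τ * (b : Cb → ℂ) τ)) * hcount

include hM hP hτ in
theorem isGeneralized_signFn {a : IrrCharacter Cb} (ha : a ∈ principalBlock M Cb) :
    IsGeneralizedCharacter C (signFn τ a) := by
  rcases (Block.klein_signs hM hP hτ).1 a ha with e | e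
  · have : signFn τ a = (inflate a : C → ℂ) := funext fun g => by
      show (a : Cb → ℂ) τ * _ = _; rw [e, one_mul]; rfl
    rw [this]; exact (inflate a).2.isGeneralized
  · have : signFn τ a = -(inflate a : C → ℂ) := funext fun g => by
      show (a : Cb → ℂ) τ * _ = _; rw [e, neg_one_mul]; rfl
    rw [this]; exact (inflate a).2.isGeneralized.neg

include hM hP hτ in
open Classical in
theorem classInner_signFn {a b : IrrCharacter Cb} (ha : a ∈ principalBlock M Cb)
    (hb : b ∈ principalBlock M Cb) :
    classInner (signFn τ a) (signFn τ b) = if a = b then 1 else 0 := by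
  rw [show signFn τ a = (a : Cb → ℂ) τ • (inflate a : C → ℂ) from rfl,
    show signFn τ b = (b : Cb → ℂ) τ • (inflate b : C → ℂ) from rfl, Char.classInner_smul_left,
    Char.classInner_smul_right, (sign_sq hM hP hτ hb).2.1]
  have e : classInner (inflate a : C → ℂ) (inflate b : C → ℂ) =
      classInner (a : Cb → ℂ) (b : Cb → ℂ) :=
    Char.classInner_comp_surjective (QuotientGroup.mk' (zpowers z))
      (QuotientGroup.mk'_surjective _) _ _
  rw [e]
  split_ifs with hab
  · subst hab
    rw [Char.classInner_irr_self a.2, mul_one, (sign_sq hM hP hτ ha).1]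
  · rw [Char.classInner_irr_ne a.2 b.2 fun e => hab (Subtype.ext e), mul_zero, mul_zero]

theorem signFn_triv : signFn τ (Block.trivChar Cb) = fun _ : C => (1 : ℂ) :=
  funext fun _ => by simp [signFn, Block.trivChar_coe]

/-- The inflated part of a norm three function. -/
theorem cFun_eq (k : IrrCharacter Cb) : cFun τ k =
    signFn τ (Block.trivChar Cb) + signFn τ k -
      oddFn (fun x : Cb => 1 + (k : Cb → ℂ) τ * (k : Cb → ℂ) x) := by
  rw [cFun, signFn_triv]
  rfl

include h hM hP hτ in
theorem isGeneralized_cFun {k : IrrCharacter Cb} (hk : k ∈ principalBlock M Cb) :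
    IsGeneralizedCharacter C (cFun τ k) := by
  rw [cFun_eq]
  exact ((isGeneralized_signFn hM hP hτ (Block.trivChar_mem_principal hM)).add
    (isGeneralized_signFn hM hP hτ hk)).sub (isGeneralizedCharacter_oddFn h hM hP hτ hk)

include hM hP hτ in
theorem isGeneralized_bFun : IsGeneralizedCharacter C (bFun M τ) := by
  classical
  exact IsGeneralizedCharacter.sum _ _ fun a ha =>
    isGeneralized_signFn hM hP hτ (Set.mem_toFinset.1 ha)

include h in
theorem classInner_oddFn_signFn (f : Cb → ℂ) (a : IrrCharacter Cb) :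
    classInner (oddFn f) (signFn τ a) = 0 ∧ classInner (signFn τ a) (oddFn f) = 0 := by
  have e := classInner_oddFn_comp h f (fun x => (a : Cb → ℂ) τ * (a : Cb → ℂ) x)
  refine ⟨e, ?_⟩
  rw [← Char.classInner_conj_symm]
  exact (congrArg conj e).trans (map_zero _)

include hM hP hτ in
open Classical in
theorem classInner_bFun_signFn {b : IrrCharacter Cb} (hb : b ∈ principalBlock M Cb) :
    classInner (bFun M τ) (signFn τ b) = 1 := by
  rw [bFun, Char.classInner_sum_left, Finset.sum_congr rfl fun a ha =>
    classInner_signFn hM hP hτ (Set.mem_toFinset.1 ha) hb, Finset.sum_ite_eq',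
    if_pos (Set.mem_toFinset.2 hb)]

include hM hP hτ in
theorem classInner_bFun_one : classInner (bFun M τ) (fun _ => 1) = 1 := by
  rw [← signFn_triv (τ := τ)]
  exact classInner_bFun_signFn hM hP hτ (Block.trivChar_mem_principal hM)

include hM hP hτ in
open Classical in
theorem classInner_bFun_self : classInner (bFun M τ) (bFun M τ) = 4 := by
  conv_lhs => arg 2; rw [bFun]
  rw [Char.classInner_sum_right, Finset.sum_congr rfl fun b hb =>
    classInner_bFun_signFn hM hP hτ (Set.mem_toFinset.1 hb), Finset.sum_const,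
    card_block hM hP hτ]
  norm_num

include h hM hP hτ in
theorem classInner_cFun_one {k : IrrCharacter Cb} (hk : k ∈ principalBlock M Cb)
    (hne : k ≠ Block.trivChar Cb) : classInner (cFun τ k) (fun _ => 1) = 1 := by
  classical
  have ht := Block.trivChar_mem_principal (G := Cb) hM
  rw [cFun_eq, ← signFn_triv (τ := τ), Char.classInner_sub_left, Char.classInner_add_left,
    classInner_signFn hM hP hτ ht ht, classInner_signFn hM hP hτ hk ht, if_pos rfl, if_neg hne,
    (classInner_oddFn_signFn h _ _).1]
  norm_num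

include h hM hP hτ in
theorem classInner_bFun_cFun {k : IrrCharacter Cb} (hk : k ∈ principalBlock M Cb) :
    classInner (bFun M τ) (cFun τ k) = 2 := by
  classical
  rw [cFun_eq, Char.classInner_sub_right, Char.classInner_add_right,
    classInner_bFun_signFn hM hP hτ (Block.trivChar_mem_principal hM),
    classInner_bFun_signFn hM hP hτ hk, bFun, Char.classInner_sum_left,
    Finset.sum_eq_zero fun a _ => (classInner_oddFn_signFn h _ a).2]
  norm_num

include h hM hP hτ in
open Classical in
theorem classInner_cFun_cFun {j k : IrrCharacter Cb} (hj : j ∈ principalBlock M Cb)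
    (hk : k ∈ principalBlock M Cb) (hjne : j ≠ Block.trivChar Cb) (hkne : k ≠ Block.trivChar Cb) :
    classInner (cFun τ j) (cFun τ k) = if j = k then 3 else 1 := by
  have ht := Block.trivChar_mem_principal (G := Cb) hM
  set t := Block.trivChar Cb with htdef
  have ht1 : (t : Cb → ℂ) τ = 1 := rfl
  have key : classInner (oddFn fun x : Cb => 1 + (j : Cb → ℂ) τ * (j : Cb → ℂ) x)
      (oddFn fun x : Cb => 1 + (k : Cb → ℂ) τ * (k : Cb → ℂ) x) = if j = k then 1 else 0 := by
    rw [classInner_oddFn_oddFn h]
    have e : ∀ a : IrrCharacter Cb, (fun x : Cb => 1 + (a : Cb → ℂ) τ * (a : Cb → ℂ) x) =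
        (t : Cb → ℂ) + (a : Cb → ℂ) τ • (a : Cb → ℂ) := fun a => rfl
    have e2 : pRegularPart 2 ((t : Cb → ℂ) + (j : Cb → ℂ) τ • (j : Cb → ℂ)) =
        pRegularPart 2 (t : Cb → ℂ) + (j : Cb → ℂ) τ • pRegularPart 2 (j : Cb → ℂ) := by
      funext x
      by_cases hx : IsPRegular 2 x
      · simp [Block.pRegularPart_of_reg hx]
      · simp [Block.pRegularPart_of_sing hx]
    rw [e, e, e2, Char.classInner_add_left, Char.classInner_add_right, Char.classInner_add_right,
      Char.classInner_smul_left, Char.classInner_smul_left, Char.classInner_smul_right,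
      Char.classInner_smul_right, classInner_regPart_signed hM hP hτ ht ht,
      classInner_regPart_signed hM hP hτ ht hk, classInner_regPart_signed hM hP hτ hj ht,
      classInner_regPart_signed hM hP hτ hj hk, (sign_sq hM hP hτ hk).2.1, if_pos rfl,
      if_neg (Ne.symm hkne), if_neg hjne, ht1]
    have hjj := (sign_sq hM hP hτ hj).1
    have hkk := (sign_sq hM hP hτ hk).1
    split_ifs with hjk
    · subst hjk
      linear_combination (-(1 / 4 : ℂ) * ((j : Cb → ℂ) τ * (j : Cb → ℂ) τ - 1)) * hjj
    · linear_combination (-(1 : ℂ) / 4) * hkk - (1 / 4) * hjj -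
        ((k : Cb → ℂ) τ * (k : Cb → ℂ) τ / 4) * hjj - (1 / 4) * hkk
  rw [cFun_eq, cFun_eq, Char.classInner_sub_left, Char.classInner_sub_right,
    Char.classInner_sub_right, key]
  simp only [Char.classInner_add_left, Char.classInner_add_right,
    classInner_signFn hM hP hτ ht ht, classInner_signFn hM hP hτ ht hk,
    classInner_signFn hM hP hτ hj ht, classInner_signFn hM hP hτ hj hk,
    (classInner_oddFn_signFn h _ _).1, (classInner_oddFn_signFn h _ _).2, ← htdef, if_pos,
    if_neg (Ne.symm hkne), if_neg hjne]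
  split_ifs <;> norm_num

include hM hP hτ in
open Classical in
theorem bFun_regular {g : C} (hg : IsPRegular 2 (g : Cb)) : bFun M τ g = 0 := by
  rw [bFun, Finset.sum_apply]
  exact Block.klein_relation hM hP hτ hg

include hM hP hτ in
open Classical in
theorem bFun_singular {g : C} (hg : ¬ IsPRegular 2 (g : Cb)) : bFun M τ g = 4 := by
  rw [bFun, Finset.sum_apply, Finset.sum_congr rfl (g := fun _ => (1 : ℂ)) fun a ha => by
    show (a : Cb → ℂ) τ * (a : Cb → ℂ) (g : Cb) = 1
    rw [Block.klein_apply_singular hM hP hτ (Set.mem_toFinset.1 ha) hg,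
      (sign_sq hM hP hτ (Set.mem_toFinset.1 ha)).1], Finset.sum_const, card_block hM hP hτ]
  norm_num

theorem cFun_regular {g : C} (hg : IsPRegular 2 g) (k : IrrCharacter Cb) : cFun τ k g = 0 := by
  simp only [cFun, Pi.sub_apply, oddFn, if_pos hg, sub_self]

include h in
theorem cFun_mul_regular {g : C} (hg : IsPRegular 2 (z * g)) (k : IrrCharacter Cb) :
    cFun τ k g = 2 * (1 + (k : Cb → ℂ) τ * (k : Cb → ℂ) (g : Cb)) := by
  have hn : ¬ IsPRegular 2 g := fun h' => h.not_regular_mul h' hg
  simp only [cFun, Pi.sub_apply, oddFn, if_neg hn, if_pos hg]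
  ring

include h hM hP hτ in
theorem cFun_singular {g : C} (hg : ¬ IsPRegular 2 (g : Cb)) {k : IrrCharacter Cb}
    (hk : k ∈ principalBlock M Cb) : cFun τ k g = 2 := by
  have h1 : ¬ IsPRegular 2 g := fun h' => hg (h.mk_regular h')
  have h2 : ¬ IsPRegular 2 (z * g) := fun h' => hg ((h.regular_mk_iff g).2 (Or.inr h'))
  simp only [cFun, Pi.sub_apply, oddFn, if_neg h1, if_neg h2,
    Block.klein_apply_singular hM hP hτ hk hg, (sign_sq hM hP hτ hk).1]
  norm_num

include h in
theorem not_regular_central : ¬ IsPRegular 2 z := by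
  show ¬ ¬ 2 ∣ orderOf z
  rw [h.ord]; norm_num

include h hM hP hτ in
theorem bFun_at_z : bFun M τ z = 0 := by
  refine bFun_regular hM hP hτ ?_
  rw [(QuotientGroup.eq_one_iff z).2 (mem_zpowers z)]
  simp [IsPRegular]

include h in
theorem cFun_at_z (k : IrrCharacter Cb) :
    cFun τ k z = 2 * (1 + (k : Cb → ℂ) τ * (k : Cb → ℂ) 1) := by
  rw [cFun_mul_regular h (by rw [h.mul_self]; simp [IsPRegular]),
    (QuotientGroup.eq_one_iff z).2 (mem_zpowers z)]

include hM hP hτ in
open Classical in
theorem sum_sign_degree :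
    ∑ k ∈ (principalBlock M Cb).toFinset.erase (Block.trivChar Cb),
      (k : Cb → ℂ) τ * (k : Cb → ℂ) 1 = -1 := by
  have h1 := Block.klein_relation hM hP hτ (y := (1 : Cb)) (by simp [IsPRegular])
  rw [← Finset.add_sum_erase _ _ (Set.mem_toFinset.2 (Block.trivChar_mem_principal hM)),
    Block.trivChar_coe] at h1
  linear_combination h1

include h hM hP hτ in
open Classical in
theorem wFun_eq : wFun M τ =
    fun g => 2 * pRegularPart 2 (fun g : C => kFun M (g : Cb)) (z * g) := by
  set B := (principalBlock M Cb).toFinset with hB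
  set t := Block.trivChar Cb with htdef
  have ht : t ∈ B := Set.mem_toFinset.2 (Block.trivChar_mem_principal hM)
  have he := sum_sign_degree hM hP hτ
  rw [← hB, ← htdef] at he
  have hc3 : ((B.erase t).card : ℂ) = 3 := by
    rw [Finset.card_erase_of_mem ht, card_block hM hP hτ]; norm_num
  funext g
  simp only [wFun, Pi.add_apply, Pi.neg_apply, Finset.sum_apply, Pi.smul_apply, smul_eq_mul,
    ← hB, ← htdef]
  by_cases hsing : ¬ IsPRegular 2 (g : Cb)
  · rw [bFun_singular hM hP hτ hsing, Block.pRegularPart_of_sing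
      (fun h' => hsing ((h.regular_mk_iff g).2 (Or.inr h'))),
      Finset.sum_congr rfl (g := fun k : IrrCharacter Cb =>
        2 * (1 + (k : Cb → ℂ) τ * (k : Cb → ℂ) 1)) fun k hk => by
          rw [cFun_singular h hM hP hτ hsing (Set.mem_toFinset.1 (Finset.mem_of_mem_erase hk)),
            mul_comm], ← Finset.mul_sum, Finset.sum_add_distrib, he, Finset.sum_const,
      nsmul_eq_mul, hc3]
    ring
  rw [not_not] at hsing
  rw [bFun_regular hM hP hτ hsing, neg_zero, zero_add]
  rcases h.regular_cases hsing with hr | hr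
  · rw [Block.pRegularPart_of_sing (h.not_regular_mul hr), mul_zero]
    exact Finset.sum_eq_zero fun k _ => by rw [cFun_regular hr, mul_zero]
  rw [Block.pRegularPart_of_reg hr, h.mk_mul, Finset.sum_congr rfl fun k _ => by
    rw [cFun_mul_regular h hr k]]
  have hrel : ∑ k ∈ B.erase t, (k : Cb → ℂ) τ * (k : Cb → ℂ) (g : Cb) = -1 := by
    have h1 := Block.klein_relation hM hP hτ hsing
    rw [← hB, ← Finset.add_sum_erase _ _ ht, htdef, Block.trivChar_coe] at h1
    rw [htdef]
    linear_combination h1
  have hK : kFun M (g : Cb) = 1 + ∑ k ∈ B.erase t, (k : Cb → ℂ) 1 * (k : Cb → ℂ) (g : Cb) := by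
    rw [kFun, ← hB, ← Finset.add_sum_erase _ _ ht, htdef, Block.trivChar_coe, one_mul]
  rw [Finset.sum_congr rfl (g := fun k : IrrCharacter Cb => 2 * (1 + (k : Cb → ℂ) τ * (k : Cb → ℂ) 1
      + (k : Cb → ℂ) τ * (k : Cb → ℂ) (g : Cb) + (k : Cb → ℂ) 1 * (k : Cb → ℂ) (g : Cb)))
    fun k hk => by
      linear_combination (2 * (k : Cb → ℂ) 1 * (k : Cb → ℂ) (g : Cb)) *
        (sign_sq hM hP hτ (Set.mem_toFinset.1 (Finset.mem_of_mem_erase hk))).1,
    ← Finset.mul_sum, Finset.sum_add_distrib, Finset.sum_add_distrib, Finset.sum_add_distrib,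
    he, hrel, Finset.sum_const, nsmul_eq_mul, hc3, hK]
  ring

include h hM in
open Classical in
/-- The inflated block gives the degree of every member of the principal block upstairs. -/
theorem sum_degree_regInner (η : IrrCharacter C) :
    2 * ∑ ψ ∈ (principalBlock M Cb).toFinset,
      (ψ : Cb → ℂ) 1 * Block.regInner 2 (inflate ψ : C → ℂ) (η : C → ℂ) =
      if η ∈ principalBlock M C then (η : C → ℂ) 1 else 0 := by
  haveI : Fact (Nat.Prime 2) := ⟨Nat.prime_two⟩
  have hB := Block.vInt_indVec hM (Block.isPBlock_principal (M := M) (G := C))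
  split_ifs with hη
  swap
  · rw [Finset.sum_eq_zero fun ψ hψ => by
      rw [Block.regInner_eq_zero hM hB (χ := inflate ψ)
        ((h.inflate_principal_iff hM ψ).2 (Set.mem_toFinset.1 hψ)) hη, mul_zero], mul_zero]
  set f : Cb → ℂ := fun x => ∑ g ∈ Finset.univ.filter (fun g : C => (g : Cb) = x),
    pRegularPart 2 (η : C → ℂ) g with hf
  have hfc : IsClassFunction Cb f := by
    intro x y
    obtain ⟨k, rfl⟩ := QuotientGroup.mk_surjective y
    simp only [hf]
    refine (Finset.sum_equiv (MulAut.conj k).toEquiv (fun g => ?_) fun g _ => ?_).symm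
    · simp only [Finset.mem_filter, Finset.mem_univ, true_and]
      show _ ↔ ((k * g * k⁻¹ : C) : Cb) = _
      rw [QuotientGroup.mk_mul, QuotientGroup.mk_mul, QuotientGroup.mk_inv, mul_left_inj,
        mul_right_inj]
    · exact (Block.isClassFunction_pRegularPart η.2.isClassFunction g k).symm
  have hf1 : f 1 = (η : C → ℂ) 1 := by
    simp only [hf]
    rw [Finset.sum_eq_single (1 : C)]
    · exact Block.pRegularPart_of_reg (by simp [IsPRegular])
    · intro g hg hne
      refine Block.pRegularPart_of_sing ?_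
      rcases h.mem_zpowers_cases ((QuotientGroup.eq_one_iff g).1 (Finset.mem_filter.1 hg).2) with
        e | e
      · exact absurd e hne
      · subst e; exact not_regular_central h
    · exact fun h' => absurd (by simp) h'
  have hinner : ∀ ψ : IrrCharacter Cb, classInner f (ψ : Cb → ℂ) =
      2 * Block.regInner 2 (inflate ψ : C → ℂ) (η : C → ℂ) := by
    intro ψ
    rw [Block.regInner_symm η (inflate ψ)]
    have e : ∑ x : Cb, f x * conj ((ψ : Cb → ℂ) x) =
        ∑ g : C, pRegularPart 2 (η : C → ℂ) g * conj ((ψ : Cb → ℂ) (g : Cb)) := by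
      rw [← Finset.sum_fiberwise_of_maps_to (g := fun g : C => (g : Cb)) (t := Finset.univ)
        (fun _ _ => Finset.mem_univ _)]
      refine Finset.sum_congr rfl fun x _ => ?_
      simp only [hf, Finset.sum_mul]
      exact Finset.sum_congr rfl fun g hg => by rw [(Finset.mem_filter.1 hg).2]
    show (Nat.card Cb : ℂ)⁻¹ * _ = 2 * ((Nat.card C : ℂ)⁻¹ * ∑ g : C, _)
    rw [e, h.card_quot, mul_inv]
    simp only [inflate]
    ring
  have hexp := congrFun (Char.eq_sum_classInner hfc) 1
  simp only [Finset.sum_apply, Pi.smul_apply, smul_eq_mul, hinner, hf1] at hexp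
  rw [hexp, Finset.mul_sum]
  refine Finset.sum_subset_zero_on_sdiff (Finset.subset_univ _) (fun ψ hψ => ?_) fun ψ _ => by ring
  rw [Block.regInner_symm η (inflate ψ), Block.regInner_eq_zero hM hB hη (ψ := inflate ψ)
    (fun h' => (Finset.mem_sdiff.1 hψ).2 (Set.mem_toFinset.2 ((h.inflate_principal_iff hM ψ).1 h'))),
    mul_zero, zero_mul]

include h hM hP hτ in
open Classical in
/-- The inner product with the value function reads off the principal block part at `z`. -/
theorem classInner_wFun {θ : C → ℂ} (hθ : IsClassFunction C θ) :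
    classInner (wFun M τ) θ =
      conj (blockPart (principalBlock M C) (fun g => θ (z * g)) 1) := by
  set θ' : C → ℂ := fun g => θ (z * g) with hθ'
  have hθ'c : IsClassFunction C θ' := fun g k => by
    have e : z * (k * g * k⁻¹) = k * (z * g) * k⁻¹ := by
      rw [← mul_assoc, ← mul_assoc, ← mul_assoc, (h.central k).eq]
    simp only [hθ', e]; exact hθ _ _
  have e1 : θ = fun g => θ' (z * g) := funext fun g => by
    simp only [hθ', ← mul_assoc, h.mul_self, one_mul]
  rw [wFun_eq h hM hP hτ]
  conv_lhs => rw [e1]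
  rw [classInner_comp_mulLeft (fun g : C => 2 * pRegularPart 2 (fun g : C => kFun M (g : Cb)) g)
    θ' z]
  have hpr : ∀ η : IrrCharacter C,
      classInner (pRegularPart 2 fun g : C => kFun M (g : Cb)) (η : C → ℂ) =
      ∑ ψ ∈ (principalBlock M Cb).toFinset,
        (ψ : Cb → ℂ) 1 * Block.regInner 2 (inflate ψ : C → ℂ) (η : C → ℂ) := by
    intro η
    have e : pRegularPart 2 (fun g : C => kFun M (g : Cb)) =
        ∑ ψ ∈ (principalBlock M Cb).toFinset,
          (ψ : Cb → ℂ) 1 • pRegularPart 2 (inflate ψ : C → ℂ) := by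
      funext g
      simp only [Finset.sum_apply, Pi.smul_apply, smul_eq_mul]
      by_cases hg : IsPRegular 2 g
      · simp only [Block.pRegularPart_of_reg hg]; rfl
      · simp [Block.pRegularPart_of_sing hg]
    rw [e, Char.classInner_sum_left]
    exact Finset.sum_congr rfl fun ψ _ => Char.classInner_smul_left _ _ _
  rw [show (fun g : C => 2 * pRegularPart 2 (fun g : C => kFun M (g : Cb)) g) =
    (2 : ℂ) • pRegularPart 2 (fun g : C => kFun M (g : Cb)) from rfl, Char.classInner_smul_left]
  conv_lhs => rw [Char.eq_sum_classInner hθ'c]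
  simp only [blockPart, finsum_mem_eq_toFinset_sum, map_sum, Char.classInner_sum_right,
    Char.classInner_smul_right, hpr, Finset.mul_sum]
  symm
  refine Finset.sum_subset_zero_on_sdiff (Finset.subset_univ _) (fun η hη => ?_) fun η hη => ?_
  · have hh := sum_degree_regInner h hM η
    rw [if_neg fun h' => (Finset.mem_sdiff.1 hη).2 (Set.mem_toFinset.2 h'), Finset.mul_sum] at hh
    rw [Finset.sum_congr rfl fun ψ _ => mul_left_comm (2 : ℂ) _ _, ← Finset.mul_sum, hh, mul_zero]
  · have hh := sum_degree_regInner h hM η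
    rw [if_pos (Set.mem_toFinset.1 hη), Finset.mul_sum] at hh
    rw [map_mul, η.2.isCharacter.apply_one_eq_charDegree, Complex.conj_natCast,
      ← η.2.isCharacter.apply_one_eq_charDegree, ← hh, Finset.mul_sum]
    refine Finset.sum_congr rfl fun ψ _ => ?_
    rw [show @Fintype.ofFinite C (Finite.of_fintype C) = ‹Fintype C› from Subsingleton.elim _ _]
    ring

end Cfsg.Lib.ZStar
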