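import Cfsg.Agent.Lib.ZStar.Main
import Cfsg.Agent.Lib.Coprime.Action
import Cfsg.Agent.Lib.Local.ChermakDelgado

/-!
An involution whose products with its conjugates have odd prime power order.
-/

set_option autoImplicit false
set_option linter.style.haveILetI false

namespace Cfsg.Lib.ZStar

open Subgroup Cfsg

universe u

variable {G : Type u} [Group G] [Finite G]

omit [Finite G] in
theorem exists_mul_of_inverted {O : Subgroup G} (hOodd : Odd (Nat.card O)) {d i : G}
    (hd : orderOf d = 2) (hi : i ∈ O) (hinv : d * i * d⁻¹ = i⁻¹) :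
    ∃ j : G, d * (j⁻¹ * d * j) = i := by
  have hodd : Odd (orderOf i) := hOodd.of_dvd_nat (Subgroup.orderOf_dvd_natCard _ hi)
  obtain ⟨m, hm⟩ := hodd
  refine ⟨i ^ (m + 1), ?_⟩
  have h1 : d * (i ^ (m + 1))⁻¹ * d⁻¹ = i ^ (m + 1) := by
    rw [← inv_pow, ← conj_pow, show d * i⁻¹ * d⁻¹ = (d * i * d⁻¹)⁻¹ by group, hinv, inv_inv]
  have h2 : i ^ (m + 1) * i ^ (m + 1) = i := by
    rw [← pow_add, show m + 1 + (m + 1) = 2 * m + 1 + 1 by omega, ← hm, pow_succ,
      pow_orderOf_eq_one, one_mul]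
  rw [Invol.inv_eq_self hd] at h1
  calc d * ((i ^ (m + 1))⁻¹ * d * i ^ (m + 1)) = d * (i ^ (m + 1))⁻¹ * d * i ^ (m + 1) := by group
    _ = i := by rw [h1, h2]

/-- If all products of two conjugates of the involution `d` have order a power of the odd prime
`p`, they lie in the largest normal `p`-subgroup. -/
theorem prod_conj_mem_pCore {p : ℕ} (hp : p.Prime) (hp2 : p ≠ 2) (d : G) (hd : orderOf d = 2)
    (hprod : ∀ g : G, ∃ k : ℕ, orderOf (d * (g * d * g⁻¹)) = p ^ k) (g : G) :
    d * (g * d * g⁻¹) ∈ Cfsg.pCore p G := by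
  classical
  haveI : Fact p.Prime := ⟨hp⟩
  have hiso : IsIsolatedInvolution d := by
    refine ⟨hd, fun x hx => ?_⟩
    obtain ⟨k, hk⟩ := hprod x
    set e := x * d * x⁻¹
    have he : orderOf e = 2 := by rw [Invol.orderOf_conj_eq, hd]
    have h1 : orderOf (d * e) ∣ 2 := orderOf_dvd_of_pow_eq_one (by
      rw [pow_two, hx.symm.mul_mul_mul_comm, Invol.inv_mul_self hd, Invol.inv_mul_self he, one_mul])
    rw [hk] at h1
    have h2 : orderOf (d * e) = 1 := by
      rw [hk]
      exact Nat.eq_one_of_dvd_coprimes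
        (Nat.Coprime.pow_left k ((Nat.coprime_primes hp Nat.prime_two).2 hp2)) dvd_rfl h1
    rw [orderOf_eq_one_iff] at h2
    exact (eq_inv_of_mul_eq_one_right h2).trans (Invol.inv_eq_self hd)
  set O := oddCore G with hO
  set A := zpowers d with hA
  have hOn : O.Normal := inferInstance
  have hAO : A ≤ Subgroup.normalizer (O : Set G) := by
    rw [normalizer_eq_top]; exact le_top
  have hcop : (Nat.card A).Coprime (Nat.card O) := by
    rw [hA, Nat.card_zpowers, hd]
    exact Nat.coprime_two_left.2 odd_card_oddCore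
  have hsol : Group.IsSolvable A ∨ Group.IsSolvable O := Or.inl inferInstance
  have hdconj : ∀ (H : Subgroup G), A ≤ Subgroup.normalizer (H : Set G) →
      ∀ x ∈ H, d * x * d⁻¹ ∈ H := fun H hH x hx =>
    (mem_normalizer_iff.1 (hH (mem_zpowers d)) x).1 hx
  -- inverted elements of the core are `p`-elements
  have hinv : ∀ i ∈ O, d * i * d⁻¹ = i⁻¹ → ∃ k, orderOf i = p ^ k := by
    intro i hi hdi
    obtain ⟨j, hj⟩ := exists_mul_of_inverted odd_card_oddCore hd hi hdi
    obtain ⟨k, hk⟩ := hprod j⁻¹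
    rw [inv_inv, hj] at hk
    exact ⟨k, hk⟩
  have hcomm : ∀ x : G, d * (x⁻¹ * (d * x * d⁻¹)) * d⁻¹ = (x⁻¹ * (d * x * d⁻¹))⁻¹ := by
    intro x
    simp only [mul_inv_rev, inv_inv, Invol.inv_eq_self hd, mul_assoc, Invol.inv_mul_self hd, mul_one]
  -- the centraliser contains Sylow subgroups for the other primes
  set C : Subgroup O := (centralizer ({d} : Set G)).subgroupOf O with hC
  have hsyl : ∀ q : ℕ, q.Prime → q ≠ p → ∀ k, q ^ k ∣ Nat.card O → q ^ k ∣ Nat.card C := by
    intro q hq hqp k hk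
    haveI : Fact q.Prime := ⟨hq⟩
    obtain ⟨Q, hQ⟩ := Coprime.exists_invariant_sylow hAO hcop hsol q
    have hle : (Q : Subgroup O) ≤ C := by
      intro x hx
      have hxG : (x : G) ∈ (Q : Subgroup O).map O.subtype := mem_map_of_mem _ hx
      have hiQ : (x : G)⁻¹ * (d * x * d⁻¹) ∈ (Q : Subgroup O).map O.subtype :=
        mul_mem (inv_mem hxG) (hdconj _ hQ _ hxG)
      obtain ⟨a, ha⟩ := hinv _ ((map_subtype_le _) hiQ) (hcomm x)
      obtain ⟨b, hb⟩ := (Q.2.map O.subtype) ⟨_, hiQ⟩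
      have hdvd : p ^ a ∣ q ^ b := by
        rw [← ha]
        exact orderOf_dvd_of_pow_eq_one (by simpa using congrArg Subtype.val hb)
      have h1 : (x : G)⁻¹ * (d * x * d⁻¹) = 1 := by
        rw [← orderOf_eq_one_iff, ha]
        exact Nat.eq_one_of_dvd_coprimes (Nat.Coprime.pow a b
          ((Nat.coprime_primes hp hq).2 (Ne.symm hqp))) dvd_rfl hdvd
      rw [inv_mul_eq_one, eq_mul_inv_iff_mul_eq] at h1
      rw [hC, mem_subgroupOf, mem_centralizer_singleton_iff]
      exact h1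
    exact (Q.pow_dvd_card_of_pow_dvd_card hk).trans (card_dvd_of_le hle)
  obtain ⟨P, hP⟩ := Coprime.exists_invariant_sylow hAO hcop hsol p
  -- the core is the product of the centraliser and the invariant Sylow subgroup
  have hprodCP : ∀ x : O, ∃ c ∈ C, ∃ y ∈ (P : Subgroup O), x = c * y := by
    refine Local.exists_mul_of_card_eq C P (Nat.le_of_dvd (Nat.mul_pos Nat.card_pos Nat.card_pos) ?_)
    set m := (P : Subgroup O).index with hm
    have hmC : m ∣ Nat.card C := by
      refine Nat.dvd_iff_prime_pow_dvd_dvd _ _ |>.2 fun q k hq hqk => ?_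
      rcases eq_or_ne q p with rfl | hqp
      · rcases Nat.eq_zero_or_pos k with rfl | hk
        · rw [pow_zero]; exact one_dvd _
        · exact absurd ((dvd_pow_self q hk.ne').trans hqk) P.not_dvd_index
      · exact hsyl q hq hqp k (hqk.trans (P : Subgroup O).index_dvd_card)
    obtain ⟨a, ha⟩ := (P.2.to_le (inf_le_right : C ⊓ (P : Subgroup O) ≤ P)).exists_card_eq
    have hcopm : (Nat.card ↥(C ⊓ (P : Subgroup O))).Coprime m := by
      rw [ha]
      exact Nat.Coprime.pow_left a ((hp.coprime_iff_not_dvd).2 P.not_dvd_index)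
    have h1 : Nat.card ↥(C ⊓ (P : Subgroup O)) * m ∣ Nat.card C :=
      hcopm.mul_dvd_of_dvd_of_dvd (card_dvd_of_le inf_le_left) hmC
    rw [← (P : Subgroup O).card_mul_index, ← hm, mul_assoc, mul_comm (Nat.card C), mul_comm m]
    exact mul_dvd_mul_left _ h1
  set PG := (P : Subgroup O).map O.subtype with hPG
  have hIP : ∀ x ∈ O, x⁻¹ * (d * x * d⁻¹) ∈ PG := by
    intro x hx
    obtain ⟨c, hc, y, hy, hxy⟩ := hprodCP ⟨x, hx⟩
    have hx' : x = (c : G) * y := congrArg Subtype.val hxy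
    have hcd : d * (c : G) * d⁻¹ = c := by
      have h1 := mem_centralizer_singleton_iff.1 (mem_subgroupOf.1 hc)
      rw [← h1, mul_inv_cancel_right]
    have hyP : (y : G) ∈ PG := mem_map_of_mem _ hy
    have h2 : x⁻¹ * (d * x * d⁻¹) = (y : G)⁻¹ * (d * y * d⁻¹) := by
      rw [hx', ← conj_mul, hcd]; group
    rw [h2]
    exact mul_mem (inv_mem hyP) (hdconj _ hP _ hyP)
  set K := Subgroup.closure ((fun x : G => x⁻¹ * (d * x * d⁻¹)) '' (O : Set G)) with hK
  have hKP : K ≤ PG := (closure_le _).2 (by rintro _ ⟨x, hx, rfl⟩; exact hIP x hx)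
  have hKO : K ≤ O := hKP.trans (map_subtype_le _)
  have hgen : ∀ v ∈ O, ∀ w ∈ K, v⁻¹ * w * v ∈ K := by
    intro v hv w hw
    induction hw using closure_induction with
    | mem w hw =>
      obtain ⟨x, hx, rfl⟩ := hw
      have h1 : v⁻¹ * (x⁻¹ * (d * x * d⁻¹)) * v =
          ((x * v)⁻¹ * (d * (x * v) * d⁻¹)) * (v⁻¹ * (d * v * d⁻¹))⁻¹ := by group
      rw [h1]
      exact mul_mem (subset_closure ⟨_, mul_mem hx hv, rfl⟩)
        (inv_mem (subset_closure ⟨_, hv, rfl⟩))
    | one => simp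
    | mul a b _ _ ha hb =>
      rw [show v⁻¹ * (a * b) * v = (v⁻¹ * a * v) * (v⁻¹ * b * v) by group]
      exact mul_mem ha hb
    | inv a _ ha =>
      rw [show v⁻¹ * a⁻¹ * v = (v⁻¹ * a * v)⁻¹ by group]
      exact inv_mem ha
  haveI hKn : (K.subgroupOf O).Normal := ⟨fun w hw v => by
    rw [mem_subgroupOf] at hw ⊢
    simpa using hgen (v : G)⁻¹ (inv_mem v.2) w hw⟩
  have hKp : IsPGroup p (K.subgroupOf O) :=
    ((P.2.map O.subtype).to_le hKP).comap_subtype
  have hKcore : K ≤ Cfsg.pCore p G := by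
    have h1 : K.subgroupOf O ≤ Cfsg.pCore p O := Core.le_pCore' hKn hKp
    have h2 : ((Cfsg.pCore p O).map O.subtype).Normal := ConjAct.normal_of_characteristic_of_normal
    have h3 : (Cfsg.pCore p O).map O.subtype ≤ Cfsg.pCore p G :=
      Core.le_pCore' h2 ((Core.pCore_isPGroup p O).map _)
    refine le_trans ?_ h3
    rw [← map_subgroupOf_eq_of_le hKO]
    exact map_mono h1
  -- the product lies in the core and is inverted
  set i := d * (g * d * g⁻¹) with hi
  have hiO : i ∈ O := by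
    have h1 := zStarHolds G d hiso g
    rw [Invol.inv_eq_self hd] at h1
    simpa [hi, mul_assoc] using h1
  have hdi : d * i * d⁻¹ = i⁻¹ := by
    have he : orderOf (g * d * g⁻¹) = 2 := by rw [Invol.orderOf_conj_eq, hd]
    rw [hi, mul_inv_rev, Invol.inv_eq_self he, Invol.inv_eq_self hd, ← mul_assoc d d,
      Invol.inv_mul_self hd, one_mul]
  obtain ⟨n, hn⟩ : Odd (orderOf i) :=
    odd_card_oddCore.of_dvd_nat (Subgroup.orderOf_dvd_natCard _ hiO)
  -- `i` is a square of an element it contains, so it is a commutator with `d`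
  have hj : (i ^ n)⁻¹ * (i ^ n)⁻¹ = i := by
    rw [← mul_inv_rev, inv_eq_iff_mul_eq_one, ← pow_add, ← pow_succ,
      show n + n + 1 = 2 * n + 1 by omega, ← hn, pow_orderOf_eq_one]
  have hmem : (i ^ n)⁻¹ * (d * i ^ n * d⁻¹) ∈ K := subset_closure ⟨_, pow_mem hiO n, rfl⟩
  rw [← conj_pow, hdi, inv_pow, hj] at hmem
  exact hKcore hmem

end Cfsg.Lib.ZStar
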