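import Cfsg.Agent.Lib.ZStar.QuaternionLarge
import Mathlib.GroupTheory.Transfer

/-!
The derived subgroup of a generalized quaternion Sylow 2-subgroup of order at least 16.
-/

set_option autoImplicit false
set_option linter.unusedSectionVars false
set_option linter.style.haveILetI false

namespace Cfsg.Lib.ZStar

open Cfsg Subgroup
open scoped commutatorElement

universe u

variable {G : Type u} [Group G] [Finite G]

/-- The derived subgroup is generated by the square of the long generator. -/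
theorem quaternion_derived (S : Sylow 2 G) {a y : G} (haS : a ∈ (S : Subgroup G))
    (hyS : y ∈ (S : Subgroup G)) (hya : y * a * y⁻¹ = a⁻¹)
    (hdec : ∀ s ∈ (S : Subgroup G), s ∈ zpowers a ∨ y⁻¹ * s ∈ zpowers a) :
    ⁅(S : Subgroup G), (S : Subgroup G)⁆ = zpowers (a ^ 2) := by
  have hc : ∀ i : ℤ, y * a ^ i * y⁻¹ = a ^ (-i) := fun i => by
    rw [← conj_zpow, hya, inv_zpow']
  have hm : ∀ i : ℤ, a ^ (2 * i) ∈ zpowers (a ^ 2) := fun i => by
    rw [zpow_mul, show (2 : ℤ) = ((2 : ℕ) : ℤ) from rfl, zpow_natCast]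
    exact zpow_mem (mem_zpowers _) i
  refine le_antisymm (Subgroup.commutator_le.2 fun s hs t ht => ?_) (zpowers_le.2 ?_)
  · rw [commutatorElement_def]
    rcases hdec s hs with h | h <;> obtain ⟨i, hi⟩ := mem_zpowers_iff.1 h <;>
      rcases hdec t ht with h' | h' <;> obtain ⟨j, hj⟩ := mem_zpowers_iff.1 h'
    · rw [← hi, ← hj, show a ^ i * a ^ j * (a ^ i)⁻¹ * (a ^ j)⁻¹ = 1 by group]
      exact one_mem _
    · rw [eq_inv_mul_iff_mul_eq] at hj
      rw [← hi, ← hj, show a ^ i * (y * a ^ j) * (a ^ i)⁻¹ * (y * a ^ j)⁻¹ =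
        a ^ i * (y * a ^ (-i) * y⁻¹) by group, hc, neg_neg, ← zpow_add, ← two_mul]
      exact hm i
    · rw [eq_inv_mul_iff_mul_eq] at hi
      rw [← hi, ← hj, show y * a ^ i * a ^ j * (y * a ^ i)⁻¹ * (a ^ j)⁻¹ =
        (y * a ^ j * y⁻¹) * a ^ (-j) by group, hc, ← zpow_add, ← two_mul]
      exact hm (-j)
    · rw [eq_inv_mul_iff_mul_eq] at hi hj
      rw [← hi, ← hj, show y * a ^ i * (y * a ^ j) * (y * a ^ i)⁻¹ * (y * a ^ j)⁻¹ =
        (y * a ^ i * y⁻¹) * (y * (y * a ^ (j - i) * y⁻¹) * y⁻¹) * (y * a ^ (-j) * y⁻¹) by group,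
        hc, hc, hc, hc, neg_neg, neg_neg, ← zpow_add, ← zpow_add,
        show -i + (j - i) + j = 2 * (j - i) by ring]
      exact hm _
  · have h := Subgroup.commutator_mem_commutator haS hyS
    have e : ⁅a, y⁆ = a ^ 2 := by
      rw [commutatorElement_def, show a * y * a⁻¹ * y⁻¹ = a * (y * a * y⁻¹)⁻¹ by group, hya,
        inv_inv, pow_two]
    rwa [e] at h

/-- Centralizer and normalizer of the derived subgroup. -/
theorem quaternion_derived_local (S : Sylow 2 G) {n : ℕ}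
    (e : (S : Subgroup G) ≃* QuaternionGroup (2 ^ (n + 2))) :
    ∃ a : G, a ∈ (S : Subgroup G) ⊓ centralizer (zpowers (a ^ 2) : Set G) ∧
      ⁅(S : Subgroup G), (S : Subgroup G)⁆ = zpowers (a ^ 2) ∧
      orderOf a = 2 ^ (n + 3) ∧
      (S : Subgroup G) ≤ normalizer (zpowers (a ^ 2) : Set G) ∧
      (∃ K : Subgroup G, Odd (Nat.card K) ∧ K ≤ centralizer (zpowers (a ^ 2) : Set G) ∧
        normalizer (zpowers (a ^ 2) : Set G) ≤ normalizer (K : Set G) ∧
        K ⊔ (S : Subgroup G) = normalizer (zpowers (a ^ 2) : Set G) ∧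
        K ⊔ ((S : Subgroup G) ⊓ centralizer (zpowers (a ^ 2) : Set G)) =
          centralizer (zpowers (a ^ 2) : Set G) ∧
        ((centralizer (zpowers (a ^ 2) : Set G)).subgroupOf
          (normalizer (zpowers (a ^ 2) : Set G))).index = 2) ∧
      ∀ x ∈ centralizer (zpowers (a ^ 2) : Set G), ∀ k : ℕ, orderOf x = 2 ^ k →
        ∃ c ∈ centralizer (zpowers (a ^ 2) : Set G), c * x * c⁻¹ ∈ zpowers a := by
  classical
  haveI : Fact (Nat.Prime 2) := ⟨Nat.prime_two⟩
  obtain ⟨a, y, haS, hyS, hoa, hya, hdec, hcardS, -⟩ := exists_quaternion_generators S e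
  set D := zpowers (a ^ 2) with hD
  set C := centralizer (D : Set G) with hC
  set N := normalizer (D : Set G) with hN
  have hmemC : ∀ x : G, x ∈ C ↔ x * a ^ 2 * x⁻¹ = a ^ 2 := by
    intro x
    rw [hC, mem_centralizer_iff, mul_inv_eq_iff_eq_mul]
    refine ⟨fun h => (h _ (mem_zpowers _)).symm, fun h w hw => ?_⟩
    obtain ⟨i, rfl⟩ := mem_zpowers_iff.1 hw
    exact ((show Commute x (a ^ 2) from h).zpow_right i).eq.symm
  have haC : a ∈ C := (hmemC a).2 (by group)
  have hoa2 : orderOf (a ^ 2) = 2 ^ (n + 2) := by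
    rw [orderOf_pow_of_dvd two_ne_zero (hoa ▸ dvd_pow_self 2 (by omega)), hoa, pow_succ,
      Nat.mul_div_cancel _ two_pos]
  have hyC : y ∉ C := fun h => by
    have h1 := (hmemC y).1 h
    rw [← conj_pow, hya, inv_pow, inv_eq_iff_mul_eq_one, ← pow_two] at h1
    have h2 := Nat.le_of_dvd two_pos (orderOf_dvd_of_pow_eq_one h1)
    rw [hoa2] at h2
    have : 2 ^ 2 ≤ 2 ^ (n + 2) := Nat.pow_le_pow_right two_pos (by omega)
    omega
  have hDeq : ⁅(S : Subgroup G), (S : Subgroup G)⁆ = D := quaternion_derived S haS hyS hya hdec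
  have hSN : (S : Subgroup G) ≤ N := by
    intro s hs
    have hle : ∀ g ∈ (S : Subgroup G), ∀ w ∈ D, g * w * g⁻¹ ∈ D := by
      intro g hg w hw
      rw [← hDeq] at hw ⊢
      have : ⁅(S : Subgroup G), (S : Subgroup G)⁆.map (MulAut.conj g).toMonoidHom ≤
          ⁅(S : Subgroup G), (S : Subgroup G)⁆ := by
        rw [Subgroup.map_commutator]
        refine Subgroup.commutator_mono ?_ ?_ <;>
        · rintro _ ⟨v, hv, rfl⟩
          exact mul_mem (mul_mem hg hv) (inv_mem hg)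
      exact this ⟨w, hw, rfl⟩
    refine mem_normalizer_iff.2 fun w => ⟨hle s hs w, fun hw => ?_⟩
    have h1 := hle s⁻¹ (inv_mem hs) _ hw
    rwa [inv_inv, show s⁻¹ * (s * w * s⁻¹) * s = w by group] at h1
  have hCN : C ≤ N := fun x hx => by
    refine mem_normalizer_iff.2 fun w => ?_
    constructor
    · intro hw; rwa [← (mem_centralizer_iff.1 hx w hw), mul_inv_cancel_right]
    · intro hw
      have h1 := mem_centralizer_iff.1 (inv_mem hx) _ hw
      have h2 : w = x * w * x⁻¹ := by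
        calc w = x⁻¹ * (x * w * x⁻¹) * x := by group
          _ = x * w * x⁻¹ := by rw [← h1]; group
      rwa [h2]
  have hidx : ∃ b, (C.subgroupOf N).index = 2 ^ b := by
    haveI : IsCyclic D := inferInstanceAs (IsCyclic (zpowers (a ^ 2)))
    rw [hC, hN, ← normalizerMonoidHom_ker, index_ker]
    have h1 := card_subgroup_dvd_card D.normalizerMonoidHom.range
    rw [IsCyclic.card_mulAut, show Nat.card D = 2 ^ (n + 2) by rw [hD, Nat.card_zpowers, hoa2],
      Nat.totient_prime_pow Nat.prime_two (by omega), show (2 : ℕ) - 1 = 1 from rfl, mul_one] at h1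
    obtain ⟨b, -, hb⟩ := (Nat.dvd_prime_pow Nat.prime_two).1 h1
    exact ⟨b, hb⟩
  obtain ⟨b, hb⟩ := hidx
  have hb0 : b ≠ 0 := by
    rintro rfl
    rw [pow_zero, index_eq_one, subgroupOf_eq_top] at hb
    exact hyC (hb (hSN hyS))
  have hcardN : Nat.card N = Nat.card C * 2 ^ b := by
    rw [← (C.subgroupOf N).card_mul_index, hb,
      Nat.card_congr (subgroupOfEquivOfLe hCN).toEquiv]
  obtain ⟨m, hm⟩ : 2 ^ (n + 3) ∣ Nat.card C := by
    rw [show n + 3 = n + 2 + 1 from rfl, ← hoa]; exact Subgroup.orderOf_dvd_natCard _ haC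
  have hbound : ∀ j, 2 ^ j ∣ Nat.card N → j ≤ n + 4 := by
    intro j hj
    have h1 := (Nat.prime_two.pow_dvd_iff_le_factorization Nat.card_pos.ne').1
      (hj.trans (card_subgroup_dvd_card N))
    have h2 := S.card_eq_multiplicity
    rw [hcardS, Nat.pow_right_inj one_lt_two] at h2
    omega
  have hmodd : Odd m := by
    rw [← Nat.not_even_iff_odd]
    intro he
    obtain ⟨m', rfl⟩ := even_iff_two_dvd.1 he
    have := hbound (n + 5) (by
      rw [hcardN, hm]
      obtain ⟨b', rfl⟩ := Nat.exists_eq_succ_of_ne_zero hb0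
      exact ⟨m' * 2 ^ b', by rw [Nat.succ_eq_add_one]; ring⟩)
    omega
  have hb1 : b = 1 := by
    have := hbound (n + 3 + b) (by rw [hcardN, hm]; exact ⟨m, by ring⟩)
    omega
  subst hb1
  set A : Subgroup C := zpowers (⟨a, haC⟩ : C) with hA
  have hcardA : Nat.card A = 2 ^ (n + 3) := by
    rw [hA, Nat.card_zpowers, Subgroup.orderOf_mk, hoa]
  have hpidx : ¬ 2 ∣ A.index := by
    have h1 := A.card_mul_index
    rw [hcardA, hm] at h1
    rw [Nat.eq_of_mul_eq_mul_left (Nat.two_pow_pos _) h1, ← even_iff_two_dvd,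
      Nat.not_even_iff_odd]
    exact hmodd
  set P : Sylow 2 C := (IsPGroup.of_card hcardA).toSylow hpidx with hP
  have hPA : (P : Subgroup C) = A := IsPGroup.toSylow_coe _ _
  have hPc : IsCyclic (P : Subgroup C) := by
    rw [hPA]; exact inferInstanceAs (IsCyclic (zpowers (⟨a, haC⟩ : C)))
  have hmin : (Nat.card C).minFac = 2 := Nat.minFac_eq_two_iff _ |>.mpr
    (hm ▸ dvd_mul_of_dvd_left (dvd_pow_self 2 (by omega)) m)
  set T := MonoidHom.transferSylow P (hPc.normalizer_le_centralizer hmin) with hT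
  have hcompl : T.ker.IsComplement' (P : Subgroup C) := IsCyclic.isComplement' hmin hPc
  have hKcard : Nat.card T.ker = m := by
    have hcardP : Nat.card (P : Subgroup C) = 2 ^ (n + 3) := by rw [hPA, hcardA]
    have h1 := hcompl.card_mul_card
    rw [hcardP, hm, mul_comm] at h1
    exact Nat.eq_of_mul_eq_mul_left (Nat.two_pow_pos _) h1
  set K : Subgroup G := T.ker.map C.subtype with hK
  have hKodd : Odd (Nat.card K) := by
    rw [hK, card_map_of_injective C.subtype_injective, hKcard]; exact hmodd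
  have hKC : K ≤ C := map_subtype_le _
  have hKmem : ∀ x ∈ C, Odd (orderOf x) → x ∈ K := by
    intro x hx hodd
    refine ⟨⟨x, hx⟩, ?_, rfl⟩
    show T ⟨x, hx⟩ = 1
    have h1 : orderOf (T ⟨x, hx⟩) ∣ orderOf x := by
      rw [← Subgroup.orderOf_mk x hx]; exact orderOf_map_dvd T _
    obtain ⟨k, hk⟩ := IsPGroup.iff_orderOf.1 P.2 (T ⟨x, hx⟩)
    exact orderOf_eq_one_iff.1 (Nat.eq_one_of_dvd_coprimes
      (Nat.Coprime.pow_left k (Nat.coprime_two_left.2 hodd)) (hk ▸ dvd_rfl) h1)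
  have hKn : ∀ g ∈ N, ∀ x ∈ K, g * x * g⁻¹ ∈ K := by
    intro g hg x hx
    refine hKmem _ (mem_centralizer_iff.2 fun w hw => ?_) ?_
    · have h1 : g⁻¹ * w * g ∈ D := by
        have := (mem_normalizer_iff.1 (inv_mem hg) w).1 hw
        rwa [inv_inv] at this
      have h2 := mem_centralizer_iff.1 (hKC hx) _ h1
      calc w * (g * x * g⁻¹) = g * ((g⁻¹ * w * g) * x) * g⁻¹ := by group
        _ = g * (x * (g⁻¹ * w * g)) * g⁻¹ := by rw [h2]
        _ = g * x * g⁻¹ * w := by group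
    · rw [Invol.orderOf_conj_eq]
      exact hKodd.of_dvd_nat (Subgroup.orderOf_dvd_natCard _ hx)
  have hKcard' : Nat.card K = m := by rw [hK, card_map_of_injective C.subtype_injective, hKcard]
  have hsup : ∀ (X : Subgroup G) (j : ℕ), 2 ^ j ∣ Nat.card X → ∀ Y : Subgroup G, K ≤ Y → X ≤ Y →
      Nat.card Y = 2 ^ j * m → K ⊔ X = Y := by
    intro X j hX Y hKY hXY hY
    refine eq_of_le_of_card_ge (sup_le hKY hXY) ?_
    rw [hY]
    refine Nat.le_of_dvd Nat.card_pos (Nat.Coprime.mul_dvd_of_dvd_of_dvd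
      (Nat.Coprime.pow_left j (Nat.coprime_two_left.2 hmodd))
      (hX.trans (card_dvd_of_le le_sup_right)) ?_)
    rw [← hKcard']; exact card_dvd_of_le le_sup_left
  refine ⟨a, mem_inf.2 ⟨haS, haC⟩, hDeq, hoa, hSN, ⟨K, hKodd, hKC, fun g hg => ?_, ?_, ?_, ?_⟩,
    fun x hx k hk => ?_⟩
  · refine mem_normalizer_iff.2 fun x => ⟨hKn g hg x, fun hx => ?_⟩
    have h1 := hKn g⁻¹ (inv_mem hg) _ hx
    rwa [inv_inv, show g⁻¹ * (g * x * g⁻¹) * g = x by group] at h1
  · exact hsup _ (n + 4) (hcardS ▸ dvd_rfl) _ (hKC.trans hCN) hSN (by rw [hcardN, hm]; ring)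
  · refine hsup _ (n + 3) ?_ _ hKC inf_le_right hm
    rw [show n + 3 = n + 2 + 1 from rfl, ← hoa]
    exact Subgroup.orderOf_dvd_natCard _ (mem_inf.2 ⟨haS, haC⟩)
  · rw [hb, pow_one]
  · obtain ⟨c, hc⟩ := Invol.exists_conj_mem_sylow P
      (IsPGroup.of_card (n := k) (by rw [Nat.card_zpowers, Subgroup.orderOf_mk, hk]) :
        IsPGroup 2 (zpowers (⟨x, hx⟩ : C)))
    refine ⟨c, c.2, ?_⟩
    have h1 := hc _ (mem_zpowers _)
    rw [hPA] at h1
    obtain ⟨i, hi⟩ := mem_zpowers_iff.1 h1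
    exact ⟨i, by simpa using congrArg Subtype.val hi⟩

end Cfsg.Lib.ZStar
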