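import Cfsg.Agent.Lib.ZStar.Basic
import Cfsg.Agent.Lib.Block.SubsectionApps
import Cfsg.Agent.Lib.Block.RegInt
import Cfsg.Agent.Lib.Char.Formulas
import Cfsg.Agent.S0942

/-!
The inductive step of the theorem on isolated involutions with two classes of involutions.
-/

set_option autoImplicit false
set_option linter.unusedSectionVars false
set_option linter.style.haveILetI false

namespace Cfsg.Lib.ZStar

open Cfsg Subgroup
open scoped ComplexConjugate

universe u

variable {G : Type u} [Group G] [Finite G]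

/-- Products of members of the two classes have equal values in the principal 2-block. -/
theorem apply_mul_conj_eq (ih : ZStarBelow.{u} (Nat.card G))
    (hnc : ∀ w : G, orderOf w = 2 → ∃ k : G, ¬ Commute w k)
    {M : Ideal AlgInt} (hM : IsPModular 2 M) {z v : G} (hz : IsIsolatedInvolution z)
    (hv : orderOf v = 2) (hzv : Commute z v) (hne : ¬ IsConj z v)
    {χ : IrrCharacter G} (hχ : χ ∈ principalBlock M G) (k : G) :
    (χ : G → ℂ) (z * (k * v * k⁻¹)) = (χ : G → ℂ) (z * v) := by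
  haveI : Fact (Nat.Prime 2) := ⟨Nat.prime_two⟩
  set v' := k * v * k⁻¹ with hv'
  have ho' : orderOf v' = 2 := by rw [hv', Invol.orderOf_conj_eq, hv]
  have hconj' : IsConj v v' := isConj_iff.2 ⟨k, rfl⟩
  set r := z * v' with hr
  have heven : Even (orderOf r) := by
    rw [← Nat.not_odd_iff_even]
    intro hodd
    exact hne ((Invol.isConj_of_odd hz.1 ho' hodd).trans hconj'.symm)
  obtain ⟨hw, hwz, hwv⟩ := Invol.central_involution hz.1 ho' heven
  set m := orderOf r / 2 with hm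
  set w := r ^ m with hw_def
  have h2m : orderOf r = 2 * m := by
    obtain ⟨j, hj⟩ := heven
    omega
  have hinv : z * r * z⁻¹ = r⁻¹ := Invol.conj_mul_left hz.1 ho'
  have hzz := Invol.inv_mul_self hz.1
  have hmodd : Odd m := by
    rw [← Nat.not_even_iff_odd]
    rintro ⟨j, hj⟩
    have h1 : r ^ (j : ℤ) * z * (r ^ (j : ℤ))⁻¹ = z * w := by
      rw [Invol.zpow_mul_of_inverts hzz hinv, mul_assoc, ← zpow_neg, ← zpow_add, hw_def,
        ← zpow_natCast r m]
      congr 1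
      rw [zpow_eq_zpow_iff_modEq, h2m, Int.modEq_iff_dvd]
      exact ⟨1, by push_cast [hj]; ring⟩
    have h2 := hz.2 (r ^ (j : ℤ)) (h1.symm ▸ (Commute.refl z).mul_right hwz.symm)
    rw [h1, mul_eq_left] at h2
    exact Invol.ne_one hw h2
  set y := r ^ (m + 1) with hy
  have hry : r = w * y := by
    rw [hw_def, hy, ← pow_add, show m + (m + 1) = orderOf r + 1 by omega, pow_succ,
      pow_orderOf_eq_one, one_mul]
  have hyodd : Odd (orderOf y) := by
    refine hmodd.of_dvd_nat (orderOf_dvd_of_pow_eq_one ?_)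
    obtain ⟨j, hj⟩ := hmodd
    rw [hy, ← pow_mul, show (m + 1) * m = orderOf r * (j + 1) by rw [h2m, hj]; ring, pow_mul,
      pow_orderOf_eq_one, one_pow]
  have hyinv : z * y * z⁻¹ = y⁻¹ := by rw [hy, ← conj_pow, hinv, inv_pow]
  -- the odd part lies in the odd core of the centralizer
  set C : Subgroup G := centralizer ({w} : Set G) with hC
  have hzC : z ∈ C := mem_centralizer_singleton_iff.2 hwz.eq.symm
  have hyC : y ∈ C := mem_centralizer_singleton_iff.2 ((Commute.refl r).pow_pow (m + 1) m).eq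
  have hlt : Nat.card C < Nat.card G := by
    refine lt_of_le_of_ne (card_le_card_group C) fun h => ?_
    obtain ⟨t, ht⟩ := hnc w hw
    have htC : t ∈ C := by rw [eq_top_of_card_eq C h]; exact mem_top t
    exact ht (mem_centralizer_singleton_iff.1 htC).symm
  have hyO : (⟨y, hyC⟩ : C) ∈ oddCore C := by
    have h1 := ih C hlt ⟨z, hzC⟩ (isolated_subgroup hz C hzC) ⟨y, hyC⟩
    have h2 : ((⟨z, hzC⟩ : C) * ⟨y, hyC⟩ * (⟨z, hzC⟩ : C)⁻¹ * (⟨y, hyC⟩ : C)⁻¹) =
        (⟨y, hyC⟩ : C)⁻¹ * (⟨y, hyC⟩ : C)⁻¹ := by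
      refine Subtype.ext ?_
      simp only [Subgroup.coe_mul, InvMemClass.coe_inv, hyinv]
    rw [h2] at h1
    obtain ⟨j, hj⟩ := hyodd
    have h3 : (((⟨y, hyC⟩ : C)⁻¹ * (⟨y, hyC⟩ : C)⁻¹)⁻¹) ^ (j + 1) = ⟨y, hyC⟩ := by
      refine Subtype.ext ?_
      simp only [SubmonoidClass.coe_pow, Subgroup.coe_mul, mul_inv_rev,
        inv_inv]
      rw [← pow_two, ← pow_mul, show 2 * (j + 1) = orderOf y + 1 by omega, pow_succ,
        pow_orderOf_eq_one, one_mul]
    rw [← h3]
    exact pow_mem (inv_mem h1) _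
  have hval : (χ : G → ℂ) r = (χ : G → ℂ) w := by
    rw [hry]
    exact Cfsg.Agent.S0942.result 2 M hM w ⟨1, by rw [hw, pow_one]⟩ y ⟨_, hyO, rfl⟩ χ hχ
  -- `w` is conjugate to `z * v`
  have hconj : IsConj (z * w) v := by
    refine IsConj.trans ?_ hconj'.symm
    obtain ⟨j, hj⟩ := hyodd
    have hwy : Commute w y := (Commute.refl r).pow_pow m (m + 1)
    have hyzw : z * w * y * (z * w)⁻¹ = y⁻¹ := by
      rw [show z * w * y * (z * w)⁻¹ = z * (w * y * w⁻¹) * z⁻¹ by group, hwy.eq,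
        mul_inv_cancel_right, hyinv]
    refine isConj_iff.2 ⟨y ^ (j : ℤ), ?_⟩
    have hzw : z * w * (z * w) = 1 := by
      rw [mul_assoc, ← mul_assoc w, hwz.eq, mul_assoc z w, Invol.inv_mul_self hw, mul_one, hzz]
    have hv'eq : v' = z * w * y := by
      rw [mul_assoc, ← hry, hr, ← mul_assoc, hzz, one_mul]
    rw [hv'eq, Invol.zpow_mul_of_inverts hzw hyzw, mul_assoc, ← zpow_neg, ← zpow_add]
    congr 1
    conv_rhs => rw [← zpow_one y]
    rw [zpow_eq_zpow_iff_modEq, hj, Int.modEq_iff_dvd]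
    exact ⟨1, by push_cast; ring⟩
  obtain ⟨c₀, hc₀⟩ := isConj_iff.1 hconj.symm
  obtain ⟨c, -, hcz, hcv⟩ := Invol.isolated_fusion hz (H := ⊤) (x := v) (y := z * w) (h := c₀)
    (fun _ _ => mem_top _) (mem_top _) hzv.symm ((Commute.refl z).mul_left hwz) hc₀
  have hzvw : c * (z * v) * c⁻¹ = w := by
    rw [show c * (z * v) * c⁻¹ = (c * z * c⁻¹) * (c * v * c⁻¹) by group, hcv, hcz.eq,
      mul_inv_cancel_right, ← mul_assoc, hzz, one_mul]
  rw [hval, ← hzvw, χ.2.isCharacter.conj_invariant]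

/-- The product relation in the principal block. -/
theorem apply_mul_apply_eq [Fintype G] (ih : ZStarBelow.{u} (Nat.card G))
    (hnc : ∀ w : G, orderOf w = 2 → ∃ k : G, ¬ Commute w k)
    {M : Ideal AlgInt} (hM : IsPModular 2 M) {z v : G} (hz : IsIsolatedInvolution z)
    (hv : orderOf v = 2) (hzv : Commute z v) (hne : ¬ IsConj z v)
    {χ : IrrCharacter G} (hχ : χ ∈ principalBlock M G) :
    (χ : G → ℂ) z * (χ : G → ℂ) v = (χ : G → ℂ) 1 * (χ : G → ℂ) (z * v) := by
  have h := Char.sum_char_mul_conj χ.2 z v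
  simp only [apply_mul_conj_eq ih hnc hM hz hv hzv hne hχ, Finset.sum_const, Finset.card_univ,
    nsmul_eq_mul, ← Nat.card_eq_fintype_card] at h
  have h1 := χ.2.apply_one_ne_zero
  rw [mul_assoc, mul_div_assoc] at h
  have h2 := mul_left_cancel₀ Char.card_cast_ne_zero h
  rw [h2]
  field_simp

/-- An element where the norm of a character is its degree commutes modulo the kernel. -/
theorem apply_commutator_of_norm_eq {χ : G → ℂ} (hχ : IsCharacter G χ) {a : G}
    (ha : ‖χ a‖ = ‖χ 1‖) (g : G) : χ (a * g * a⁻¹ * g⁻¹) = χ 1 := by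
  obtain ⟨n, ρ, rfl⟩ := hχ
  rw [Representation.char_one] at ha ⊢
  have hscal : ‖ρ.character a‖ = (Module.finrank ℂ (Fin n → ℂ) : ℝ) := by rw [ha]; simp
  obtain ⟨c, hc⟩ := (Char.norm_character_eq_iff ρ a).1 hscal
  rw [Char.character_eq_finrank_iff]
  have h1 : ρ a * ρ g = ρ g * ρ a := by
    rw [hc]
    ext x
    simp
  rw [map_mul, map_mul, map_mul, h1, mul_assoc (ρ g), ← map_mul, mul_inv_cancel, map_one, mul_one,
    ← map_mul, mul_inv_cancel, map_one]
  rfl

/-- An isolated involution commuting with an involution of another class is central. -/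
theorem central_of_two_classes (ih : ZStarBelow.{u} (Nat.card G)) (hO : oddCore G = ⊥)
    {z v : G} (hz : IsIsolatedInvolution z) (hv : orderOf v = 2) (hzv : Commute z v)
    (hne : v ≠ z) (g : G) : Commute z g := by
  classical
  by_cases hcent : ∃ w : G, orderOf w = 2 ∧ ∀ k, Commute w k
  · obtain ⟨w, hw, hwc⟩ := hcent
    by_cases hwz : z = w
    · exact hwz ▸ hwc g
    · exact central_of_central_involution ih hO hz hw hwc hwz g
  push Not at hcent
  haveI := Fintype.ofFinite G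
  haveI : Fact (Nat.Prime 2) := ⟨Nat.prime_two⟩
  obtain ⟨M, hM⟩ := Block.exists_isPModular Nat.prime_two
  set B := principalBlock M G with hB
  have hB' : IsPBlock M B := Block.isPBlock_principal
  have hnconj : ∀ x : G, Commute z x → x ≠ z → ¬ IsConj z x := by
    intro x hx hxz hc
    obtain ⟨k, rfl⟩ := isConj_iff.1 hc
    exact hxz (hz.2 k hx)
  have hzv2 : orderOf (z * v) = 2 := by
    refine Invol.orderOf_eq_two_of (fun h => hne ?_) ?_
    · exact (eq_inv_of_mul_eq_one_right h).trans (Invol.inv_eq_self hz.1)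
    · rw [hzv.symm.mul_mul_mul_comm, Invol.inv_mul_self hz.1, Invol.inv_mul_self hv, one_mul]
  have hzzv : z * (z * v) = v := by rw [← mul_assoc, Invol.inv_mul_self hz.1, one_mul]
  have hzvz : z * v ≠ z := fun h => Invol.ne_one hv (mul_eq_left.1 h)
  have e1 : ∀ χ : IrrCharacter G, χ ∈ B →
      (χ : G → ℂ) z * (χ : G → ℂ) v = (χ : G → ℂ) 1 * (χ : G → ℂ) (z * v) := fun χ hχ =>
    apply_mul_apply_eq ih hcent hM hz hv hzv (hnconj v hzv hne) hχ
  have e2 : ∀ χ : IrrCharacter G, χ ∈ B →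
      (χ : G → ℂ) z * (χ : G → ℂ) (z * v) = (χ : G → ℂ) 1 * (χ : G → ℂ) v := fun χ hχ => by
    have h := apply_mul_apply_eq ih hcent hM hz hzv2 ((Commute.refl z).mul_right hzv)
      (hnconj _ ((Commute.refl z).mul_right hzv) hzvz) hχ
    rwa [hzzv] at h
  have hnorm : ∀ χ : IrrCharacter G, χ ∈ B → (χ : G → ℂ) v ≠ 0 →
      ‖(χ : G → ℂ) z‖ = ‖(χ : G → ℂ) 1‖ := by
    intro χ hχ hχv
    have h : (χ : G → ℂ) z ^ 2 = (χ : G → ℂ) 1 ^ 2 := by
      refine mul_right_cancel₀ hχv ?_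
      linear_combination (χ : G → ℂ) z * e1 χ hχ + (χ : G → ℂ) 1 * e2 χ hχ
    rcases sq_eq_sq_iff_eq_or_eq_neg.1 h with h | h <;> simp [h]
  set N : Subgroup G := ⨅ χ : {χ : IrrCharacter G // χ ∈ B ∧ (χ : G → ℂ) v ≠ 0},
    Char.charKer χ.1.2.isCharacter with hN
  haveI hNn : N.Normal := normal_iInf_normal fun χ => Char.charKer_normal _
  have hcomm : ∀ k : G, z * k * z⁻¹ * k⁻¹ ∈ N := fun k => mem_iInf.2 fun χ =>
    (Char.mem_charKer _).2 (apply_commutator_of_norm_eq χ.1.2.isCharacter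
      (hnorm χ.1 χ.2.1 χ.2.2) k)
  set L : Subgroup G := N ⊔ zpowers z with hL
  have hzL : z ∈ L := mem_sup_right (mem_zpowers z)
  haveI hLn : L.Normal := by
    refine normalizer_eq_top_iff.1 (eq_top_iff.2 fun k _ => mem_normalizer_iff.2 fun x => ?_)
    have hle : ∀ k : G, ∀ x ∈ L, k * x * k⁻¹ ∈ L := by
      intro k x hx
      have hmap : L.map (MulAut.conj k).toMonoidHom ≤ L := by
        rw [hL, Subgroup.map_sup, MonoidHom.map_zpowers]
        refine sup_le ?_ (zpowers_le.2 ?_)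
        · rintro _ ⟨n, hn, rfl⟩
          exact mem_sup_left (hNn.conj_mem n hn k)
        · show k * z * k⁻¹ ∈ L
          rw [show k * z * k⁻¹ = (z * k * z⁻¹ * k⁻¹)⁻¹ * z by group]
          exact mul_mem (inv_mem (mem_sup_left (hcomm k))) hzL
      exact hmap ⟨x, hx, rfl⟩
    refine ⟨hle k x, fun h => ?_⟩
    have h1 := hle k⁻¹ _ h
    rwa [inv_inv, show k⁻¹ * (k * x * k⁻¹) * k = x by group] at h1
  by_cases hLtop : L = ⊤
  swap
  · exact central_of_normal_mem ih hO hz L hLtop hzL g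
  exfalso
  -- column orthogonality against a 2-singular element
  have horth : ∀ x : G, orderOf x = 2 →
      ∑ χ ∈ B.toFinset, (χ : G → ℂ) 1 * conj ((χ : G → ℂ) x) = 0 := by
    intro x hx
    rw [← finsum_mem_eq_toFinset_sum]
    refine Block.sum_block_mul_conj_eq_zero hM (Block.vInt_indVec hM hB')
      (Block.not_isConj_pPt_of_dvd ?_ ?_)
    · rw [orderOf_one]; norm_num
    · rw [hx]
  have hpos : ∀ x : G, orderOf x = 2 →
      (∀ χ : IrrCharacter G, χ ∈ B → (χ : G → ℂ) v ≠ 0 → (χ : G → ℂ) x = (χ : G → ℂ) 1) →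
      (∀ χ : IrrCharacter G, χ ∈ B → (χ : G → ℂ) v = 0 → (χ : G → ℂ) x = 0) → False := by
    intro x hx hx1 hx0
    have h := horth x hx
    have key : ∀ χ ∈ B.toFinset, (χ : G → ℂ) 1 * conj ((χ : G → ℂ) x) =
        ((if (χ : G → ℂ) v = 0 then 0 else ‖(χ : G → ℂ) 1‖ ^ 2 : ℝ) : ℂ) := by
      intro χ hχ
      rw [Set.mem_toFinset] at hχ
      by_cases h0 : (χ : G → ℂ) v = 0
      · rw [if_pos h0, hx0 χ hχ h0]; simp
      · rw [if_neg h0, hx1 χ hχ h0, Complex.mul_conj']; push_cast; rfl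
    rw [Finset.sum_congr rfl key, ← Complex.ofReal_sum, Complex.ofReal_eq_zero] at h
    have hmem : Block.trivChar G ∈ B.toFinset :=
      Set.mem_toFinset.2 (Block.trivChar_mem_principal hM)
    have h1 := (Finset.sum_eq_zero_iff_of_nonneg fun χ _ => by split_ifs <;> positivity).1 h
      (Block.trivChar G) hmem
    simp [Block.trivChar_coe] at h1
  have hmemN : ∀ x ∈ N, ∀ χ : IrrCharacter G, χ ∈ B → (χ : G → ℂ) v ≠ 0 →
      (χ : G → ℂ) x = (χ : G → ℂ) 1 := fun x hx χ hχ h0 =>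
    (Char.mem_charKer χ.2.isCharacter).1 (mem_iInf.1 hx ⟨χ, hχ, h0⟩)
  have hvN : v ∉ N := fun h => hpos v hv (hmemN v h) fun χ _ h0 => h0
  obtain ⟨a, ha, b, hb, hab⟩ := mem_sup_of_normal_left.1 (hL ▸ hLtop ▸ mem_top v :
    v ∈ N ⊔ zpowers z)
  obtain ⟨i, rfl⟩ := mem_zpowers_iff.1 hb
  rw [← zpow_mod_orderOf, hz.1] at hab
  rcases Int.emod_two_eq i with hi | hi
  · rw [Nat.cast_ofNat, hi, zpow_zero, mul_one] at hab
    exact hvN (hab ▸ ha)
  · rw [Nat.cast_ofNat, hi, zpow_one] at hab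
    have hzvN : z * v ∈ N := by
      rw [← hab, ← mul_assoc]
      have h1 := hNn.conj_mem a ha z
      rwa [Invol.inv_eq_self hz.1] at h1
    refine hpos (z * v) hzv2 (hmemN _ hzvN) fun χ hχ h0 => ?_
    have h1 := e1 χ hχ
    rw [h0, mul_zero] at h1
    exact (mul_eq_zero.1 h1.symm).resolve_left χ.2.apply_one_ne_zero

end Cfsg.Lib.ZStar
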